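import Mathlib.RingTheory.Unramified.LocalStructure
import Mathlib.RingTheory.Etale.Kaehler
import Mathlib.RingTheory.Kaehler.Polynomial
import Mathlib.RingTheory.RingHom.Etale
import Mathlib.RingTheory.Nakayama
import Mathlib.RingTheory.Smooth.Flat
import Mathlib.RingTheory.LocalRing.ResidueField.Basic
import Mathlib.LinearAlgebra.Dimension.Constructions
import Mathlib.RingTheory.Unramified.Basic

/-!
# Etale coordinates on a smooth algebra, and diagonal ideals in them
-/

set_option autoImplicit false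

namespace K984.Chart

open TensorProduct

/-- If `φ : k[x] → L` is unramified, two maps `α β : L → B` to a local ring which are congruent
modulo the maximal ideal generate the same ideal of differences as their restrictions to `k[x]`. -/
theorem span_sub_eq {k : Type*} [CommRing k] {σ : Type*} {L : Type*} [CommRing L] [Algebra k L]
    (φ : MvPolynomial σ k →ₐ[k] L) (hφ : φ.toRingHom.FormallyUnramified)
    (hft : φ.toRingHom.FiniteType)
    {B : Type*} [CommRing B] [IsLocalRing B] [Algebra k B] (α β : L →ₐ[k] B)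
    (h : ∀ a, α a - β a ∈ IsLocalRing.maximalIdeal B) :
    Ideal.span (Set.range fun a => α a - β a) =
      Ideal.span (Set.range fun l : σ => α (φ (MvPolynomial.X l)) - β (φ (MvPolynomial.X l))) := by
  apply le_antisymm
  swap
  · rw [Ideal.span_le]
    rintro _ ⟨l, rfl⟩
    exact Ideal.subset_span ⟨_, rfl⟩
  set 𝔟 := Ideal.span (Set.range fun l : σ =>
    α (φ (MvPolynomial.X l)) - β (φ (MvPolynomial.X l))) with h𝔟
  have h𝔟le : 𝔟 ≤ IsLocalRing.maximalIdeal B := by
    rw [h𝔟, Ideal.span_le]
    rintro _ ⟨l, rfl⟩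
    exact h _
  have hne : 𝔟 ≠ ⊤ := fun he => (IsLocalRing.maximalIdeal.isMaximal B).ne_top
    (top_le_iff.1 (he ▸ h𝔟le))
  haveI : Nontrivial (B ⧸ 𝔟) := Ideal.Quotient.nontrivial_iff.2 hne
  haveI : IsLocalRing (B ⧸ 𝔟) :=
    IsLocalRing.of_surjective' (Ideal.Quotient.mk 𝔟) Ideal.Quotient.mk_surjective
  have hmax : ∀ x ∈ IsLocalRing.maximalIdeal B,
      Ideal.Quotient.mk 𝔟 x ∈ IsLocalRing.maximalIdeal (B ⧸ 𝔟) := by
    intro x hx
    rw [IsLocalRing.mem_maximalIdeal, mem_nonunits_iff]
    intro hu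
    obtain ⟨y, hy⟩ := hu.exists_right_inv
    obtain ⟨y, rfl⟩ := Ideal.Quotient.mk_surjective y
    rw [← map_mul, ← map_one (Ideal.Quotient.mk 𝔟), Ideal.Quotient.mk_eq_mk_iff_sub_mem] at hy
    have h1 := h𝔟le hy
    have h2 : x * y ∈ IsLocalRing.maximalIdeal B := Ideal.mul_mem_right _ _ hx
    have h3 := sub_mem h2 h1
    rw [sub_sub_cancel] at h3
    exact (IsLocalRing.maximalIdeal.isMaximal B).ne_top ((Ideal.eq_top_iff_one _).2 h3)
  let q : B →ₐ[k] B ⧸ 𝔟 := Ideal.Quotient.mkₐ k 𝔟
  have hcomp : (q.comp α).comp φ = (q.comp β).comp φ := by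
    apply MvPolynomial.algHom_ext
    intro l
    change Ideal.Quotient.mk 𝔟 _ = Ideal.Quotient.mk 𝔟 _
    rw [Ideal.Quotient.mk_eq_mk_iff_sub_mem]
    exact Ideal.subset_span ⟨l, rfl⟩
  letI : Algebra (MvPolynomial σ k) L := φ.toRingHom.toAlgebra
  letI : Algebra (MvPolynomial σ k) (B ⧸ 𝔟) := ((q.comp α).comp φ).toRingHom.toAlgebra
  haveI : Algebra.FormallyUnramified (MvPolynomial σ k) L := hφ
  haveI : Algebra.FiniteType (MvPolynomial σ k) L := hft
  let α' : L →ₐ[MvPolynomial σ k] B ⧸ 𝔟 := { (q.comp α).toRingHom with commutes' := fun r => rfl }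
  let β' : L →ₐ[MvPolynomial σ k] B ⧸ 𝔟 :=
    { (q.comp β).toRingHom with
      commutes' := fun r => (DFunLike.congr_fun hcomp r).symm }
  let F : L ⊗[MvPolynomial σ k] L →ₐ[MvPolynomial σ k] B ⧸ 𝔟 :=
    Algebra.TensorProduct.lift α' β' (fun _ _ => Commute.all _ _)
  have hF : ∀ a : L, F ((1 : L) ⊗ₜ[MvPolynomial σ k] a - a ⊗ₜ[MvPolynomial σ k] (1 : L)) =
      Ideal.Quotient.mk 𝔟 (β a - α a) := by
    intro a
    simp only [F, map_sub, Algebra.TensorProduct.lift_tmul, map_one, one_mul, mul_one]
    rfl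
  set J := KaehlerDifferential.ideal (MvPolynomial σ k) L with hJ
  have hJfg : J.FG := KaehlerDifferential.ideal_fg _ _
  have hJid : IsIdempotentElem J := by
    rw [← Ideal.cotangent_subsingleton_iff]
    exact (inferInstance : Subsingleton (KaehlerDifferential (MvPolynomial σ k) L))
  set J' := J.map F.toRingHom with hJ'
  have hJ'fg : J'.FG := hJfg.map _
  have hJ'id : J' * J' = J' := by
    rw [hJ', ← Ideal.map_mul]
    congr 1
  have hJ'le : J' ≤ IsLocalRing.maximalIdeal (B ⧸ 𝔟) := by
    rw [hJ', hJ, ← KaehlerDifferential.span_range_eq_ideal, Ideal.map_span, Ideal.span_le]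
    rintro _ ⟨_, ⟨a, rfl⟩, rfl⟩
    change F _ ∈ _
    rw [hF, ← neg_sub (α a), map_neg]
    exact neg_mem (hmax _ (h a))
  have hbot : J' = ⊥ := by
    apply Submodule.eq_bot_of_le_smul_of_le_jacobson_bot J' J' hJ'fg
    · rw [smul_eq_mul, hJ'id]
    · rw [IsLocalRing.jacobson_eq_maximalIdeal _ bot_ne_top]
      exact hJ'le
  rw [Ideal.span_le]
  rintro _ ⟨a, rfl⟩
  change α a - β a ∈ 𝔟
  have h1 : F ((1 : L) ⊗ₜ[MvPolynomial σ k] a - a ⊗ₜ[MvPolynomial σ k] (1 : L)) ∈ J' :=
    Ideal.mem_map_of_mem F.toRingHom (KaehlerDifferential.one_smul_sub_smul_one_mem_ideal _ a)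
  rw [hbot, hF, Submodule.mem_bot, Ideal.Quotient.eq_zero_iff_mem] at h1
  have := neg_mem h1
  rwa [neg_sub] at this

section dim

variable (k A : Type*) [Field k] [CommRing A] [Algebra k A] [Algebra.Smooth k A] [IsDomain A]

/-- The relative dimension of a smooth domain. -/
noncomputable def dim : ℕ := Module.finrank (FractionRing A) Ω[FractionRing A⁄k]

omit [Algebra.Smooth k A] in
theorem eq_dim {L : Type*} [CommRing L] [Algebra k L] [Algebra A L] [IsScalarTower k A L]
    (f : A) (hf : f ≠ 0) [IsLocalization.Away f L] (n : ℕ) [Algebra (MvPolynomial (Fin n) k) L]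
    [IsScalarTower k (MvPolynomial (Fin n) k) L]
    [Algebra.FormallyEtale (MvPolynomial (Fin n) k) L] : n = dim k A := by
  have hunit : IsUnit (algebraMap A (FractionRing A) f) := by
    rw [isUnit_iff_ne_zero, Ne, FaithfulSMul.algebraMap_eq_zero_iff]
    exact hf
  letI : Algebra L (FractionRing A) := (IsLocalization.Away.lift f hunit).toAlgebra
  haveI : IsScalarTower A L (FractionRing A) := IsScalarTower.of_algebraMap_eq fun x =>
    (IsLocalization.Away.lift_eq f hunit x).symm
  haveI : IsScalarTower k L (FractionRing A) := by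
    apply IsScalarTower.of_algebraMap_eq
    intro x
    rw [IsScalarTower.algebraMap_apply k A (FractionRing A), IsScalarTower.algebraMap_apply k A L,
      ← IsScalarTower.algebraMap_apply A L (FractionRing A)]
  haveI : IsDomain L := IsLocalization.isDomain_of_le_nonZeroDivisors (M := Submonoid.powers f) L
    (powers_le_nonZeroDivisors_of_noZeroDivisors hf)
  haveI : IsFractionRing L (FractionRing A) :=
    IsFractionRing.isFractionRing_of_isDomain_of_isLocalization (Submonoid.powers f) L _
  haveI : Algebra.FormallyEtale L (FractionRing A) :=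
    Algebra.FormallyEtale.of_isLocalization (nonZeroDivisors L)
  letI : Algebra (MvPolynomial (Fin n) k) (FractionRing A) :=
    ((algebraMap L (FractionRing A)).comp (algebraMap (MvPolynomial (Fin n) k) L)).toAlgebra
  haveI : IsScalarTower (MvPolynomial (Fin n) k) L (FractionRing A) :=
    IsScalarTower.of_algebraMap_eq fun x => rfl
  haveI : IsScalarTower k (MvPolynomial (Fin n) k) (FractionRing A) := by
    apply IsScalarTower.of_algebraMap_eq
    intro x
    rw [IsScalarTower.algebraMap_apply (MvPolynomial (Fin n) k) L (FractionRing A),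
      ← IsScalarTower.algebraMap_apply k (MvPolynomial (Fin n) k) L,
      ← IsScalarTower.algebraMap_apply k L (FractionRing A)]
  haveI : Algebra.FormallyEtale (MvPolynomial (Fin n) k) (FractionRing A) :=
    Algebra.FormallyEtale.comp _ L _
  have e := KaehlerDifferential.tensorKaehlerEquivOfFormallyEtale k (MvPolynomial (Fin n) k)
    (FractionRing A)
  rw [dim, ← e.finrank_eq, Module.finrank_baseChange,
    Module.finrank_eq_card_basis (KaehlerDifferential.mvPolynomialBasis k (Fin n)), Fintype.card_fin]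

theorem exists_chart (p : Ideal A) [p.IsPrime] : ∃ f ∉ p,
    ∃ φ : MvPolynomial (Fin (dim k A)) k →ₐ[k] Localization.Away f, φ.toRingHom.Etale := by
  obtain ⟨f, hf, n, alg, tower, het⟩ :=
    Algebra.IsSmoothAt.exists_isStandardEtale_mvPolynomial (R := k) (S := A) (p := p)
  have hf0 : f ≠ 0 := fun h => hf (h ▸ zero_mem p)
  have hn : n = dim k A := eq_dim k A (L := Localization.Away f) f hf0 n
  subst hn
  refine ⟨f, hf, IsScalarTower.toAlgHom k _ _, ?_⟩
  have : (algebraMap (MvPolynomial (Fin (dim k A)) k) (Localization.Away f)).Etale := by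
    rw [RingHom.etale_algebraMap]
    infer_instance
  exact this

end dim

end K984.Chart
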