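import Groth.Agent.DiagIdeal.K984.LinIdeal
import Mathlib.RingTheory.Noetherian.Basic
import Mathlib.LinearAlgebra.FiniteDimensional.Basic

/-!
# Products of ideals generated by linear forms (Conca-Herzog)

Over an infinite field a product of ideals `I_i` generated by linear forms is the intersection of
the powers `(∑_{i ∈ A} I_i) ^ #A`, over all nonempty sets `A` of indices.
-/

set_option autoImplicit false

namespace K984.ConcaHerzog

open MvPolynomial LinIdeal

attribute [local instance] MvPolynomial.gradedAlgebra

variable {k : Type*} [Field k] {ι : Type*} [Fintype ι]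

omit [Fintype ι] in
theorem sup_pow_le {R : Type*} [CommRing R] (I J : Ideal R) (a : ℕ) :
    (I ⊔ J) ^ a ≤ I ^ a ⊔ J := by
  induction a with
  | zero => simp
  | succ a ih =>
    rw [pow_succ, Ideal.mul_le]
    intro r hr t ht
    obtain ⟨x, hx, y, hy, rfl⟩ := Submodule.mem_sup.1 (ih hr)
    obtain ⟨z, hz, w, hw, rfl⟩ := Submodule.mem_sup.1 ht
    rw [show (x + y) * (z + w) = x * z + (y * z + (x + y) * w) by ring]
    refine add_mem (Ideal.mem_sup_left ?_) (Ideal.mem_sup_right ?_)
    · rw [pow_succ]; exact Ideal.mul_mem_mul hx hz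
    · exact add_mem (Ideal.mul_mem_right _ _ hy) (Ideal.mul_mem_left _ _ hw)

theorem top_pow_le {V U : Submodule k (ι → k)} (h : V ⊔ U = ⊤) (a : ℕ) :
    ideal (⊤ : Submodule k (ι → k)) ^ a ≤ ideal V ^ a ⊔ ideal U := by
  rw [← h, ideal_sup]
  exact sup_pow_le _ _ a

theorem mem_top_pow {g : MvPolynomial ι k} {j a : ℕ} (hg : g.IsHomogeneous j) (h : a ≤ j) :
    g ∈ ideal (⊤ : Submodule k (ι → k)) ^ a := by
  rw [ideal_top, mem_pow_idealOfVars_iff']
  intro x hx
  exact hg.coeff_eq_zero (by omega)

theorem homogeneousComponent_eq_zero_of_mem_top_pow {g : MvPolynomial ι k} {j a : ℕ}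
    (hg : g ∈ ideal (⊤ : Submodule k (ι → k)) ^ a) (h : j < a) :
    homogeneousComponent j g = 0 := by
  rw [ideal_top, mem_pow_idealOfVars_iff'] at hg
  ext x
  rw [coeff_homogeneousComponent]
  split_ifs with hx
  · rw [hg x (by omega)]; simp
  · simp

theorem homogeneousComponent_lin_mul_succ (x : ι → k) (g : MvPolynomial ι k) (j : ℕ) :
    homogeneousComponent (j + 1) (lin x * g) = lin x * homogeneousComponent j g := by
  have := DirectSum.coe_decompose_mul_of_left_mem_of_le (homogeneousSubmodule ι k) (a := lin x)
    (b := g) (i := 1) (n := j + 1) (lin_isHomogeneous x) (by omega)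
  rw [show j + 1 - 1 = j by omega] at this
  have h1 := decomposition.decompose'_apply (lin x * g) (j + 1)
  have h2 := decomposition.decompose'_apply g j
  rw [← h1, ← h2]
  exact this

theorem homogeneousComponent_lin_mul_zero (x : ι → k) (g : MvPolynomial ι k) :
    homogeneousComponent 0 (lin x * g) = 0 := by
  have := DirectSum.coe_decompose_mul_of_left_mem_of_not_le (homogeneousSubmodule ι k) (a := lin x)
    (b := g) (i := 1) (n := 0) (lin_isHomogeneous x) (by omega)
  have h1 := decomposition.decompose'_apply (lin x * g) 0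
  rw [← h1]
  exact this

theorem prod_le_pow {α : Type*} (s A : Finset α) (V : α → Submodule k (ι → k)) (h : A ⊆ s) :
    ∏ i ∈ s, ideal (V i) ≤ ideal (A.sup V) ^ A.card := by
  classical
  rw [← Finset.prod_sdiff h]
  refine Ideal.mul_le_right.trans ?_
  rw [← Finset.prod_const]
  exact Finset.prod_le_prod' fun i hi => ideal_mono (Finset.le_sup (f := V) hi)

variable [Infinite k]

/-- The relative form of the theorem: modulo `I_U`. -/
theorem mem_prod_sup {α : Type*} (U : Submodule k (ι → k)) :
    ∀ (s : Finset α) (V : α → Submodule k (ι → k)) (f : MvPolynomial ι k),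
      (∀ A ⊆ s, f ∈ ideal (A.sup V) ^ A.card ⊔ ideal U) →
      f ∈ (∏ i ∈ s, ideal (V i)) ⊔ ideal U := by
  classical
  induction U using WellFoundedGT.induction with
  | ind U ihU =>
  intro s
  induction s using Finset.strongInduction with
  | H s ihs =>
  intro V
  by_cases hU : U = ⊤
  · intro f hf
    rcases s.eq_empty_or_nonempty with rfl | hs
    · simp
    · have := hf s subset_rfl
      refine Ideal.mem_sup_right ?_
      rw [hU] at this ⊢
      have hle : ideal (s.sup V) ^ s.card ⊔ ideal (⊤ : Submodule k (ι → k)) ≤ ideal ⊤ :=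
        sup_le ((Ideal.pow_le_self (Finset.card_ne_zero.2 hs)).trans (ideal_mono le_top)) le_rfl
      exact hle this
  -- homogeneity of the ideals
  have hhomU := ideal_isHomogeneous U
  have hhomP : (∏ i ∈ s, ideal (V i)).IsHomogeneous (homogeneousSubmodule ι k) :=
    prod_isHomogeneous _ _ fun i _ => ideal_isHomogeneous _
  have hhomPU := hhomP.sup hhomU
  -- choice of a generic linear form
  obtain ⟨x, hx⟩ : ∃ x : ι → k, ∀ A ⊆ s, (A.sup V ⊔ U ≠ ⊤) → x ∉ A.sup V ⊔ U := by
    let T : Finset (Subspace k (ι → k)) := (s.powerset.image fun A => A.sup V ⊔ U).filter (· ≠ ⊤)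
    have hT : ⊤ ∉ T := by simp [T]
    have := Subspace.biUnion_ne_univ_of_top_notMem hT
    rw [Set.ne_univ_iff_exists_notMem] at this
    obtain ⟨x, hx⟩ := this
    refine ⟨x, fun A hA hne hmem => hx ?_⟩
    rw [Set.mem_iUnion₂]
    refine ⟨A.sup V ⊔ U, ?_, hmem⟩
    simp only [T, Finset.mem_filter, Finset.mem_image, Finset.mem_powerset]
    exact ⟨⟨A, hA, rfl⟩, hne⟩
  have hxU : x ∉ U := by
    have := hx ∅ (Finset.empty_subset _)
    simp only [Finset.sup_empty, bot_sup_eq] at this
    exact this hU
  set U' : Submodule k (ι → k) := U ⊔ Submodule.span k {x} with hU'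
  have hlt : U < U' := by
    refine lt_of_le_of_ne le_sup_left ?_
    intro he
    apply hxU
    rw [he]
    exact Submodule.mem_sup_right (Submodule.mem_span_singleton_self x)
  have hIU' : ideal U' = ideal U ⊔ Ideal.span {lin x} := by
    rw [hU', ideal_sup]
    congr 1
    apply le_antisymm
    · rw [ideal_le_iff]
      intro c hc
      obtain ⟨a, rfl⟩ := Submodule.mem_span_singleton.1 hc
      rw [map_smul, smul_eq_C_mul]
      exact Ideal.mul_mem_left _ _ (Ideal.mem_span_singleton_self _)
    · rw [Ideal.span_le, Set.singleton_subset_iff]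
      exact lin_mem (Submodule.mem_span_singleton_self x)
  -- the homogeneous case
  have key : ∀ (j : ℕ) (f : MvPolynomial ι k), f.IsHomogeneous j →
      (∀ A ⊆ s, f ∈ ideal (A.sup V) ^ A.card ⊔ ideal U) →
      f ∈ (∏ i ∈ s, ideal (V i)) ⊔ ideal U := by
    intro j
    induction j with
    | zero =>
      intro f hf hA
      have h1 := ihU U' hlt s V f (fun A hAs => sup_le_sup le_rfl (ideal_mono hlt.le) (hA A hAs))
      rw [hIU', ← sup_assoc] at h1
      obtain ⟨p, hp, q, hq, hpq⟩ := Submodule.mem_sup.1 h1
      obtain ⟨g, rfl⟩ := Ideal.mem_span_singleton'.1 hq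
      have h2 := homogeneousComponent_eq_self hf
      rw [← hpq, map_add, mul_comm g, homogeneousComponent_lin_mul_zero, add_zero, mul_comm,
        hpq] at h2
      rw [← h2]
      exact homogeneousComponent_mem_of_mem hhomPU hp 0
    | succ j ihj =>
      intro f hf hA
      have h1 := ihU U' hlt s V f (fun A hAs => sup_le_sup le_rfl (ideal_mono hlt.le) (hA A hAs))
      rw [hIU', ← sup_assoc] at h1
      obtain ⟨p₀, hp₀, q, hq, hpq₀⟩ := Submodule.mem_sup.1 h1
      obtain ⟨g₀, rfl⟩ := Ideal.mem_span_singleton'.1 hq
      obtain ⟨p, hp, g, hg, hfpg⟩ : ∃ p ∈ (∏ i ∈ s, ideal (V i)) ⊔ ideal U,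
          ∃ g : MvPolynomial ι k, g.IsHomogeneous j ∧ f = p + lin x * g := by
        refine ⟨homogeneousComponent (j + 1) p₀, homogeneousComponent_mem_of_mem hhomPU hp₀ _,
          homogeneousComponent j g₀, homogeneousComponent_isHomogeneous _ _, ?_⟩
        rw [← homogeneousComponent_lin_mul_succ, ← map_add, mul_comm, hpq₀,
          homogeneousComponent_eq_self hf]
      -- `g` is in the ideals for `A` not spanning
      have hgA : ∀ A ⊆ s, (A.sup V ⊔ U ≠ ⊤) → g ∈ ideal (A.sup V) ^ A.card ⊔ ideal U := by
        intro A hAs hne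
        apply mem_of_lin_mul_mem (hx A hAs hne)
        have : lin x * g = f - p := by rw [hfpg]; ring
        rw [this]
        exact sub_mem (hA A hAs) (sup_le_sup (prod_le_pow s A V hAs) le_rfl hp)
      -- `g` is in the ideals for `A` spanning and small
      have hgA' : ∀ A ⊆ s, A.card ≤ j → g ∈ ideal (A.sup V) ^ A.card ⊔ ideal U := by
        intro A hAs hcard
        by_cases hne : A.sup V ⊔ U = ⊤
        · exact top_pow_le hne _ (mem_top_pow hg hcard)
        · exact hgA A hAs hne
      suffices h : lin x * g ∈ (∏ i ∈ s, ideal (V i)) ⊔ ideal U by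
        rw [hfpg]; exact add_mem hp h
      by_cases hsj : s.card ≤ j
      · apply Ideal.mul_mem_left
        exact ihj g hg fun A hAs => hgA' A hAs ((Finset.card_le_card hAs).trans hsj)
      by_cases hVs : s.sup V ⊔ U = ⊤
      · rcases lt_or_eq_of_le (show j + 1 ≤ s.card by omega) with hlt' | heq
        · -- `f` itself is in `I_U`
          have h2 := hA s subset_rfl
          obtain ⟨a, ha, b, hb, hab⟩ := Submodule.mem_sup.1 h2
          have ha' : a ∈ ideal (⊤ : Submodule k (ι → k)) ^ s.card :=
            Ideal.pow_right_mono (ideal_mono le_top) _ ha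
          have h3 := homogeneousComponent_eq_self hf
          rw [← hab, map_add, homogeneousComponent_eq_zero_of_mem_top_pow ha' hlt', zero_add,
            hab] at h3
          have h4 : f ∈ ideal U := by
            rw [← h3]
            exact homogeneousComponent_mem_of_mem hhomU hb _
          have : lin x * g = f - p := by rw [hfpg]; ring
          rw [this]
          exact sub_mem (Ideal.mem_sup_right h4) hp
        · -- `g` is in all the products with one factor missing
          have hgi : ∀ i ∈ s, g ∈ (∏ l ∈ s.erase i, ideal (V l)) ⊔ ideal U := by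
            intro i hi
            apply ihs _ (Finset.erase_ssubset hi)
            intro A hAs
            apply hgA' A (hAs.trans (Finset.erase_subset _ _))
            have := Finset.card_le_card hAs
            rw [Finset.card_erase_of_mem hi] at this
            omega
          let N : Submodule k (ι → k) :=
            { carrier := {c | lin c * g ∈ (∏ i ∈ s, ideal (V i)) ⊔ ideal U}
              add_mem' := by
                intro a b ha hb
                simp only [Set.mem_setOf_eq, map_add, add_mul] at *
                exact add_mem ha hb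
              zero_mem' := by simp
              smul_mem' := by
                intro r a ha
                simp only [Set.mem_setOf_eq, map_smul, smul_eq_C_mul, mul_assoc] at *
                exact Ideal.mul_mem_left _ _ ha }
          have hN : s.sup V ⊔ U ≤ N := by
            refine sup_le (Finset.sup_le fun i hi => ?_) ?_
            · intro c hc
              change lin c * g ∈ (∏ i ∈ s, ideal (V i)) ⊔ ideal U
              obtain ⟨a, ha, b, hb, hab⟩ := Submodule.mem_sup.1 (hgi i hi)
              rw [← hab, mul_add]
              refine add_mem (Ideal.mem_sup_left ?_) (Ideal.mem_sup_right (Ideal.mul_mem_left _ _ hb))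
              rw [← Finset.mul_prod_erase s _ hi]
              exact Ideal.mul_mem_mul (lin_mem hc) ha
            · intro c hc
              exact Ideal.mem_sup_right (Ideal.mul_mem_right _ _ (lin_mem hc))
          have : x ∈ N := hN (by rw [hVs]; trivial)
          exact this
      · apply Ideal.mul_mem_left
        apply ihj g hg
        intro A hAs
        apply hgA A hAs
        intro he
        apply hVs
        rw [eq_top_iff, ← he]
        exact sup_le_sup (Finset.sup_mono hAs) le_rfl
  intro f hf
  rw [mem_iff_homogeneousComponent_mem hhomPU]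
  intro n
  apply key n _ (homogeneousComponent_isHomogeneous _ _)
  intro A hA
  apply homogeneousComponent_mem_of_mem ((pow_isHomogeneous (ideal_isHomogeneous _) _).sup hhomU)
  exact hf A hA

/-- **Conca-Herzog**. -/
theorem mem_prod {α : Type*} (s : Finset α) (V : α → Submodule k (ι → k)) (f : MvPolynomial ι k)
    (hf : ∀ A ⊆ s, f ∈ ideal (A.sup V) ^ A.card) : f ∈ ∏ i ∈ s, ideal (V i) := by
  have := mem_prod_sup (⊥ : Submodule k (ι → k)) s V f (fun A hA => Ideal.mem_sup_left (hf A hA))
  rwa [ideal_bot, sup_bot_eq] at this

end K984.ConcaHerzog
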