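import Groth.Agent.DiagIdeal.K984.DepthPrep
import Groth.Agent.Localalg.DepthLC
import Groth.Agent.Localalg.Depth2

/-!
# Depth of the intersections of powers of the diagonal ideals
-/

set_option autoImplicit false

namespace K984.DepthMain

open TensorProduct Chart Loc DepthPrep Groth.Agent.Localalg

universe u

variable {k : Type u} [Field k] [IsAlgClosed k] {A : Type u} [CommRing A] [Algebra k A]
  [Algebra.Smooth k A] [IsDomain A] {n : ℕ}

variable (k A n) in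
/-- The ideal of the locus where two pairwise diagonals meet. -/
noncomputable def aa : Ideal (⨂[k] _ : Fin n, A) :=
  ⨅ pq ∈ Finset.univ.filter (fun pq : (Fin n × Fin n) × (Fin n × Fin n) =>
        pq.1.1 < pq.1.2 ∧ pq.2.1 < pq.2.2 ∧ pq.1 ≠ pq.2),
    diag k A pq.1.1 pq.1.2 ⊔ diag k A pq.2.1 pq.2.2

variable (k A) in
/-- The intersection of the powers. -/
noncomputable def MM (ℓ : Fin n × Fin n → ℕ) : Submodule (⨂[k] _ : Fin n, A) (⨂[k] _ : Fin n, A) :=
  ⨅ p ∈ Finset.univ.filter (fun p : Fin n × Fin n => p.1 < p.2), (diag k A p.1 p.2) ^ (ℓ p)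

omit [IsAlgClosed k] [Algebra.Smooth k A] [IsDomain A] in
theorem exists_pair (𝔭 : Ideal (⨂[k] _ : Fin n, A)) [h𝔭 : 𝔭.IsPrime] (h : aa k A n ≤ 𝔭) :
    ∃ i j l m : Fin n, i < j ∧ l < m ∧ (i, j) ≠ (l, m) ∧ diag k A i j ≤ 𝔭 ∧ diag k A l m ≤ 𝔭 := by
  rw [aa, ← Finset.inf_eq_iInf, Ideal.IsPrime.inf_le' h𝔭] at h
  obtain ⟨⟨⟨i, j⟩, ⟨l, m⟩⟩, h1, h2⟩ := h
  rw [Finset.mem_filter] at h1
  exact ⟨i, j, l, m, h1.2.1, h1.2.2.1, h1.2.2.2, le_sup_left.trans h2, le_sup_right.trans h2⟩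

variable (hdim : 0 < dim k A)

include hdim in
theorem two_le_depth : (2 : ℕ∞) ≤ LocCoh.idealDepth (aa k A n) (⨂[k] _ : Fin n, A) := by
  haveI : IsNoetherianRing (⨂[k] _ : Fin n, A) := DimPos.isNoetherianRing n
  by_cases htop : aa k A n • (⊤ : Submodule (⨂[k] _ : Fin n, A) (⨂[k] _ : Fin n, A)) = ⊤
  · rw [Depth.idealDepth_eq_top_of_smul_eq_top htop]
    exact le_top
  have h0 : LocCoh.idealDepth (aa k A n) (⨂[k] _ : Fin n, A) ≠ 0 := by
    intro h
    obtain ⟨𝔭, h𝔭, hle⟩ := Depth2.exists_mem_associatedPrimes_of_idealDepth_eq_zero h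
    obtain ⟨hprime, f, hf⟩ := isAssociatedPrime_iff.1 h𝔭
    obtain ⟨i, j, l, m, hij, hlm, hne, h1, h2⟩ := exists_pair 𝔭 hle
    refine false_of_ass_zero 𝔭 hdim hlm f (fun r => ?_) h2
    rw [hf, Submodule.mem_colon_singleton]
    rfl
  obtain ⟨x, hx, hreg⟩ := Depth2.exists_regular_of_idealDepth_ne_zero htop h0
  have h2 := (Depth.natCast_succ_le_idealDepth_iff_quotSMulTop (aa k A n) (⨂[k] _ : Fin n, A) x hx
    hreg 1)
  have h3 : ((1 + 1 : ℕ) : ℕ∞) = 2 := by norm_num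
  rw [h3] at h2
  rw [h2, Nat.cast_one, ENat.one_le_iff_ne_zero]
  intro h
  obtain ⟨𝔭, h𝔭, hle⟩ := Depth2.exists_mem_associatedPrimes_of_idealDepth_eq_zero h
  obtain ⟨hprime, f, hf⟩ := isAssociatedPrime_iff.1 h𝔭
  obtain ⟨f, rfl⟩ := Submodule.mkQ_surjective _ f
  obtain ⟨i, j, l, m, hij, hlm, hne, h1, h2⟩ := exists_pair 𝔭 hle
  refine false_of_ass_quot 𝔭 hdim hij hlm hne x (fun r hr => ?_) f (fun r => ?_) h2 h1
  · exact hreg (show x • r = x • 0 by rw [smul_eq_mul, hr, smul_zero])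
  · rw [hf, Submodule.mem_colon_singleton, Submodule.mem_bot, ← map_smul, Submodule.mkQ_apply,
      Submodule.Quotient.mk_eq_zero, smul_eq_mul, Submodule.mem_smul_pointwise_iff_exists,
      Ideal.mem_span_singleton']
    constructor
    · rintro ⟨b, _, hb⟩
      exact ⟨b, by rw [mul_comm]; exact hb⟩
    · rintro ⟨b, hb⟩
      exact ⟨b, trivial, by rw [smul_eq_mul, mul_comm]; exact hb⟩

include hdim in
theorem depth_quot_ne_zero (ℓ : Fin n × Fin n → ℕ) :
    LocCoh.idealDepth (aa k A n) ((⨂[k] _ : Fin n, A) ⧸ MM k A ℓ) ≠ 0 := by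
  haveI : IsNoetherianRing (⨂[k] _ : Fin n, A) := DimPos.isNoetherianRing n
  intro h
  obtain ⟨𝔭, h𝔭, hle⟩ := Depth2.exists_mem_associatedPrimes_of_idealDepth_eq_zero h
  obtain ⟨hprime, f, hf⟩ := isAssociatedPrime_iff.1 h𝔭
  obtain ⟨f, rfl⟩ := Submodule.mkQ_surjective _ f
  have hf' : ∀ r, r ∈ 𝔭 ↔ r * f ∈ MM k A ℓ := by
    intro r
    rw [hf, Submodule.mem_colon_singleton, Submodule.mem_bot, ← map_smul, Submodule.mkQ_apply,
      Submodule.Quotient.mk_eq_zero, smul_eq_mul]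
  have hf'' : ∀ r, r ∈ 𝔭 ↔ ∀ p : Fin n × Fin n, p.1 < p.2 → r * f ∈ diag k A p.1 p.2 ^ ℓ p := by
    intro r
    rw [hf', MM, Submodule.mem_iInf]
    refine forall_congr' fun p => ?_
    rw [Submodule.mem_iInf]
    simp
  obtain ⟨⟨i, j⟩, hij, hle1⟩ : ∃ p ∈ Finset.univ.filter (fun p : Fin n × Fin n => p.1 < p.2),
      Submodule.colon (diag k A p.1 p.2 ^ ℓ p) {f} ≤ 𝔭 := by
    rw [← Ideal.IsPrime.inf_le' hprime]
    intro r hr
    rw [hf'']
    intro p hp
    rw [Finset.inf_eq_iInf, Submodule.mem_iInf] at hr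
    have := hr p
    rw [Submodule.mem_iInf] at this
    have := this (by simpa using hp)
    rw [Submodule.mem_colon_singleton] at this
    exact this
  have hij' : i < j := by simpa using hij
  have hass : ∀ r, r ∈ 𝔭 ↔ r * f ∈ diag k A i j ^ ℓ (i, j) := by
    intro r
    constructor
    · intro hr
      exact (hf'' r).1 hr (i, j) hij'
    · intro hr
      exact hle1 (Submodule.mem_colon_singleton.2 hr)
  obtain ⟨a, b, c, e, hab, hce, hne, h1, h2⟩ := exists_pair 𝔭 hle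
  by_cases h3 : (i, j) = (a, b)
  · refine false_of_ass 𝔭 hdim hij' hce ?_ _ f hass h2
    rw [h3]; exact hne
  · exact false_of_ass 𝔭 hdim hij' hab h3 _ f hass h1

include hdim in
theorem depth_ge (ℓ : Fin n × Fin n → ℕ) :
    (2 : ℕ∞) ≤ LocCoh.idealDepth (aa k A n) (MM k A ℓ) := by
  haveI : IsNoetherianRing (⨂[k] _ : Fin n, A) := DimPos.isNoetherianRing n
  have h := Depth.idealDepth_shortExact₁ (aa k A n) (MM k A ℓ).subtype (MM k A ℓ).mkQ
    (Submodule.injective_subtype _) (Submodule.mkQ_surjective _)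
    (LinearMap.exact_subtype_mkQ _)
  refine le_trans (le_min (two_le_depth hdim) ?_) h
  have h1 := ENat.one_le_iff_ne_zero.2 (depth_quot_ne_zero hdim ℓ)
  calc (2 : ℕ∞) = 1 + 1 := by norm_num
    _ ≤ _ := by gcongr

end K984.DepthMain
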