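import Groth.Agent.DiagIdeal.K984.LinIdeal

/-!
# Intersections of powers of ideals generated by independent spaces of linear forms
-/

set_option autoImplicit false

namespace K984.Indep

open MvPolynomial LinIdeal
open scoped Pointwise

variable {k : Type*} [Field k] {ι : Type*} [Fintype ι]

/-- `J` is generated by polynomials in the linear forms of `H`. -/
def Gen (H : Submodule k (ι → k)) (J : Ideal (MvPolynomial ι k)) : Prop :=
  ∃ T : Set (MvPolynomial ι k), T ⊆ Algebra.adjoin k (lin '' (H : Set (ι → k))) ∧ J = Ideal.span T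

theorem Gen.ideal {H V : Submodule k (ι → k)} (h : V ≤ H) : Gen H (ideal V) :=
  ⟨lin '' (V : Set (ι → k)), (Set.image_mono h).trans Algebra.subset_adjoin, rfl⟩

theorem Gen.top (H : Submodule k (ι → k)) : Gen H ⊤ :=
  ⟨{1}, by simp, by simp⟩

theorem Gen.mul {H : Submodule k (ι → k)} {J J' : Ideal (MvPolynomial ι k)} (h : Gen H J)
    (h' : Gen H J') : Gen H (J * J') := by
  obtain ⟨T, hT, rfl⟩ := h
  obtain ⟨T', hT', rfl⟩ := h'
  refine ⟨T * T', ?_, Ideal.span_mul_span' T T'⟩
  rintro _ ⟨a, ha, b, hb, rfl⟩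
  exact mul_mem (hT ha) (hT' hb)

theorem Gen.pow {H : Submodule k (ι → k)} {J : Ideal (MvPolynomial ι k)} (h : Gen H J)
    (n : ℕ) : Gen H (J ^ n) := by
  induction n with
  | zero => rw [pow_zero, Ideal.one_eq_top]; exact Gen.top H
  | succ n ih => rw [pow_succ]; exact ih.mul h

theorem Gen.prod {H : Submodule k (ι → k)} {α : Type*} (s : Finset α)
    (J : α → Ideal (MvPolynomial ι k)) (h : ∀ i ∈ s, Gen H (J i)) : Gen H (∏ i ∈ s, J i) := by
  classical
  induction s using Finset.induction_on with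
  | empty => rw [Finset.prod_empty, Ideal.one_eq_top]; exact Gen.top H
  | insert a s ha ih =>
    rw [Finset.prod_insert ha]
    exact (h a (Finset.mem_insert_self _ _)).mul (ih fun i hi => h i (Finset.mem_insert_of_mem hi))

/-- If `H` and `V` are independent and `J` is generated by polynomials in the forms of `H`, then
`J ∩ I_V ^ b = J * I_V ^ b`. -/
theorem inf_pow_le {H V : Submodule k (ι → k)} (hHV : Disjoint H V)
    {J : Ideal (MvPolynomial ι k)} (hJ : Gen H J) (b : ℕ) (f : MvPolynomial ι k)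
    (hfJ : f ∈ J) (hfV : f ∈ LinIdeal.ideal V ^ b) : f ∈ J * LinIdeal.ideal V ^ b := by
  classical
  obtain ⟨H', hHH', hc⟩ := hHV.exists_isCompl
  let pr : (ι → k) →ₗ[k] (ι → k) := V.projection H' hc.symm
  have hprV : ∀ v ∈ V, pr v = v := fun v hv => Submodule.projection_apply_of_mem_left hc.symm hv
  have hprH : ∀ v ∈ H, pr v = 0 := fun v hv =>
    (Submodule.projection_apply_eq_zero_iff hc.symm).2 (hHH' hv)
  have hprmem : ∀ v, pr v ∈ V := fun v => Submodule.projection_apply_mem hc.symm v
  -- linear forms with coefficients in the polynomial ring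
  let linT : (ι → k) →ₗ[k] MvPolynomial ι (MvPolynomial ι k) :=
    { toFun := fun c => ∑ i, c i • X i
      map_add' := fun c d => by simp [add_smul, Finset.sum_add_distrib]
      map_smul' := fun a c => by simp [mul_smul, Finset.smul_sum] }
  have hlinT : ∀ c, linT c = ∑ i, c i • (X i : MvPolynomial ι (MvPolynomial ι k)) := fun c => rfl
  let CC : MvPolynomial ι k →ₐ[k] MvPolynomial ι (MvPolynomial ι k) :=
    IsScalarTower.toAlgHom k (MvPolynomial ι k) (MvPolynomial ι (MvPolynomial ι k))
  have hCC : ∀ p, CC p = C p := fun p => rfl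
  let G : (ι → k) →ₗ[k] MvPolynomial ι (MvPolynomial ι k) :=
    (CC.toLinearMap ∘ₗ lin ∘ₗ (LinearMap.id - pr)) + linT ∘ₗ pr
  have hG : ∀ c, G c = C (lin (c - pr c)) + linT (pr c) := fun c => rfl
  let ρ : MvPolynomial ι k →ₐ[k] MvPolynomial ι (MvPolynomial ι k) :=
    MvPolynomial.aeval (fun i => G (Pi.single i 1))
  have hρ : ∀ c, ρ (lin c) = G c := algHom_lin ρ G (fun i => by simp [ρ])
  let ev' : MvPolynomial ι (MvPolynomial ι k) →ₐ[MvPolynomial ι k] MvPolynomial ι k :=
    MvPolynomial.aeval (fun i => lin (pr (Pi.single i 1)))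
  let ev : MvPolynomial ι (MvPolynomial ι k) →ₐ[k] MvPolynomial ι k := ev'.restrictScalars k
  have hevC : ∀ p, ev (C p) = p := fun p => by
    change ev' (C p) = p
    simp [ev']
  have hevlin : ∀ c, ev (linT c) = lin (pr c) := by
    intro c
    rw [hlinT, map_sum]
    conv_rhs => rw [← Finset.univ_sum_single c]
    rw [map_sum, map_sum]
    refine Finset.sum_congr rfl fun i _ => ?_
    rw [map_smul]
    have : ev (X i) = lin (pr (Pi.single i 1)) := by
      change ev' (X i) = _
      simp [ev']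
    rw [this, ← map_smul, ← map_smul]
    congr 2
    ext j
    simp [Pi.single_apply]
  have hevρ : ∀ p, ev (ρ p) = p := by
    intro p
    have : ev.comp ρ = AlgHom.id k _ := by
      apply algHom_ext_lin
      intro c
      rw [AlgHom.comp_apply, hρ, hG, map_add, hevC, hevlin, hprV _ (hprmem c), map_sub,
        AlgHom.id_apply, sub_add_cancel]
    exact DFunLike.congr_fun this p
  -- `ρ` and `C` agree on polynomials in the forms of `H`
  have hρH : ∀ p ∈ Algebra.adjoin k (lin '' (H : Set (ι → k))), ρ p = CC p := by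
    intro p hp
    have hle : Algebra.adjoin k (lin '' (H : Set (ι → k))) ≤ AlgHom.equalizer ρ CC := by
      rw [Algebra.adjoin_le_iff]
      rintro _ ⟨c, hc, rfl⟩
      change ρ (lin c) = CC (lin c)
      rw [hρ, hG, hprH c hc, map_zero, sub_zero, add_zero, hCC]
    exact hle hp
  have hρJ : ρ f ∈ J.map (C : MvPolynomial ι k →+* MvPolynomial ι (MvPolynomial ι k)) := by
    obtain ⟨T, hT, rfl⟩ := hJ
    have h1 : ρ f ∈ (Ideal.span T).map ρ.toRingHom := Ideal.mem_map_of_mem ρ.toRingHom hfJ
    have h2 : (Ideal.span T).map ρ.toRingHom ≤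
        (Ideal.span T).map (C : MvPolynomial ι k →+* MvPolynomial ι (MvPolynomial ι k)) := by
      rw [Ideal.map_span, Ideal.span_le]
      rintro _ ⟨t, ht, rfl⟩
      change ρ t ∈ _
      rw [hρH t (hT ht), hCC]
      exact Ideal.mem_map_of_mem _ (Ideal.subset_span ht)
    exact h2 h1
  have hρV : ρ f ∈ idealOfVars ι (MvPolynomial ι k) ^ b := by
    have h1 : ρ f ∈ (LinIdeal.ideal V ^ b).map ρ.toRingHom := Ideal.mem_map_of_mem ρ.toRingHom hfV
    rw [Ideal.map_pow] at h1
    refine Ideal.pow_right_mono ?_ b h1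
    rw [LinIdeal.ideal, Ideal.map_span, Ideal.span_le]
    rintro _ ⟨_, ⟨c, hc, rfl⟩, rfl⟩
    change ρ (lin c) ∈ _
    rw [hρ, hG, hprV c hc, sub_self, map_zero, map_zero, zero_add, hlinT]
    refine sum_mem fun i _ => ?_
    rw [show (c i • (X i : MvPolynomial ι (MvPolynomial ι k))) = C (C (c i)) * X i by
      rw [Algebra.smul_def]; rfl]
    exact Ideal.mul_mem_left _ _ (Ideal.subset_span ⟨i, rfl⟩)
  rw [mem_pow_idealOfVars_iff'] at hρV
  rw [MvPolynomial.mem_map_C_iff] at hρJ
  rw [← hevρ f]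
  change ev' (ρ f) ∈ _
  rw [MvPolynomial.aeval_def, MvPolynomial.eval₂_eq']
  refine sum_mem fun m hm => ?_
  refine Ideal.mul_mem_mul (hρJ m) ?_
  have hdeg : b ≤ m.degree := by
    by_contra hlt
    rw [MvPolynomial.mem_support_iff] at hm
    exact hm (hρV m (by omega))
  refine Ideal.pow_le_pow_right hdeg ?_
  rw [show m.degree = ∑ i, m i from by
    rw [Finsupp.degree_eq_sum]]
  rw [← Finset.prod_pow_eq_pow_sum]
  exact Ideal.prod_mem_prod fun i _ => Ideal.pow_mem_pow (lin_mem (hprmem _)) _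

/-- The case of a finite independent family. -/
theorem mem_prod_pow_of_supIndep {α : Type*} (s : Finset α) (V : α → Submodule k (ι → k))
    (hV : s.SupIndep V) (b : ℕ) (f : MvPolynomial ι k) (hf : ∀ i ∈ s, f ∈ LinIdeal.ideal (V i) ^ b) :
    f ∈ ∏ i ∈ s, LinIdeal.ideal (V i) ^ b := by
  classical
  induction s using Finset.induction_on with
  | empty => simp
  | insert a s ha ih =>
    rw [Finset.prod_insert ha, mul_comm]
    have h1 := ih (hV.subset (Finset.subset_insert _ _)) fun i hi =>
      hf i (Finset.mem_insert_of_mem hi)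
    have hdis : Disjoint (s.sup V) (V a) :=
      (hV (Finset.subset_insert a s) (Finset.mem_insert_self a s) ha).symm
    refine inf_pow_le hdis ?_ b f h1 (hf a (Finset.mem_insert_self _ _))
    exact Gen.prod _ _ fun i hi => (Gen.ideal (Finset.le_sup (f := V) hi)).pow b

theorem mem_pow_sup_of_supIndep {α : Type*} (s : Finset α) (V : α → Submodule k (ι → k))
    (hV : s.SupIndep V) (b : ℕ) (f : MvPolynomial ι k) (hf : ∀ i ∈ s, f ∈ LinIdeal.ideal (V i) ^ b) :
    f ∈ LinIdeal.ideal (s.sup V) ^ (b * s.card) := by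
  have h1 := mem_prod_pow_of_supIndep s V hV b f hf
  rw [pow_mul, ← Finset.prod_const]
  have hle : ∏ i ∈ s, LinIdeal.ideal (V i) ^ b ≤ ∏ _i ∈ s, LinIdeal.ideal (s.sup V) ^ b :=
    Finset.prod_le_prod' fun i hi => Ideal.pow_right_mono (ideal_mono (Finset.le_sup (f := V) hi)) b
  exact hle h1

end K984.Indep
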