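import Groth.Agent.DiagIdeal.K984.DimPos
import Groth.Agent.DiagIdeal.K984.Indep
import Groth.Agent.DiagIdeal.K984.FlatInf
import Mathlib.RingTheory.Regular.Flat

/-!
# Regular elements along the diagonals
-/

set_option autoImplicit false

namespace K984.DepthPrep

open TensorProduct Chart Loc LinIdeal PolyDiag

section lin

variable {k : Type*} [Field k] {n d : ℕ}

theorem lin_ne_zero {ι : Type*} [Fintype ι] {c : ι → k} (hc : c ≠ 0) :
    (lin c : MvPolynomial ι k) ≠ 0 := by
  classical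
  intro h
  apply hc
  ext i
  have := congrArg (MvPolynomial.coeff (Finsupp.single i 1)) h
  rw [lin_apply, MvPolynomial.coeff_sum, MvPolynomial.coeff_zero] at this
  rw [Finset.sum_eq_single i] at this
  · simpa [MvPolynomial.coeff_smul, MvPolynomial.coeff_X] using this
  · intro j _ hj
    rw [MvPolynomial.coeff_smul, MvPolynomial.coeff_X', if_neg, smul_zero]
    intro h'
    exact hj (Finsupp.single_left_injective one_ne_zero h')
  · simp

theorem disjoint_V {i j l m : Fin n} (hij : i < j) (hlm : l < m) (h : (i, j) ≠ (l, m)) :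
    Disjoint (V k l m : Submodule k (Fin n × Fin d → k)) (V k i j) := by
  rw [Submodule.disjoint_def]
  rintro _ ⟨a, rfl⟩ ⟨b, hb⟩
  have key : ∀ t, a t = 0 := by
    intro t
    by_cases h1 : l ≠ i ∧ l ≠ j
    · have := congrFun hb (l, t)
      simp [emb_apply, h1.1, h1.2, hlm.ne] at this
      exact this.symm
    · have h2 : m ≠ i ∧ m ≠ j := by
        constructor
        · rintro rfl
          apply h1
          exact ⟨hlm.ne, (hlm.trans hij).ne⟩
        · rintro rfl
          apply h1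
          refine ⟨?_, hlm.ne⟩
          rintro rfl
          exact h rfl
      have := congrFun hb (m, t)
      simp [emb_apply, h2.1, h2.2, hlm.ne'] at this
      exact this
  have ha : a = 0 := funext key
  rw [ha, map_zero]

/-- A nonzero form vanishing on a diagonal. -/
theorem exists_form {l m : Fin n} (hlm : l < m) (hd : 0 < d) :
    ∃ e ∈ (V k l m : Submodule k (Fin n × Fin d → k)), e ≠ 0 := by
  refine ⟨_, mem_V (fun _ => 1), ?_⟩
  intro h
  have := congrFun h (l, ⟨0, hd⟩)
  simp [emb_apply, hlm.ne] at this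

end lin

section flat

variable {k : Type*} [Field k] {ι : Type*} [Fintype ι] {B : Type*} [CommRing B]
  (φ : MvPolynomial ι k →+* B) (hφ : φ.Flat)

include hφ in
theorem cancel {y : MvPolynomial ι k} (hy : y ≠ 0) {b c : B} (h : φ y * b = φ y * c) : b = c := by
  letI := φ.toAlgebra
  haveI : Module.Flat (MvPolynomial ι k) B := hφ
  have h1 : RingTheory.Sequence.IsWeaklyRegular (MvPolynomial ι k) [y] := by
    rw [RingTheory.Sequence.isWeaklyRegular_cons_iff]
    refine ⟨?_, RingTheory.Sequence.IsWeaklyRegular.nil _ _⟩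
    intro a b hab
    exact mul_left_cancel₀ hy hab
  have h2 := RingTheory.Sequence.IsWeaklyRegular.of_flat (S := B) h1
  rw [List.map_cons, RingTheory.Sequence.isWeaklyRegular_cons_iff] at h2
  exact h2.1 h

theorem ideal_singleton (e : ι → k) :
    ideal (k ∙ e) = Ideal.span {(lin e : MvPolynomial ι k)} := by
  apply le_antisymm
  · rw [ideal_le_iff]
    intro c hc
    obtain ⟨r, rfl⟩ := Submodule.mem_span_singleton.1 hc
    rw [map_smul]
    exact Submodule.smul_of_tower_mem _ _ (Ideal.mem_span_singleton_self _)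
  · rw [Ideal.span_le, Set.singleton_subset_iff]
    exact lin_mem (Submodule.mem_span_singleton_self e)

include hφ in
theorem reg {e : ι → k} (he : e ≠ 0) {W : Submodule k (ι → k)} (hd : Disjoint (k ∙ e) W) (t : ℕ) {b : B}
    (hb : φ (lin e) * b ∈ (ideal W ^ t).map φ) : b ∈ (ideal W ^ t).map φ := by
  have h1 := ideal_singleton e
  have h2 : φ (lin e) * b ∈ (ideal (k ∙ e)).map φ :=
    Ideal.mul_mem_right _ _ (Ideal.mem_map_of_mem _ (lin_mem (Submodule.mem_span_singleton_self e)))
  have h3 := FlatInf.mem_map_inf φ hφ _ _ h2 hb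
  have h4 : ideal (k ∙ e) ⊓ ideal W ^ t ≤ ideal (k ∙ e) * ideal W ^ t := fun f hf =>
    Indep.inf_pow_le hd (Indep.Gen.ideal le_rfl) t f hf.1 hf.2
  have h5 := Ideal.map_mono (f := φ) h4 h3
  rw [Ideal.map_mul, h1, Ideal.map_span, Set.image_singleton, Ideal.mem_span_singleton_mul] at h5
  obtain ⟨z, hz, hz'⟩ := h5
  rwa [← cancel φ hφ (lin_ne_zero he) hz']

end flat

section main

variable {k A : Type*} [Field k] [CommRing A] [Algebra k A] [Algebra.Smooth k A] [IsDomain A]
  {n : ℕ} (𝔭 : Ideal (⨂[k] _ : Fin n, A)) [h𝔭 : 𝔭.IsPrime]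

local notation "RR" => (⨂[k] _ : Fin n, A)

omit [Algebra.Smooth k A] [IsDomain A] in
theorem map_mul_mem {J K : Ideal (⨂[k] _ : Fin n, A)} {f : ⨂[k] _ : Fin n, A}
    (h : ∀ r ∈ J, r * f ∈ K) {x : Localization.AtPrime 𝔭}
    (hx : x ∈ J.map (algebraMap _ (Localization.AtPrime 𝔭))) :
    x * algebraMap _ (Localization.AtPrime 𝔭) f ∈ K.map (algebraMap _ (Localization.AtPrime 𝔭)) := by
  induction hx using Submodule.span_induction with
  | mem x hx =>
    obtain ⟨r, hr, rfl⟩ := hx
    rw [← map_mul]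
    exact Ideal.mem_map_of_mem _ (h r hr)
  | zero => rw [zero_mul]; exact zero_mem _
  | add x y _ _ hx hy => rw [add_mul]; exact add_mem hx hy
  | smul c x _ hx => rw [smul_eq_mul, mul_assoc]; exact Ideal.mul_mem_left _ _ hx

omit [Algebra.Smooth k A] [IsDomain A] in
theorem exists_of_mem_map {K : Ideal (⨂[k] _ : Fin n, A)} {f : ⨂[k] _ : Fin n, A}
    (h : algebraMap _ (Localization.AtPrime 𝔭) f ∈
      K.map (algebraMap _ (Localization.AtPrime 𝔭))) : ∃ s ∉ 𝔭, s * f ∈ K := by
  rw [IsLocalization.algebraMap_mem_map_algebraMap_iff 𝔭.primeCompl] at h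
  obtain ⟨s, hs, h⟩ := h
  exact ⟨s, hs, h⟩

/-- An associated prime of `R / I_p ^ t` contains no other diagonal ideal. -/
theorem false_of_ass (hdim : 0 < dim k A) {i j l m : Fin n} (hij : i < j) (hlm : l < m)
    (h : (i, j) ≠ (l, m)) (t : ℕ) (f : ⨂[k] _ : Fin n, A)
    (hf : ∀ r, r ∈ 𝔭 ↔ r * f ∈ diag k A i j ^ t) (hle : diag k A l m ≤ 𝔭) : False := by
  have h1 : diag k A i j ≤ 𝔭 := by
    intro r hr
    apply h𝔭.mem_of_pow_mem t
    rw [hf]
    exact Ideal.mul_mem_right _ _ (Ideal.pow_mem_pow hr t)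
  obtain ⟨e, he, he0⟩ := exists_form (k := k) hlm hdim
  have hd : Disjoint (k ∙ e) (V k i j) :=
    (disjoint_V hij hlm h).mono_left ((Submodule.span_singleton_le_iff_mem _ _).2 he)
  have h2 : (chart 𝔭).toRingHom (lin e) ∈
      (diag k A l m).map (algebraMap _ (Localization.AtPrime 𝔭)) := by
    rw [map_diag 𝔭 hle]
    exact Ideal.mem_map_of_mem _ (lin_mem he)
  have h3 := map_mul_mem 𝔭 (K := diag k A i j ^ t) (f := f) (fun r hr => (hf r).1 (hle hr)) h2
  rw [Ideal.map_pow, map_diag 𝔭 h1, ← Ideal.map_pow] at h3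
  have h4 := reg _ (chart_flat 𝔭) he0 hd t h3
  rw [Ideal.map_pow, ← map_diag 𝔭 h1, ← Ideal.map_pow] at h4
  obtain ⟨s, hs, hs'⟩ := exists_of_mem_map 𝔭 h4
  exact hs ((hf s).2 hs')

/-- An associated prime of `R` contains no diagonal ideal. -/
theorem false_of_ass_zero (hdim : 0 < dim k A) {l m : Fin n} (hlm : l < m)
    (f : ⨂[k] _ : Fin n, A)
    (hf : ∀ r, r ∈ 𝔭 ↔ r * f = 0) (hle : diag k A l m ≤ 𝔭) : False := by
  obtain ⟨e, he, he0⟩ := exists_form (k := k) hlm hdim
  have h2 : (chart 𝔭).toRingHom (lin e) ∈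
      (diag k A l m).map (algebraMap _ (Localization.AtPrime 𝔭)) := by
    rw [map_diag 𝔭 hle]
    exact Ideal.mem_map_of_mem _ (lin_mem he)
  have h3 := map_mul_mem 𝔭 (K := ⊥) (f := f) (fun r hr => (hf r).1 (hle hr)) h2
  rw [Ideal.map_bot, Ideal.mem_bot] at h3
  have h4 := cancel _ (chart_flat 𝔭) (lin_ne_zero he0) (h3.trans (mul_zero _).symm)
  have h5 : algebraMap _ (Localization.AtPrime 𝔭) f ∈
      (⊥ : Ideal (⨂[k] _ : Fin n, A)).map (algebraMap _ (Localization.AtPrime 𝔭)) := by
    rw [h4]; exact zero_mem _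
  obtain ⟨s, hs, hs'⟩ := exists_of_mem_map 𝔭 h5
  exact hs ((hf s).2 hs')

/-- An associated prime of `R / x` contains at most one diagonal ideal. -/
theorem false_of_ass_quot (hdim : 0 < dim k A) {i j l m : Fin n} (hij : i < j) (hlm : l < m)
    (h : (i, j) ≠ (l, m)) (x : ⨂[k] _ : Fin n, A) (hx : ∀ r, x * r = 0 → r = 0)
    (f : ⨂[k] _ : Fin n, A)
    (hf : ∀ r, r ∈ 𝔭 ↔ r * f ∈ Ideal.span {x}) (hle : diag k A l m ≤ 𝔭) (hle' : diag k A i j ≤ 𝔭) :
    False := by
  obtain ⟨e, he, he0⟩ := exists_form (k := k) hlm hdim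
  obtain ⟨e', he', he0'⟩ := exists_form (k := k) hij hdim
  have hd : Disjoint (k ∙ e') (k ∙ e) := by
    refine Disjoint.mono ((Submodule.span_singleton_le_iff_mem _ _).2 he')
      ((Submodule.span_singleton_le_iff_mem _ _).2 he) (disjoint_V hlm hij h.symm)
  set a := algebraMap (⨂[k] _ : Fin n, A) (Localization.AtPrime 𝔭) with ha
  set y := (chart 𝔭).toRingHom (lin e) with hy
  set y' := (chart 𝔭).toRingHom (lin e') with hy'
  have h2 : y ∈ (diag k A l m).map a := by
    rw [ha, map_diag 𝔭 hle]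
    exact Ideal.mem_map_of_mem _ (lin_mem he)
  have h2' : y' ∈ (diag k A i j).map a := by
    rw [ha, map_diag 𝔭 hle']
    exact Ideal.mem_map_of_mem _ (lin_mem he')
  have h3 := map_mul_mem 𝔭 (K := Ideal.span {x}) (f := f) (fun r hr => (hf r).1 (hle hr)) h2
  have h3' := map_mul_mem 𝔭 (K := Ideal.span {x}) (f := f) (fun r hr => (hf r).1 (hle' hr)) h2'
  rw [Ideal.map_span, Set.image_singleton, Ideal.mem_span_singleton'] at h3 h3'
  obtain ⟨g, hg⟩ := h3
  obtain ⟨g', hg'⟩ := h3'
  have hxreg : ∀ u v : Localization.AtPrime 𝔭, a x * u = a x * v → u = v := by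
    intro u v huv
    have h1 : RingTheory.Sequence.IsWeaklyRegular (⨂[k] _ : Fin n, A) [x] := by
      rw [RingTheory.Sequence.isWeaklyRegular_cons_iff]
      refine ⟨?_, RingTheory.Sequence.IsWeaklyRegular.nil _ _⟩
      intro a b hab
      have : x * (a - b) = 0 := by
        rw [mul_sub, sub_eq_zero]
        exact hab
      exact sub_eq_zero.1 (hx _ this)
    haveI : Module.Flat (⨂[k] _ : Fin n, A) (Localization.AtPrime 𝔭) :=
      IsLocalization.flat _ 𝔭.primeCompl
    have h2 := RingTheory.Sequence.IsWeaklyRegular.of_flat (S := Localization.AtPrime 𝔭) h1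
    rw [List.map_cons, RingTheory.Sequence.isWeaklyRegular_cons_iff] at h2
    exact h2.1 huv
  have h4 : y' * g = y * g' := by
    apply hxreg
    calc a x * (y' * g) = y' * (g * a x) := by ring
      _ = y' * (y * a f) := by rw [hg]
      _ = y * (y' * a f) := by ring
      _ = y * (g' * a x) := by rw [hg']
      _ = a x * (y * g') := by ring
  have h5 : g ∈ (ideal (k ∙ e) ^ 1).map (chart 𝔭).toRingHom := by
    apply reg _ (chart_flat 𝔭) he0' hd
    change y' * g ∈ _
    rw [h4, pow_one]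
    exact Ideal.mul_mem_right _ _
      (Ideal.mem_map_of_mem _ (lin_mem (Submodule.mem_span_singleton_self e)))
  have h6 : (ideal (k ∙ e) ^ 1).map (chart 𝔭).toRingHom = Ideal.span {y} := by
    rw [pow_one, ideal_singleton, Ideal.map_span, Set.image_singleton]
  rw [h6, Ideal.mem_span_singleton'] at h5
  obtain ⟨w, hw⟩ := h5
  have h7 : a f = w * a x := by
    apply cancel _ (chart_flat 𝔭) (lin_ne_zero he0)
    change y * a f = y * (w * a x)
    rw [← hg, ← hw]
    ring
  have h8 : a f ∈ (Ideal.span {x}).map a := by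
    rw [h7]
    exact Ideal.mul_mem_left _ _ (Ideal.mem_map_of_mem _ (Ideal.mem_span_singleton_self x))
  obtain ⟨s, hs, hs'⟩ := exists_of_mem_map 𝔭 h8
  exact hs ((hf s).2 hs')

end main

end K984.DepthPrep
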