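import Groth.Agent.DiagIdeal.K984.Loc
import Mathlib.RingTheory.Unramified.Finite
import Mathlib.FieldTheory.IsAlgClosed.Basic
import Mathlib.RingTheory.KrullDimension.Zero
import Mathlib.RingTheory.KrullDimension.Field

/-!
# The relative dimension is positive unless the algebra is a field; tensor powers are noetherian
-/

set_option autoImplicit false

namespace K984.DimPos

open TensorProduct

section pos

variable (k A : Type*) [Field k] [IsAlgClosed k] [CommRing A] [Algebra k A] [Algebra.Smooth k A]
  [IsDomain A]

theorem bijective_of_dim_eq_zero (h : Chart.dim k A = 0) : Function.Bijective (algebraMap k A) := by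
  obtain ⟨f, hf, φ, hφ⟩ := Chart.exists_chart k A (⊥ : Ideal A)
  have hf0 : f ≠ 0 := fun h' => hf (by rw [h']; exact zero_mem _)
  haveI : IsEmpty (Fin (Chart.dim k A)) := by rw [h]; infer_instance
  have h1 : (algebraMap k (MvPolynomial (Fin (Chart.dim k A)) k)).Etale := by
    apply RingHom.Etale.of_bijective
    have h2 : (MvPolynomial.isEmptyAlgEquiv k (Fin (Chart.dim k A))).symm.toRingEquiv.toRingHom =
        algebraMap k (MvPolynomial (Fin (Chart.dim k A)) k) := by
      apply RingHom.ext
      intro x
      exact (MvPolynomial.isEmptyAlgEquiv k (Fin (Chart.dim k A))).symm.commutes x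
    rw [← h2]
    exact (MvPolynomial.isEmptyAlgEquiv k (Fin (Chart.dim k A))).symm.bijective
  have h2 : Algebra.Etale k (Localization.Away f) := by
    letI := φ.toRingHom.toAlgebra
    haveI : IsScalarTower k (MvPolynomial (Fin (Chart.dim k A)) k) (Localization.Away f) :=
      IsScalarTower.of_algebraMap_eq fun x => (φ.commutes x).symm
    haveI : Algebra.Etale k (MvPolynomial (Fin (Chart.dim k A)) k) :=
      RingHom.etale_algebraMap.1 h1
    haveI : Algebra.Etale (MvPolynomial (Fin (Chart.dim k A)) k) (Localization.Away f) :=
      RingHom.etale_algebraMap.1 hφ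
    exact Algebra.Etale.comp k (MvPolynomial (Fin (Chart.dim k A)) k) _
  haveI := h2
  haveI : Module.Finite k (Localization.Away f) := Algebra.FormallyUnramified.finite_of_free k _
  haveI : IsDomain (Localization.Away f) :=
    IsLocalization.isDomain_of_le_nonZeroDivisors (M := Submonoid.powers f) _
      (powers_le_nonZeroDivisors_of_noZeroDivisors hf0)
  have h3 := IsAlgClosed.algebraMap_bijective_of_isIntegral (k := k) (K := Localization.Away f)
  have h4 : Function.Injective (algebraMap A (Localization.Away f)) :=
    IsLocalization.injective _ (powers_le_nonZeroDivisors_of_noZeroDivisors hf0)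
  refine ⟨(algebraMap k A).injective, fun a => ?_⟩
  obtain ⟨c, hc⟩ := h3.2 (algebraMap A _ a)
  refine ⟨c, h4 ?_⟩
  rw [← hc, ← IsScalarTower.algebraMap_apply]

theorem dim_pos (h : ringKrullDim A ≠ 0) : 0 < Chart.dim k A := by
  rw [Nat.pos_iff_ne_zero]
  intro h0
  apply h
  have hb := bijective_of_dim_eq_zero k A h0
  have e : k ≃+* A := RingEquiv.ofBijective (algebraMap k A) hb
  rw [← ringKrullDim_eq_of_ringEquiv e]
  exact ringKrullDim_eq_zero_of_field k

end pos

section noeth

universe u

theorem finiteType {k : Type u} [CommRing k] {A : Type u} [CommRing A] [Algebra k A]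
    [Algebra.FiniteType k A] : ∀ n : ℕ, Algebra.FiniteType k (⨂[k] _ : Fin n, A) := by
  intro n
  induction n with
  | zero =>
    exact Algebra.FiniteType.of_surjective (Algebra.ofId k _)
      (PiAlg.bijective_algebraMap_empty (k := k) (A := fun _ : Fin 0 => A)).2
  | succ n ih =>
    haveI : Algebra.FiniteType A (A ⊗[k] (⨂[k] _ : Fin n, A)) := inferInstance
    haveI : Algebra.FiniteType k (A ⊗[k] (⨂[k] _ : Fin n, A)) :=
      Algebra.FiniteType.trans (S := A) inferInstance inferInstance
    exact Algebra.FiniteType.of_surjective
      (PiAlg.consInv k (fun _ : Fin (n + 1) => A)) PiAlg.consInv_bijective.2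

theorem isNoetherianRing {k : Type u} [Field k] {A : Type u} [CommRing A] [Algebra k A]
    [Algebra.FiniteType k A] (n : ℕ) : IsNoetherianRing (⨂[k] _ : Fin n, A) :=
  haveI := finiteType (k := k) (A := A) n
  Algebra.FiniteType.isNoetherianRing k _

end noeth

end K984.DimPos
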