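import Mathlib.RingTheory.MvPolynomial.Basic
import Mathlib.RingTheory.Ideal.Operations
import Mathlib.Algebra.MvPolynomial.Basic
import Mathlib.Algebra.BigOperators.Fin
import Mathlib.RingTheory.Ideal.Maps

/-!
# Exchange relations

In the polynomial ring `R₀[u, v]` in two sets of variables, an element of `(u)² (v)²` vanishing
on `u = v` is a combination of elements of `(u)² (v)² (u - v)` and of the exchange elements
`u_a v_b (u_i v_j - u_j v_i)`.
-/

set_option autoImplicit false

namespace K984.Exch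

open MvPolynomial

variable {R₀ : Type*} [CommRing R₀] {ι : Type*} [Fintype ι] [DecidableEq ι]

variable (R₀) in
/-- The variables of the first set. -/
noncomputable def u (i : ι) : MvPolynomial (ι ⊕ ι) R₀ := X (Sum.inl i)

variable (R₀) in
/-- The variables of the second set. -/
noncomputable def v (i : ι) : MvPolynomial (ι ⊕ ι) R₀ := X (Sum.inr i)

variable (R₀ ι) in
/-- The ideal `(u)`. -/
noncomputable def IU : Ideal (MvPolynomial (ι ⊕ ι) R₀) := Ideal.span (Set.range (u R₀))

variable (R₀ ι) in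
/-- The ideal `(v)`. -/
noncomputable def IV : Ideal (MvPolynomial (ι ⊕ ι) R₀) := Ideal.span (Set.range (v R₀))

variable (R₀ ι) in
/-- The ideal `(u - v)`. -/
noncomputable def IW : Ideal (MvPolynomial (ι ⊕ ι) R₀) :=
  Ideal.span (Set.range fun i => u R₀ i - v R₀ i)

variable (R₀ ι) in
/-- The exchange ideal. -/
noncomputable def EE : Ideal (MvPolynomial (ι ⊕ ι) R₀) :=
  Ideal.span (Set.range fun t : (ι × ι) × (ι × ι) =>
    u R₀ t.1.1 * v R₀ t.1.2 * (u R₀ t.2.1 * v R₀ t.2.2 - u R₀ t.2.2 * v R₀ t.2.1))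

variable (R₀ ι) in
/-- The ideal `N`. -/
noncomputable def NN : Ideal (MvPolynomial (ι ⊕ ι) R₀) := IU R₀ ι ^ 2 * IV R₀ ι ^ 2 * IW R₀ ι ⊔ EE R₀ ι

/-- The monomial `u ^ β`. -/
noncomputable def U (β : ι → ℕ) : MvPolynomial (ι ⊕ ι) R₀ := ∏ i, u R₀ i ^ β i

/-- The monomial `v ^ γ`. -/
noncomputable def V (γ : ι → ℕ) : MvPolynomial (ι ⊕ ι) R₀ := ∏ i, v R₀ i ^ γ i

omit [DecidableEq ι] in
theorem U_add (β β' : ι → ℕ) : (U (β + β') : MvPolynomial (ι ⊕ ι) R₀) = U β * U β' := by
  simp [U, pow_add, Finset.prod_mul_distrib]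

omit [DecidableEq ι] in
theorem V_add (β β' : ι → ℕ) : (V (β + β') : MvPolynomial (ι ⊕ ι) R₀) = V β * V β' := by
  simp [V, pow_add, Finset.prod_mul_distrib]

theorem U_single (i : ι) : (U (Pi.single i 1) : MvPolynomial (ι ⊕ ι) R₀) = u R₀ i := by
  rw [U, Finset.prod_eq_single i]
  · simp
  · intro j _ hj
    simp [Pi.single_apply, hj]
  · simp

theorem V_single (i : ι) : (V (Pi.single i 1) : MvPolynomial (ι ⊕ ι) R₀) = v R₀ i := by
  rw [V, Finset.prod_eq_single i]
  · simp
  · intro j _ hj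
    simp [Pi.single_apply, hj]
  · simp

omit [DecidableEq ι] in
theorem U_mem (β : ι → ℕ) : (U β : MvPolynomial (ι ⊕ ι) R₀) ∈ IU R₀ ι ^ (∑ i, β i) := by
  rw [U, ← Finset.prod_pow_eq_pow_sum]
  exact Ideal.prod_mem_prod fun i _ =>
    Ideal.pow_mem_pow (Ideal.subset_span (Set.mem_range_self i)) _

omit [DecidableEq ι] in
theorem V_mem (β : ι → ℕ) : (V β : MvPolynomial (ι ⊕ ι) R₀) ∈ IV R₀ ι ^ (∑ i, β i) := by
  rw [V, ← Finset.prod_pow_eq_pow_sum]
  exact Ideal.prod_mem_prod fun i _ =>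
    Ideal.pow_mem_pow (Ideal.subset_span (Set.mem_range_self i)) _

omit [DecidableEq ι] in
theorem exists_of_one_le {β : ι → ℕ} (h : 1 ≤ ∑ i, β i) : ∃ i, 1 ≤ β i := by
  by_contra hcon
  push Not at hcon
  have : ∑ i, β i = 0 := Finset.sum_eq_zero fun i _ => by have := hcon i; omega
  omega

theorem sub_single_add {β : ι → ℕ} {i : ι} (h : 1 ≤ β i) : β - Pi.single i 1 + Pi.single i 1 = β := by
  funext j
  simp only [Pi.add_apply, Pi.sub_apply, Pi.single_apply]
  split_ifs with hj
  · rw [hj]; omega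
  · simp

theorem sum_single (i : ι) : ∑ j, (Pi.single i 1 : ι → ℕ) j = 1 := by
  simp

/-- First move. -/
theorem move (β γ : ι → ℕ) (hβ : 2 ≤ ∑ i, β i) (hγ : 2 ≤ ∑ i, γ i) (i : ι) :
    (U (β + Pi.single i 1) * V γ - U β * V (γ + Pi.single i 1) : MvPolynomial (ι ⊕ ι) R₀) ∈
      NN R₀ ι := by
  have e : (U (β + Pi.single i 1) * V γ - U β * V (γ + Pi.single i 1) : MvPolynomial (ι ⊕ ι) R₀) =
      U β * V γ * (u R₀ i - v R₀ i) := by
    rw [U_add, V_add, U_single, V_single]; ring
  rw [e]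
  refine Ideal.mem_sup_left (Ideal.mul_mem_mul (Ideal.mul_mem_mul ?_ ?_) (Ideal.subset_span ⟨i, rfl⟩))
  · exact Ideal.pow_le_pow_right hβ (U_mem β)
  · exact Ideal.pow_le_pow_right hγ (V_mem γ)

/-- Second move. -/
theorem exch (β γ : ι → ℕ) (hβ : 1 ≤ ∑ i, β i) (hγ : 1 ≤ ∑ i, γ i) (i j : ι) :
    (U (β + Pi.single i 1) * V (γ + Pi.single j 1) - U (β + Pi.single j 1) * V (γ + Pi.single i 1) :
      MvPolynomial (ι ⊕ ι) R₀) ∈ NN R₀ ι := by
  obtain ⟨a, ha⟩ := exists_of_one_le hβ
  obtain ⟨b, hb⟩ := exists_of_one_le hγ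
  have e : (U (β + Pi.single i 1) * V (γ + Pi.single j 1) -
      U (β + Pi.single j 1) * V (γ + Pi.single i 1) : MvPolynomial (ι ⊕ ι) R₀) =
      (U (β - Pi.single a 1) * V (γ - Pi.single b 1)) *
        (u R₀ a * v R₀ b * (u R₀ i * v R₀ j - u R₀ j * v R₀ i)) := by
    nth_rewrite 1 [← sub_single_add ha]
    nth_rewrite 2 [← sub_single_add ha]
    nth_rewrite 1 [← sub_single_add hb]
    nth_rewrite 2 [← sub_single_add hb]
    simp only [U_add, V_add, U_single, V_single]
    ring
  rw [e]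
  exact Ideal.mem_sup_right (Ideal.mul_mem_left _ _ (Ideal.subset_span ⟨((a, b), (i, j)), rfl⟩))

theorem connected_aux : ∀ (n : ℕ) (β γ β' γ' : ι → ℕ), ∑ i, (β i - β' i) = n →
    β + γ = β' + γ' → ∑ i, β' i ≤ ∑ i, β i → 2 ≤ ∑ i, γ i → 2 ≤ ∑ i, β' i →
    (U β * V γ - U β' * V γ' : MvPolynomial (ι ⊕ ι) R₀) ∈ NN R₀ ι := by
  intro n
  induction n with
  | zero =>
    intro β γ β' γ' hn heq hle hγ hβ'
    have h1 : ∀ i, β i ≤ β' i := by
      intro i
      have := (Finset.sum_eq_zero_iff.1 hn) i (Finset.mem_univ i)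
      omega
    have h2 : β = β' := by
      by_contra hne
      have : ∑ i, β i < ∑ i, β' i := by
        apply Finset.sum_lt_sum (fun i _ => h1 i)
        by_contra hcon
        push Not at hcon
        exact hne (funext fun i => le_antisymm (h1 i) (hcon i (Finset.mem_univ i)))
      omega
    subst h2
    have h3 : γ = γ' := add_left_cancel heq
    subst h3
    rw [sub_self]
    exact zero_mem _
  | succ n ih =>
    intro β γ β' γ' hn heq hle hγ hβ'
    obtain ⟨i, hi⟩ : ∃ i, β' i < β i := by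
      by_contra hcon
      push Not at hcon
      have : ∑ i, (β i - β' i) = 0 := Finset.sum_eq_zero fun i _ => by have := hcon i; omega
      omega
    have hi1 : 1 ≤ β i := by omega
    set β₁ := β - Pi.single i 1 with hβ₁
    have hβeq : β₁ + Pi.single i 1 = β := sub_single_add hi1
    have hsum : ∑ j, β j = ∑ j, β₁ j + 1 := by
      rw [← hβeq]
      simp [Finset.sum_add_distrib]
    have hβ₁j : ∀ j, β₁ j = if j = i then β j - 1 else β j := by
      intro j
      simp only [hβ₁, Pi.sub_apply, Pi.single_apply]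
      split_ifs <;> simp
    have hex : ∑ j, (β₁ j - β' j) = n := by
      have e1 : ∑ j, (β j - β' j) = ∑ j, ((β₁ j - β' j) + (Pi.single i 1 : ι → ℕ) j) := by
        refine Finset.sum_congr rfl fun j _ => ?_
        rw [hβ₁j, Pi.single_apply]
        split_ifs with hj
        · subst hj; omega
        · simp
      rw [e1, Finset.sum_add_distrib, sum_single] at hn
      omega
    by_cases hlt : ∑ i, β' i < ∑ i, β i
    · -- move
      have h1 := move (R₀ := R₀) β₁ γ (by omega) hγ i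
      rw [hβeq] at h1
      have heq' : β₁ + (γ + Pi.single i 1) = β' + γ' := by
        rw [← heq, ← hβeq]; abel
      have h2 := ih β₁ (γ + Pi.single i 1) β' γ' hex heq' (by omega)
        (by simp only [Pi.add_apply, Finset.sum_add_distrib, sum_single]; omega) hβ'
      have := add_mem h1 h2
      convert this using 1
      ring
    · have heqs : ∑ i, β i = ∑ i, β' i := by omega
      obtain ⟨j, hj⟩ : ∃ j, β j < β' j := by
        by_contra hcon
        push Not at hcon
        have : ∑ l, β' l < ∑ l, β l :=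
          Finset.sum_lt_sum (fun l _ => hcon l) ⟨i, Finset.mem_univ i, hi⟩
        omega
      have hij : j ≠ i := by rintro rfl; omega
      have hγj : 1 ≤ γ j := by
        have := congrFun heq j
        simp only [Pi.add_apply] at this
        omega
      set γ₁ := γ - Pi.single j 1 with hγ₁
      have hγeq : γ₁ + Pi.single j 1 = γ := sub_single_add hγj
      have hsumγ : ∑ l, γ l = ∑ l, γ₁ l + 1 := by
        rw [← hγeq]
        simp [Finset.sum_add_distrib]
      have h1 := exch (R₀ := R₀) β₁ γ₁ (by omega) (by omega) i j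
      rw [hβeq, hγeq] at h1
      have heq' : (β₁ + Pi.single j 1) + (γ₁ + Pi.single i 1) = β' + γ' := by
        rw [← heq, ← hβeq, ← hγeq]; abel
      have hex' : ∑ l, ((β₁ + Pi.single j 1 : ι → ℕ) l - β' l) = n := by
        rw [← hex]
        refine Finset.sum_congr rfl fun l _ => ?_
        rw [Pi.add_apply, hβ₁j, Pi.single_apply]
        by_cases h1 : l = j
        · subst h1
          rw [if_neg hij, if_pos rfl]
          omega
        · rw [if_neg h1, add_zero]
      have h2 := ih (β₁ + Pi.single j 1) (γ₁ + Pi.single i 1) β' γ' hex' heq'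
        (by simp only [Pi.add_apply, Finset.sum_add_distrib, sum_single]; omega)
        (by simp only [Pi.add_apply, Finset.sum_add_distrib, sum_single]; omega) hβ'
      have := add_mem h1 h2
      convert this using 1
      ring

theorem connected (β γ β' γ' : ι → ℕ) (heq : β + γ = β' + γ') (hβ : 2 ≤ ∑ i, β i)
    (hγ : 2 ≤ ∑ i, γ i) (hβ' : 2 ≤ ∑ i, β' i) (hγ' : 2 ≤ ∑ i, γ' i) :
    (U β * V γ - U β' * V γ' : MvPolynomial (ι ⊕ ι) R₀) ∈ NN R₀ ι := by
  rcases le_total (∑ i, β' i) (∑ i, β i) with h | h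
  · exact connected_aux _ β γ β' γ' rfl heq h hγ hβ'
  · have := connected_aux (R₀ := R₀) _ β' γ' β γ rfl heq.symm h hγ' hβ
    have := neg_mem this
    rwa [neg_sub] at this

/-- Restriction to `u = v`. -/
noncomputable def res : MvPolynomial (ι ⊕ ι) R₀ →ₐ[R₀] MvPolynomial ι R₀ :=
  aeval (Sum.elim X X)

omit [DecidableEq ι] in
theorem res_U_V (β γ : ι → ℕ) : res (R₀ := R₀) (U β * V γ) =
    monomial (Finsupp.equivFunOnFinite.symm (β + γ)) 1 := by
  rw [map_mul, U, V, map_prod, map_prod, ← Finset.prod_mul_distrib, monomial_eq]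
  simp only [map_pow, res, u, v, aeval_X, Sum.elim_inl, Sum.elim_inr, map_one, one_mul, ← pow_add]
  rw [Finsupp.prod_fintype _ _ (by simp)]
  rfl

open Classical in
/-- A choice of a monomial with given restriction. -/
noncomputable def choice (ν : ι →₀ ℕ) : MvPolynomial (ι ⊕ ι) R₀ :=
  if h : ∃ t : (ι → ℕ) × (ι → ℕ), t.1 + t.2 = ν ∧ 2 ≤ ∑ i, t.1 i ∧ 2 ≤ ∑ i, t.2 i then
    U h.choose.1 * V h.choose.2 else 0

/-- Linear extension of the choice. -/
noncomputable def lift : MvPolynomial ι R₀ →ₗ[R₀] MvPolynomial (ι ⊕ ι) R₀ :=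
  (basisMonomials ι R₀).constr R₀ choice

theorem sub_lift_res_mem (β γ : ι → ℕ) (hβ : 2 ≤ ∑ i, β i) (hγ : 2 ≤ ∑ i, γ i) :
    (U β * V γ - lift (res (U β * V γ)) : MvPolynomial (ι ⊕ ι) R₀) ∈ NN R₀ ι := by
  have h1 : lift (R₀ := R₀) (res (U β * V γ)) =
      choice (Finsupp.equivFunOnFinite.symm (β + γ)) := by
    rw [res_U_V, lift]
    have := (basisMonomials ι R₀).constr_basis R₀ (choice (R₀ := R₀) (ι := ι))
      (Finsupp.equivFunOnFinite.symm (β + γ))
    rwa [coe_basisMonomials] at this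
  rw [h1, choice]
  have hex : ∃ t : (ι → ℕ) × (ι → ℕ), t.1 + t.2 = (Finsupp.equivFunOnFinite.symm (β + γ) : ι →₀ ℕ) ∧
      2 ≤ ∑ i, t.1 i ∧ 2 ≤ ∑ i, t.2 i := ⟨(β, γ), rfl, hβ, hγ⟩
  rw [dif_pos hex]
  have hs := hex.choose_spec
  exact connected β γ _ _ hs.1.symm hβ hγ hs.2.1 hs.2.2

/-- The span of the monomials. -/
noncomputable def FF : Ideal (MvPolynomial (ι ⊕ ι) R₀) :=
  { (Submodule.span R₀ {f | ∃ β γ : ι → ℕ, 2 ≤ ∑ i, β i ∧ 2 ≤ ∑ i, γ i ∧
      f = (U β * V γ : MvPolynomial (ι ⊕ ι) R₀)}) with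
    smul_mem' := by
      intro g x hx
      change g * x ∈ Submodule.span R₀ _
      change x ∈ Submodule.span R₀ _ at hx
      induction hx using Submodule.span_induction with
      | mem x hx =>
        obtain ⟨β, γ, hβ, hγ, rfl⟩ := hx
        induction g using MvPolynomial.induction_on' with
        | monomial m c =>
          have e : monomial m c * (U β * V γ : MvPolynomial (ι ⊕ ι) R₀) =
              c • (U (β + fun i => m (Sum.inl i)) * V (γ + fun i => m (Sum.inr i))) := by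
            rw [U_add, V_add, monomial_eq, Finsupp.prod_fintype _ _ (by simp),
              Fintype.prod_sum_type, smul_eq_C_mul]
            simp only [U, V, u, v]
            ring
          rw [e]
          refine Submodule.smul_mem _ _ (Submodule.subset_span ⟨_, _, ?_, ?_, rfl⟩)
          · simp only [Pi.add_apply, Finset.sum_add_distrib]; omega
          · simp only [Pi.add_apply, Finset.sum_add_distrib]; omega
        | add p q hp hq => rw [add_mul]; exact add_mem hp hq
      | zero => rw [mul_zero]; exact zero_mem _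
      | add x y _ _ hx hy => rw [mul_add]; exact add_mem hx hy
      | smul c x _ hx => rw [mul_smul_comm]; exact Submodule.smul_mem _ _ hx }

theorem le_FF : IU R₀ ι ^ 2 * IV R₀ ι ^ 2 ≤ FF := by
  rw [pow_two, pow_two, IU, IV]
  simp only [Ideal.span_mul_span', Ideal.span_le]
  rintro _ ⟨_, ⟨_, ⟨i, rfl⟩, _, ⟨j, rfl⟩, rfl⟩, _, ⟨_, ⟨l, rfl⟩, _, ⟨m, rfl⟩, rfl⟩, rfl⟩
  refine Submodule.subset_span ⟨Pi.single i 1 + Pi.single j 1, Pi.single l 1 + Pi.single m 1,
    ?_, ?_, ?_⟩
  · simp [Finset.sum_add_distrib]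
  · simp [Finset.sum_add_distrib]
  · simp only [U_add, V_add, U_single, V_single]

/-- **Main result**. -/
theorem mem_NN (f : MvPolynomial (ι ⊕ ι) R₀) (hf : f ∈ IU R₀ ι ^ 2 * IV R₀ ι ^ 2)
    (hf' : f ∈ IW R₀ ι) : f ∈ NN R₀ ι := by
  have key : ∀ g ∈ Submodule.span R₀ {f | ∃ β γ : ι → ℕ, 2 ≤ ∑ i, β i ∧ 2 ≤ ∑ i, γ i ∧
      f = (U β * V γ : MvPolynomial (ι ⊕ ι) R₀)}, g - lift (res g) ∈ NN R₀ ι := by
    intro g hg
    induction hg using Submodule.span_induction with
    | mem x hx =>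
      obtain ⟨β, γ, hβ, hγ, rfl⟩ := hx
      exact sub_lift_res_mem β γ hβ hγ
    | zero => simp
    | add x y _ _ hx hy =>
      have := add_mem hx hy
      rw [map_add, map_add]
      convert this using 1
      ring
    | smul c x _ hx =>
      rw [map_smul, map_smul, ← smul_sub, smul_eq_C_mul]
      exact Ideal.mul_mem_left _ _ hx
  have h1 : f - lift (res f) ∈ NN R₀ ι := key f (le_FF hf)
  have h2 : res f = 0 := by
    have hle : IW R₀ ι ≤ RingHom.ker (res (R₀ := R₀) (ι := ι)) := by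
      rw [IW, Ideal.span_le]
      rintro _ ⟨i, rfl⟩
      change res (u R₀ i - v R₀ i) = 0
      simp [res, u, v]
    exact hle hf'
  rwa [h2, map_zero, sub_zero] at h1

end K984.Exch
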