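import Groth.Agent.DiagIdeal.K984.Tri

/-!
# The fourfold tensor product, its invariants, and evaluation maps
-/

set_option autoImplicit false

namespace K984.Four

open TensorProduct K984.Tri

variable {k : Type*} {A : Type*} [CommRing k] [CommRing A] [Algebra k A]

variable (k) in
/-- First coordinate. -/
noncomputable def c1 : A →ₐ[k] A ⊗[k] (A ⊗[k] (A ⊗[k] A)) := Algebra.TensorProduct.includeLeft

variable (k) in
/-- Second coordinate. -/
noncomputable def c2 : A →ₐ[k] A ⊗[k] (A ⊗[k] (A ⊗[k] A)) :=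
  Algebra.TensorProduct.includeRight.comp (p k)

variable (k) in
/-- Third coordinate. -/
noncomputable def c3 : A →ₐ[k] A ⊗[k] (A ⊗[k] (A ⊗[k] A)) :=
  Algebra.TensorProduct.includeRight.comp (q k)

variable (k) in
/-- Fourth coordinate. -/
noncomputable def c4 : A →ₐ[k] A ⊗[k] (A ⊗[k] (A ⊗[k] A)) :=
  Algebra.TensorProduct.includeRight.comp (s k)

/-- Evaluation. -/
noncomputable def Ev {B : Type*} [CommRing B] [Algebra k B] (x1 x2 x3 x4 : A →ₐ[k] B) :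
    A ⊗[k] (A ⊗[k] (A ⊗[k] A)) →ₐ[k] B :=
  Algebra.TensorProduct.lift x1
    (Algebra.TensorProduct.lift x2
      (Algebra.TensorProduct.lift x3 x4 (fun _ _ => Commute.all _ _)) (fun _ _ => Commute.all _ _))
    (fun _ _ => Commute.all _ _)

section Ev

variable {B : Type*} [CommRing B] [Algebra k B] (x1 x2 x3 x4 : A →ₐ[k] B) (a b c e : A)

theorem Ev_tmul : Ev x1 x2 x3 x4 (a ⊗ₜ[k] (b ⊗ₜ[k] (c ⊗ₜ[k] e))) = x1 a * (x2 b * (x3 c * x4 e)) := by
  simp [Ev]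

theorem Ev_c1 : Ev x1 x2 x3 x4 (c1 k a) = x1 a := by simp [Ev, c1]

theorem Ev_c2 : Ev x1 x2 x3 x4 (c2 k a) = x2 a := by simp [Ev, c2, p_apply]

theorem Ev_c3 : Ev x1 x2 x3 x4 (c3 k a) = x3 a := by simp [Ev, c3, q_apply]

theorem Ev_c4 : Ev x1 x2 x3 x4 (c4 k a) = x4 a := by simp [Ev, c4, s_apply]

end Ev

/-- Induction on the fourfold tensor product. -/
theorem four_induction {P : A ⊗[k] (A ⊗[k] (A ⊗[k] A)) → Prop} (h0 : P 0)
    (hadd : ∀ x y, P x → P y → P (x + y))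
    (h : ∀ a b c e : A, P (a ⊗ₜ[k] (b ⊗ₜ[k] (c ⊗ₜ[k] e)))) :
    ∀ y, P y := by
  intro y
  induction y using TensorProduct.induction_on with
  | zero => exact h0
  | add x y hx hy => exact hadd _ _ hx hy
  | tmul a y =>
    refine tri_induction (P := fun y => P (a ⊗ₜ[k] y)) (by rw [TensorProduct.tmul_zero]; exact h0)
      (fun x y hx hy => by rw [TensorProduct.tmul_add]; exact hadd _ _ hx hy) ?_ y
    intro b c e
    rw [← tmul_eq]
    exact h a b c e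

variable (k A) in
/-- The sum over the words with two `P`, one `Q`, one `R`. -/
noncomputable def SE : A ⊗[k] (A ⊗[k] (A ⊗[k] A)) →ₗ[k] A ⊗[k] (A ⊗[k] A) :=
  (Ev (p k) (p k) (q k) (s k)).toLinearMap + (Ev (p k) (p k) (s k) (q k)).toLinearMap +
  (Ev (p k) (q k) (p k) (s k)).toLinearMap + (Ev (p k) (s k) (p k) (q k)).toLinearMap +
  (Ev (p k) (q k) (s k) (p k)).toLinearMap + (Ev (p k) (s k) (q k) (p k)).toLinearMap +
  (Ev (q k) (p k) (p k) (s k)).toLinearMap + (Ev (s k) (p k) (p k) (q k)).toLinearMap +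
  (Ev (q k) (p k) (s k) (p k)).toLinearMap + (Ev (s k) (p k) (q k) (p k)).toLinearMap +
  (Ev (q k) (s k) (p k) (p k)).toLinearMap + (Ev (s k) (q k) (p k) (p k)).toLinearMap

theorem SE_apply (F : A ⊗[k] (A ⊗[k] (A ⊗[k] A))) : SE k A F =
  Ev (p k) (p k) (q k) (s k) F + Ev (p k) (p k) (s k) (q k) F +
  Ev (p k) (q k) (p k) (s k) F + Ev (p k) (s k) (p k) (q k) F +
  Ev (p k) (q k) (s k) (p k) F + Ev (p k) (s k) (q k) (p k) F +
  Ev (q k) (p k) (p k) (s k) F + Ev (s k) (p k) (p k) (q k) F +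
  Ev (q k) (p k) (s k) (p k) F + Ev (s k) (p k) (q k) (p k) F +
  Ev (q k) (s k) (p k) (p k) F + Ev (s k) (q k) (p k) (p k) F := rfl

variable (k A) in
/-- First transposition. -/
noncomputable def t1 : A ⊗[k] (A ⊗[k] (A ⊗[k] A)) →ₗ[k] A ⊗[k] (A ⊗[k] (A ⊗[k] A)) :=
  (TensorProduct.leftComm k A A (A ⊗[k] A)).toLinearMap

variable (k A) in
/-- Second transposition. -/
noncomputable def t2 : A ⊗[k] (A ⊗[k] (A ⊗[k] A)) →ₗ[k] A ⊗[k] (A ⊗[k] (A ⊗[k] A)) :=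
  LinearMap.lTensor A (TensorProduct.leftComm k A A A).toLinearMap

variable (k A) in
/-- Third transposition. -/
noncomputable def t3 : A ⊗[k] (A ⊗[k] (A ⊗[k] A)) →ₗ[k] A ⊗[k] (A ⊗[k] (A ⊗[k] A)) :=
  LinearMap.lTensor A (LinearMap.lTensor A (TensorProduct.comm k A A).toLinearMap)

theorem t1_tmul (a b c e : A) : t1 k A (a ⊗ₜ[k] (b ⊗ₜ[k] (c ⊗ₜ[k] e))) =
    b ⊗ₜ[k] (a ⊗ₜ[k] (c ⊗ₜ[k] e)) := rfl

theorem t2_tmul (a b c e : A) : t2 k A (a ⊗ₜ[k] (b ⊗ₜ[k] (c ⊗ₜ[k] e))) =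
    a ⊗ₜ[k] (c ⊗ₜ[k] (b ⊗ₜ[k] e)) := rfl

theorem t3_tmul (a b c e : A) : t3 k A (a ⊗ₜ[k] (b ⊗ₜ[k] (c ⊗ₜ[k] e))) =
    a ⊗ₜ[k] (b ⊗ₜ[k] (e ⊗ₜ[k] c)) := rfl

/-- Symmetrization. -/
noncomputable def Sym (x : A ⊗[k] (A ⊗[k] (A ⊗[k] A))) : A ⊗[k] (A ⊗[k] (A ⊗[k] A)) :=
  let y1 := x + t1 k A x
  let y2 := y1 + t2 k A y1 + t1 k A (t2 k A y1)
  y2 + t3 k A y2 + t2 k A (t3 k A y2) + t1 k A (t2 k A (t3 k A y2))

theorem Sym_zero : Sym (0 : A ⊗[k] (A ⊗[k] (A ⊗[k] A))) = 0 := by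
  simp [Sym]

theorem Sym_add (x y : A ⊗[k] (A ⊗[k] (A ⊗[k] A))) : Sym (x + y) = Sym x + Sym y := by
  simp only [Sym, map_add]
  abel

theorem t1_Sym (x : A ⊗[k] (A ⊗[k] (A ⊗[k] A))) : t1 k A (Sym x) = Sym x := by
  refine four_induction (P := fun x => t1 k A (Sym x) = Sym x) (by simp [Sym_zero]) ?_ ?_ x
  · intro x y hx hy
    rw [Sym_add, map_add, hx, hy]
  · intro a b c e
    simp only [Sym, map_add, t1_tmul, t2_tmul, t3_tmul]
    abel

theorem t2_Sym (x : A ⊗[k] (A ⊗[k] (A ⊗[k] A))) : t2 k A (Sym x) = Sym x := by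
  refine four_induction (P := fun x => t2 k A (Sym x) = Sym x) (by simp [Sym_zero]) ?_ ?_ x
  · intro x y hx hy
    rw [Sym_add, map_add, hx, hy]
  · intro a b c e
    simp only [Sym, map_add, t1_tmul, t2_tmul, t3_tmul]
    abel

theorem t3_Sym (x : A ⊗[k] (A ⊗[k] (A ⊗[k] A))) : t3 k A (Sym x) = Sym x := by
  refine four_induction (P := fun x => t3 k A (Sym x) = Sym x) (by simp [Sym_zero]) ?_ ?_ x
  · intro x y hx hy
    rw [Sym_add, map_add, hx, hy]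
  · intro a b c e
    simp only [Sym, map_add, t1_tmul, t2_tmul, t3_tmul]
    abel

variable (k A) in
/-- Restriction to the diagonal of the first two factors. -/
noncomputable def r : A ⊗[k] (A ⊗[k] (A ⊗[k] A)) →ₐ[k] A ⊗[k] (A ⊗[k] A) :=
  Ev (p k) (p k) (q k) (s k)

theorem r_tmul (a b c e : A) : r k A (a ⊗ₜ[k] (b ⊗ₜ[k] (c ⊗ₜ[k] e))) =
    (a * b) ⊗ₜ[k] (c ⊗ₜ[k] e) := by
  rw [r, Ev_tmul, tmul_eq, map_mul]
  ring

theorem r_Sym (x : A ⊗[k] (A ⊗[k] (A ⊗[k] A))) : r k A (Sym x) = 2 * SE k A x := by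
  refine four_induction (P := fun x => r k A (Sym x) = 2 * SE k A x) (by simp [Sym_zero]) ?_ ?_ x
  · intro x y hx hy
    rw [Sym_add, map_add, hx, hy, map_add, mul_add]
  · intro a b c e
    simp only [Sym, map_add, t1_tmul, t2_tmul, t3_tmul, r_tmul, SE_apply, Ev_tmul]
    simp only [tmul_eq, map_mul]
    ring

theorem Sym_eq (x : A ⊗[k] (A ⊗[k] (A ⊗[k] A))) (h1 : t1 k A x = x) (h2 : t2 k A x = x)
    (h3 : t3 k A x = x) : Sym x = 24 • x := by
  simp only [Sym, map_add, h1, h2, h3]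
  abel

theorem sw_SE (F : A ⊗[k] (A ⊗[k] (A ⊗[k] A))) : sw k A (SE k A F) = SE k A F := by
  refine four_induction (P := fun F => sw k A (SE k A F) = SE k A F) (by simp) ?_ ?_ F
  · intro x y hx hy
    rw [map_add, map_add, hx, hy]
  · intro a b c e
    simp only [SE_apply, Ev_tmul, map_add, map_mul, sw_p, sw_q, sw_s]
    ring

theorem comm_eq_algHom (x : A ⊗[k] A) :
    TensorProduct.comm k A A x = Algebra.TensorProduct.comm k A A x := rfl

theorem comm_rQR_SE (F : A ⊗[k] (A ⊗[k] (A ⊗[k] A))) :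
    TensorProduct.comm k A A (rQR k A (SE k A F)) = rQR k A (SE k A F) := by
  rw [comm_eq_algHom]
  refine four_induction (P := fun F => Algebra.TensorProduct.comm k A A (rQR k A (SE k A F)) =
    rQR k A (SE k A F)) (by simp) ?_ ?_ F
  · intro x y hx hy
    rw [map_add, map_add, map_add, hx, hy]
  · intro a b c e
    simp only [SE_apply, Ev_tmul, map_add, map_mul, rQR_p, rQR_q, rQR_s,
      Algebra.TensorProduct.comm_tmul]
    ring

end K984.Four
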