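import Mathlib.RingTheory.PiTensorProduct
import Mathlib.RingTheory.Ideal.Operations
import Mathlib.RingTheory.Ideal.Quotient.Operations

/-!
# Permutations of the factors of a tensor power, diagonal ideals
-/

set_option autoImplicit false

namespace K984.Perm

open TensorProduct

section general

variable {R : Type*} [CommRing R] (τ : R →+* R) {ι : Type*} (g : ι → R)

/-- A ring endomorphism congruent to the identity modulo `I` and acting by `-1` on generators of `I`
acts by `(-1)^s` on `I^s/I^(s+1)`. -/
theorem sub_mem_pow_succ (I : Ideal R) (hI : I = Ideal.span (Set.range g))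
    (hg : ∀ a, τ (g a) = - g a) (hτ : ∀ r, τ r - r ∈ I) (s : ℕ) :
    ∀ f ∈ I ^ s, τ f - (-1) ^ s * f ∈ I ^ (s + 1) := by
  have hmemI : ∀ h ∈ I, τ h ∈ I := by
    intro h hh
    have := add_mem (hτ h) hh
    simpa using this
  have h2 : ∀ h ∈ I, τ h + h ∈ I ^ 2 := by
    intro h hh
    have hh' : h ∈ Ideal.span (Set.range g) := hI ▸ hh
    induction hh' using Submodule.span_induction with
    | mem x hx =>
      obtain ⟨a, rfl⟩ := hx
      rw [hg]
      simp
    | zero => simp
    | add x y hx hy hx' hy' =>
      have := add_mem (hx' (hI ▸ hx)) (hy' (hI ▸ hy))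
      rw [map_add]
      convert this using 1
      ring
    | smul r x hx hx' =>
      have hxI : x ∈ I := hI ▸ hx
      rw [smul_eq_mul, map_mul]
      have e : τ r * τ x + r * x = (τ r - r) * τ x + r * (τ x + x) := by ring
      rw [e, pow_two]
      refine add_mem (Ideal.mul_mem_mul (hτ r) (hmemI x hxI)) ?_
      rw [← pow_two]
      exact Ideal.mul_mem_left _ _ (hx' hxI)
  induction s with
  | zero =>
    intro f _
    simpa using hτ f
  | succ s ih =>
    intro f hf
    rw [pow_succ] at hf
    induction hf using Submodule.mul_induction_on' with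
    | mem_mul_mem x hx y hy =>
      have e : τ (x * y) - (-1) ^ (s + 1) * (x * y) =
        (τ x - (-1) ^ s * x) * τ y + ((-1) ^ s * x) * (τ y + y) := by
        rw [map_mul]; ring
      rw [e]
      refine add_mem ?_ ?_
      · rw [pow_succ]
        exact Ideal.mul_mem_mul (ih x hx) (hmemI y hy)
      · rw [show s + 1 + 1 = s + 2 from rfl, pow_add]
        exact Ideal.mul_mem_mul (Ideal.mul_mem_left _ _ hx) (h2 y hy)
    | add x _ y _ hx hy =>
      have := add_mem hx hy
      rw [map_add]
      convert this using 1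
      ring

end general

variable {k A : Type*} [CommRing k] [CommRing A] [Algebra k A] {n : ℕ}

/-- The permutation action on a tensor power, as an algebra map. -/
noncomputable def permHom (σ : Equiv.Perm (Fin n)) :
    (⨂[k] _ : Fin n, A) →ₐ[k] (⨂[k] _ : Fin n, A) :=
  AlgHom.ofLinearMap (PiTensorProduct.reindex k (fun _ : Fin n => A) σ).toLinearMap
    (by
      rw [PiTensorProduct.one_def]
      simp only [LinearEquiv.coe_coe]
      rw [PiTensorProduct.reindex_tprod]
      rfl)
    (by
      rw [LinearMap.map_mul_iff]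
      ext x y
      simp only [LinearMap.compMultilinearMap_apply, LinearMap.compr₂_apply,
        LinearMap.mul_apply', LinearEquiv.coe_coe, LinearMap.compl₂_apply, LinearMap.comp_apply,
        PiTensorProduct.tprod_mul_tprod, PiTensorProduct.reindex_tprod]
      rfl)

theorem permHom_apply (σ : Equiv.Perm (Fin n)) (x : ⨂[k] _ : Fin n, A) :
    permHom σ x = PiTensorProduct.reindex k (fun _ : Fin n => A) σ x := rfl

/-- The inclusion of the `i`-th factor. -/
noncomputable abbrev ι (k : Type*) {A : Type*} [CommRing k] [CommRing A] [Algebra k A] {n : ℕ}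
    (i : Fin n) : A →ₐ[k] (⨂[k] _ : Fin n, A) :=
  PiTensorProduct.singleAlgHom (R := k) (A := fun _ : Fin n => A) i

theorem permHom_single (σ : Equiv.Perm (Fin n)) (i : Fin n) (a : A) :
    permHom σ (ι k i a) = ι k (σ i) a := by
  rw [permHom_apply]
  simp only [PiTensorProduct.singleAlgHom_apply]
  rw [PiTensorProduct.reindex_tprod]
  congr 1
  ext j
  simp only [MonoidHom.mulSingle_apply, Pi.mulSingle_apply]
  by_cases h : j = σ i
  · simp [h]
  · rw [if_neg h, if_neg]
    rintro h'
    exact h (by rw [← h']; simp)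

/-- The ideal of the diagonal of the factors `i` and `j`. -/
noncomputable def diag (k : Type*) (A : Type*) [CommRing k] [CommRing A] [Algebra k A] {n : ℕ}
    (i j : Fin n) : Ideal (⨂[k] _ : Fin n, A) :=
  Ideal.span (Set.range fun a : A => ι k i a - ι k j a)

theorem permHom_sub_mem (σ : Equiv.Perm (Fin n)) (I : Ideal (⨂[k] _ : Fin n, A))
    (h : ∀ i (a : A), ι k (σ i) a - ι k i a ∈ I) (x : ⨂[k] _ : Fin n, A) :
    permHom σ x - x ∈ I := by
  have e : (Ideal.Quotient.mkₐ k I).comp (permHom σ) = Ideal.Quotient.mkₐ k I := by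
    apply PiTensorProduct.algHom_ext
    intro i
    apply AlgHom.ext
    intro a
    change Ideal.Quotient.mk I (permHom σ (ι k i a)) = Ideal.Quotient.mk I (ι k i a)
    rw [permHom_single, Ideal.Quotient.mk_eq_mk_iff_sub_mem]
    exact h i a
  rw [← Ideal.Quotient.mk_eq_mk_iff_sub_mem]
  exact AlgHom.congr_fun e x

theorem swap_sub_mem (i j : Fin n) (x : ⨂[k] _ : Fin n, A) :
    permHom (Equiv.swap i j) x - x ∈ diag k A i j := by
  apply permHom_sub_mem
  intro l a
  have h1 : ι k i a - ι k j a ∈ diag k A i j := Ideal.subset_span ⟨a, rfl⟩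
  have h2 : ι k j a - ι k i a ∈ diag k A i j := by
    have := neg_mem h1
    rwa [neg_sub] at this
  rcases eq_or_ne l i with rfl | hi
  · rw [Equiv.swap_apply_left]; exact h2
  · rcases eq_or_ne l j with rfl | hj
    · rw [Equiv.swap_apply_right]; exact h1
    · rw [Equiv.swap_apply_of_ne_of_ne hi hj, sub_self]; exact zero_mem _

/-- An element of an odd power of the ideal of a diagonal fixed by the swap lies in the next even
power. -/
theorem mem_pow_succ_of_swap (h2 : IsUnit (2 : k)) (i j : Fin n) (s : ℕ) (hs : Odd s)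
    (x : ⨂[k] _ : Fin n, A)
    (hx : PiTensorProduct.reindex k (fun _ : Fin n => A) (Equiv.swap i j) x = x)
    (hmem : x ∈ (diag k A i j) ^ s) : x ∈ (diag k A i j) ^ (s + 1) := by
  have h := sub_mem_pow_succ (permHom (k := k) (A := A) (Equiv.swap i j)).toRingHom
    (fun a : A => ι k i a - ι k j a) (diag k A i j) rfl
    (fun a => by
      simp only [AlgHom.toRingHom_eq_coe, RingHom.coe_coe, map_sub, permHom_single,
        Equiv.swap_apply_left, Equiv.swap_apply_right, neg_sub])
    (fun r => swap_sub_mem i j r) s x hmem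
  have e : (permHom (k := k) (A := A) (Equiv.swap i j)).toRingHom x = x := hx
  rw [e, hs.neg_one_pow] at h
  have h' : algebraMap k (⨂[k] _ : Fin n, A) 2 * x ∈ (diag k A i j) ^ (s + 1) := by
    rw [map_ofNat]
    convert h using 1
    ring
  obtain ⟨u, hu⟩ := h2
  have h3 := Ideal.mul_mem_left _ (algebraMap k (⨂[k] _ : Fin n, A) (u⁻¹ : kˣ)) h'
  rwa [← mul_assoc, ← map_mul, ← hu, Units.inv_mul, map_one, one_mul] at h3

end K984.Perm
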