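import Groth.Agent.DiagIdeal.K984.Loc
import Groth.Agent.DiagIdeal.K984.FlatInf
import Groth.Agent.DiagIdeal.K984.Perm
import Mathlib.RingTheory.LocalProperties.Basic

/-!
# Invariants of the intersection of the diagonal ideals lie in their product
-/

set_option autoImplicit false

namespace K984.InvMain

open TensorProduct Loc LinIdeal PolyDiag

variable {k A : Type*} [Field k] [CommRing A] [Algebra k A] [Algebra.Smooth k A] [IsDomain A]
  {n : ℕ}

omit [Algebra.Smooth k A] [IsDomain A] in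
theorem diag_self (i : Fin n) : diag k A i i = ⊥ := by
  rw [diag, eq_bot_iff, Ideal.span_le]
  rintro _ ⟨a, rfl⟩
  simp

omit [Algebra.Smooth k A] [IsDomain A] in
theorem diag_le_iff (i j : Fin n) (J : Ideal (⨂[k] _ : Fin n, A)) : diag k A i j ≤ J ↔
    ∀ a, PiAlg.single k (fun _ : Fin n => A) i a - PiAlg.single k (fun _ : Fin n => A) j a ∈ J := by
  rw [diag, Ideal.span_le]
  constructor
  · intro h a
    exact h ⟨a, rfl⟩
  · rintro h _ ⟨a, rfl⟩
    exact h a

omit [Algebra.Smooth k A] [IsDomain A] in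
theorem diag_symm_le {i j : Fin n} {J : Ideal (⨂[k] _ : Fin n, A)} (h : diag k A i j ≤ J) :
    diag k A j i ≤ J := by
  rw [diag_le_iff] at h ⊢
  intro a
  have := neg_mem (h a)
  rwa [neg_sub] at this

omit [Algebra.Smooth k A] [IsDomain A] in
theorem diag_trans_le {i j l : Fin n} {J : Ideal (⨂[k] _ : Fin n, A)} (h : diag k A i j ≤ J)
    (h' : diag k A j l ≤ J) : diag k A i l ≤ J := by
  rw [diag_le_iff] at h h' ⊢
  intro a
  have := add_mem (h a) (h' a)
  rwa [sub_add_sub_cancel] at this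

theorem map_finset_prod {R S : Type*} [CommRing R] [CommRing S] (φ : R →+* S) {α : Type*}
    (s : Finset α) (I : α → Ideal R) : (∏ i ∈ s, I i).map φ = ∏ i ∈ s, (I i).map φ :=
  map_prod (Ideal.mapHom φ) I s

/-- The equivalence relation on the indices defined by an ideal. -/
def rel (𝔪 : Ideal (⨂[k] _ : Fin n, A)) : Setoid (Fin n) where
  r i j := diag k A i j ≤ 𝔪
  iseqv := ⟨fun i => by rw [diag_self]; exact bot_le, fun h => diag_symm_le h,
    fun h h' => diag_trans_le h h'⟩

/-- The intersection of the squares of the diagonal ideals is contained in their product. -/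
theorem mem_prod_of_mem_sq [Infinite k] (hn : Small n) (x : ⨂[k] _ : Fin n, A)
    (hx : ∀ p : Fin n × Fin n, p.1 < p.2 → x ∈ diag k A p.1 p.2 ^ 2) :
    x ∈ ∏ p ∈ Finset.univ.filter (fun p : Fin n × Fin n => p.1 < p.2), diag k A p.1 p.2 := by
  classical
  apply Ideal.mem_of_localization_maximal
  intro 𝔪 h𝔪
  haveI := h𝔪.isPrime
  let c : Fin n → Quotient (rel 𝔪) := fun i => Quotient.mk _ i
  have hc : ∀ i j, c i = c j ↔ diag k A i j ≤ 𝔪 := fun i j => Quotient.eq
  set φ := algebraMap (⨂[k] _ : Fin n, A) (Localization.AtPrime 𝔪) with hφ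
  have h1 : (∏ p ∈ Finset.univ.filter (fun p : Fin n × Fin n => p.1 < p.2),
      diag k A p.1 p.2).map φ = ∏ p ∈ pairs c, (diag k A p.1 p.2).map φ := by
    rw [map_finset_prod]
    symm
    apply Finset.prod_subset
    · intro p hp
      rw [mem_pairs] at hp
      simp [hp.1]
    · intro p hp hp'
      simp only [Finset.mem_filter, Finset.mem_univ, true_and] at hp
      rw [mem_pairs, not_and, hc] at hp'
      have hnot := hp' hp
      rw [Ideal.one_eq_top]
      obtain ⟨a, ha, ha'⟩ := SetLike.not_le_iff_exists.1 hnot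
      exact Ideal.eq_top_of_isUnit_mem _ (Ideal.mem_map_of_mem φ ha)
        (IsLocalization.map_units (Localization.AtPrime 𝔪) (⟨a, ha'⟩ : 𝔪.primeCompl))
  have h2 : ∏ p ∈ pairs c, (diag k A p.1 p.2).map φ =
      (∏ p ∈ pairs c, ideal (V k p.1 p.2)).map (chart 𝔪).toRingHom := by
    rw [map_finset_prod]
    refine Finset.prod_congr rfl fun p hp => ?_
    exact map_diag 𝔪 ((hc _ _).1 (mem_pairs.1 hp).2)
  rw [h1, h2]
  have h3 : (pairs c).inf (fun p => ideal (V k p.1 p.2 : Submodule k (Fin n × Fin (Chart.dim k A) → k)) ^ 2) ≤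
      ∏ p ∈ pairs c, ideal (V k p.1 p.2) := by
    intro g hg
    apply PolyDiag.mem_prod_of_mem_sq hn
    intro p hp
    exact (Finset.inf_le (f := fun p : Fin n × Fin n =>
      ideal (V k p.1 p.2 : Submodule k (Fin n × Fin (Chart.dim k A) → k)) ^ 2) hp) hg
  refine Ideal.map_mono h3 ?_
  apply FlatInf.mem_map_finset_inf _ (chart_flat 𝔪)
  intro p hp
  rw [Ideal.map_pow, ← map_diag 𝔪 ((hc _ _).1 (mem_pairs.1 hp).2), ← Ideal.map_pow]
  exact Ideal.mem_map_of_mem φ (hx p (mem_pairs.1 hp).1)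

/-- **Main result**. -/
theorem mem_prod_of_invariant [CharZero k] (hn : Small n) (x : ⨂[k] _ : Fin n, A)
    (hx : ∀ σ : Equiv.Perm (Fin n), PiTensorProduct.reindex k (fun _ : Fin n => A) σ x = x)
    (hmem : ∀ p : Fin n × Fin n, p.1 < p.2 → x ∈ diag k A p.1 p.2) :
    x ∈ ∏ p ∈ Finset.univ.filter (fun p : Fin n × Fin n => p.1 < p.2), diag k A p.1 p.2 := by
  haveI : Infinite k := Infinite.of_injective _ (Nat.cast_injective (R := k))
  apply mem_prod_of_mem_sq hn
  intro p hp
  have := Perm.mem_pow_succ_of_swap (k := k) (A := A)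
    (isUnit_iff_ne_zero.2 (two_ne_zero : (2 : k) ≠ 0)) p.1 p.2 1 odd_one x (hx _)
    (by rw [pow_one]; exact hmem p hp)
  exact this

end K984.InvMain
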