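import Mathlib.RingTheory.MvPolynomial.Homogeneous
import Mathlib.RingTheory.MvPolynomial.Ideal
import Mathlib.RingTheory.GradedAlgebra.Homogeneous.Ideal
import Mathlib.RingTheory.Polynomial.Basic
import Mathlib.GroupTheory.CosetCover
import Mathlib.LinearAlgebra.Projection
import Mathlib.LinearAlgebra.Basis.VectorSpace

/-!
# Ideals generated by linear forms in a polynomial ring

`lin c = ∑ c i • X i`, `ideal V` is the ideal generated by the linear forms of `V`.
-/

set_option autoImplicit false

namespace K984.LinIdeal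

open MvPolynomial

variable {k : Type*} [Field k] {ι : Type*} [Fintype ι]

/-- The linear form with coefficients `c`. -/
noncomputable def lin : (ι → k) →ₗ[k] MvPolynomial ι k where
  toFun c := ∑ i, c i • X i
  map_add' c d := by simp [add_smul, Finset.sum_add_distrib]
  map_smul' a c := by simp [mul_smul, Finset.smul_sum]

theorem lin_apply (c : ι → k) : lin c = ∑ i, c i • (X i : MvPolynomial ι k) := rfl

theorem lin_single [DecidableEq ι] (i : ι) : lin (Pi.single i (1 : k)) = (X i : MvPolynomial ι k) := by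
  rw [lin_apply, Finset.sum_eq_single i]
  · simp
  · intro j _ hj
    simp [Pi.single_apply, hj]
  · simp

theorem lin_isHomogeneous (c : ι → k) : (lin c).IsHomogeneous 1 := by
  rw [lin_apply]
  refine MvPolynomial.IsHomogeneous.sum _ _ _ fun i _ => ?_
  rw [smul_eq_C_mul]
  exact isHomogeneous_C_mul_X _ _

/-- The ideal generated by the linear forms of `V`. -/
noncomputable def ideal (V : Submodule k (ι → k)) : Ideal (MvPolynomial ι k) :=
  Ideal.span (lin '' (V : Set (ι → k)))

theorem lin_mem {V : Submodule k (ι → k)} {c : ι → k} (h : c ∈ V) : lin c ∈ ideal V :=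
  Ideal.subset_span ⟨c, h, rfl⟩

theorem ideal_le_iff {V : Submodule k (ι → k)} {J : Ideal (MvPolynomial ι k)} :
    ideal V ≤ J ↔ ∀ c ∈ V, lin c ∈ J := by
  rw [ideal, Ideal.span_le]
  constructor
  · intro h c hc
    exact h ⟨c, hc, rfl⟩
  · rintro h _ ⟨c, hc, rfl⟩
    exact h c hc

theorem ideal_mono {V V' : Submodule k (ι → k)} (h : V ≤ V') : ideal V ≤ ideal V' :=
  ideal_le_iff.2 fun _ hc => lin_mem (h hc)

theorem ideal_sup (V V' : Submodule k (ι → k)) : ideal (V ⊔ V') = ideal V ⊔ ideal V' := by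
  apply le_antisymm
  · rw [ideal_le_iff]
    intro c hc
    obtain ⟨a, ha, b, hb, rfl⟩ := Submodule.mem_sup.1 hc
    rw [map_add]
    exact add_mem (Ideal.mem_sup_left (lin_mem ha)) (Ideal.mem_sup_right (lin_mem hb))
  · exact sup_le (ideal_mono le_sup_left) (ideal_mono le_sup_right)

theorem ideal_bot : ideal (⊥ : Submodule k (ι → k)) = ⊥ := by
  rw [eq_bot_iff, ideal_le_iff]
  intro c hc
  rw [Submodule.mem_bot] at hc
  simp [hc]

theorem ideal_top : ideal (⊤ : Submodule k (ι → k)) = idealOfVars ι k := by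
  classical
  apply le_antisymm
  · rw [ideal_le_iff]
    intro c _
    rw [lin_apply]
    refine sum_mem fun i _ => ?_
    rw [smul_eq_C_mul]
    exact Ideal.mul_mem_left _ _ (Ideal.subset_span ⟨i, rfl⟩)
  · rw [idealOfVars, Ideal.span_le]
    rintro _ ⟨i, rfl⟩
    rw [← lin_single]
    exact lin_mem trivial

attribute [local instance] MvPolynomial.gradedAlgebra

theorem ideal_isHomogeneous (V : Submodule k (ι → k)) :
    (ideal V).IsHomogeneous (homogeneousSubmodule ι k) := by
  apply Ideal.homogeneous_span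
  rintro _ ⟨c, _, rfl⟩
  exact ⟨1, lin_isHomogeneous c⟩

theorem pow_isHomogeneous {J : Ideal (MvPolynomial ι k)}
    (hJ : J.IsHomogeneous (homogeneousSubmodule ι k)) (n : ℕ) :
    (J ^ n).IsHomogeneous (homogeneousSubmodule ι k) := by
  induction n with
  | zero => rw [pow_zero, Ideal.one_eq_top]; exact Ideal.IsHomogeneous.top _
  | succ n ih => rw [pow_succ]; exact ih.mul hJ

theorem prod_isHomogeneous {α : Type*} (s : Finset α) (J : α → Ideal (MvPolynomial ι k))
    (hJ : ∀ i ∈ s, (J i).IsHomogeneous (homogeneousSubmodule ι k)) :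
    (∏ i ∈ s, J i).IsHomogeneous (homogeneousSubmodule ι k) := by
  classical
  induction s using Finset.induction_on with
  | empty => rw [Finset.prod_empty, Ideal.one_eq_top]; exact Ideal.IsHomogeneous.top _
  | insert a s ha ih =>
    rw [Finset.prod_insert ha]
    exact (hJ a (Finset.mem_insert_self _ _)).mul (ih fun i hi => hJ i (Finset.mem_insert_of_mem hi))

/-- Algebra maps out of the polynomial ring on linear forms. -/
theorem algHom_lin {B : Type*} [CommRing B] [Algebra k B] (F : MvPolynomial ι k →ₐ[k] B)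
    (G : (ι → k) →ₗ[k] B) [DecidableEq ι] (h : ∀ i, F (X i) = G (Pi.single i 1)) (c : ι → k) :
    F (lin c) = G c := by
  rw [lin_apply, map_sum]
  conv_rhs => rw [← Finset.univ_sum_single c]
  rw [map_sum]
  refine Finset.sum_congr rfl fun i _ => ?_
  rw [map_smul, h, ← map_smul]
  congr 1
  ext j
  simp [Pi.single_apply]

theorem algHom_ext_lin {B : Type*} [CommRing B] [Algebra k B] {F G : MvPolynomial ι k →ₐ[k] B}
    (h : ∀ c, F (lin c) = G (lin c)) : F = G := by
  classical
  apply MvPolynomial.algHom_ext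
  intro i
  rw [← lin_single]
  exact h _

/-- If the linear form `x` is not in `V + U` it is a nonzerodivisor modulo `I_V ^ s + I_U`. -/
theorem mem_of_lin_mul_mem {V U : Submodule k (ι → k)} {x : ι → k} (hx : x ∉ V ⊔ U) (s : ℕ)
    (g : MvPolynomial ι k) (h : lin x * g ∈ ideal V ^ s ⊔ ideal U) :
    g ∈ ideal V ^ s ⊔ ideal U := by
  classical
  obtain ⟨l₀, hl₀, hl₀'⟩ := Submodule.exists_le_ker_of_notMem hx
  set l : (ι → k) →ₗ[k] k := (l₀ x)⁻¹ • l₀ with hl
  have hlx : l x = 1 := by simp [hl, hl₀]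
  have hlV : ∀ c ∈ V ⊔ U, l c = 0 := by
    intro c hc
    have : l₀ c = 0 := hl₀' hc
    simp [hl, this]
  -- the map `ρ`
  let G : (ι → k) →ₗ[k] Polynomial (MvPolynomial ι k) :=
    ((Polynomial.CAlgHom : MvPolynomial ι k →ₐ[k] Polynomial (MvPolynomial ι k)).toLinearMap ∘ₗ
      lin ∘ₗ (LinearMap.id - l.smulRight x)) + l.smulRight Polynomial.X
  have hG : ∀ c, G c = Polynomial.C (lin (c - l c • x)) + l c • Polynomial.X := fun c => rfl
  let ρ : MvPolynomial ι k →ₐ[k] Polynomial (MvPolynomial ι k) :=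
    MvPolynomial.aeval (fun i => G (Pi.single i 1))
  have hρ : ∀ c, ρ (lin c) = G c := algHom_lin ρ G (fun i => by simp [ρ])
  let ev : Polynomial (MvPolynomial ι k) →ₐ[k] MvPolynomial ι k :=
    (Polynomial.aeval (lin x) : Polynomial (MvPolynomial ι k) →ₐ[MvPolynomial ι k]
      MvPolynomial ι k).restrictScalars k
  have hevC : ∀ p, ev (Polynomial.C p) = p := fun p => by simp [ev]
  have hevX : ev Polynomial.X = lin x := by simp [ev]
  have hevρ : ∀ p, ev (ρ p) = p := by
    intro p
    have : ev.comp ρ = AlgHom.id k _ := by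
      apply algHom_ext_lin
      intro c
      rw [AlgHom.comp_apply, hρ, hG, map_add, hevC, map_smul, hevX, map_sub, map_smul,
        AlgHom.id_apply, sub_add_cancel]
    exact DFunLike.congr_fun this p
  set J := ideal V ^ s ⊔ ideal U with hJ
  have hle : ∀ W : Submodule k (ι → k), W ≤ V ⊔ U →
      (ideal W).map ρ.toRingHom ≤ (ideal W).map (Polynomial.C : MvPolynomial ι k →+* _) := by
    intro W hW
    rw [ideal, Ideal.map_span, Ideal.span_le]
    rintro _ ⟨_, ⟨c, hc, rfl⟩, rfl⟩
    change ρ (lin c) ∈ _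
    rw [hρ, hG, hlV c (hW hc)]
    simp only [zero_smul, sub_zero, add_zero]
    exact Ideal.mem_map_of_mem _ (lin_mem hc)
  have hmap : J.map ρ.toRingHom ≤ J.map (Polynomial.C : MvPolynomial ι k →+* _) := by
    rw [hJ, Ideal.map_sup, Ideal.map_sup, Ideal.map_pow, Ideal.map_pow]
    exact sup_le_sup (Ideal.pow_right_mono (hle V le_sup_left) s) (hle U le_sup_right)
  have h1 : ρ (lin x * g) ∈ J.map (Polynomial.C : MvPolynomial ι k →+* _) :=
    hmap (Ideal.mem_map_of_mem ρ.toRingHom h)
  rw [map_mul, hρ, hG, hlx, one_smul, sub_self, map_zero, map_zero, zero_add, one_smul,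
    Ideal.mem_map_C_iff] at h1
  have h2 : ρ g ∈ J.map (Polynomial.C : MvPolynomial ι k →+* _) := by
    rw [Ideal.mem_map_C_iff]
    intro n
    have := h1 (n + 1)
    rwa [Polynomial.coeff_X_mul] at this
  have h3 : ev (ρ g) ∈ (J.map (Polynomial.C : MvPolynomial ι k →+* _)).map ev.toRingHom :=
    Ideal.mem_map_of_mem ev.toRingHom h2
  rw [hevρ, Ideal.map_map] at h3
  have h4 : ev.toRingHom.comp (Polynomial.C : MvPolynomial ι k →+* _) = RingHom.id _ := by
    exact RingHom.ext hevC
  rwa [h4, Ideal.map_id] at h3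

end K984.LinIdeal
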