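import Mathlib.RingTheory.PiTensorProduct
import Mathlib.RingTheory.TensorProduct.Maps
import Mathlib.RingTheory.RingHom.Flat
import Mathlib.RingTheory.Localization.Basic
import Mathlib.Algebra.MvPolynomial.Rename

/-!
# The tensor product of a finite family of commutative algebras as a coproduct
-/

set_option autoImplicit false

namespace K984.PiAlg

open TensorProduct

universe u v w

section lift

variable {k : Type*} [CommRing k] {ι : Type*} [Fintype ι] [DecidableEq ι]
  {A : ι → Type*} [∀ i, CommRing (A i)] [∀ i, Algebra k (A i)]
  {B : Type*} [CommRing B] [Algebra k B]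

variable (k A) in
/-- The inclusion of a factor. -/
noncomputable def single (i : ι) : A i →ₐ[k] (⨂[k] i, A i) :=
  PiTensorProduct.singleAlgHom (R := k) (A := A) i

theorem single_eq (i : ι) : single k A i = PiTensorProduct.singleAlgHom (R := k) (A := A) i := rfl

theorem single_apply (i : ι) (a : A i) :
    single k A i a = PiTensorProduct.tprod k (MonoidHom.mulSingle A i a) := rfl

theorem tprod_eq_prod_single (x : ∀ i, A i) :
    PiTensorProduct.tprod k x = ∏ i, single k A i (x i) := by
  simp only [single_apply]
  have := map_prod (PiTensorProduct.tprodMonoidHom k (A := A))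
    (fun i => (MonoidHom.mulSingle A i) (x i)) Finset.univ
  simp only [PiTensorProduct.tprodMonoidHom_apply] at this
  rw [← this]
  congr 1
  ext i
  rw [Finset.prod_apply]
  rw [Finset.prod_eq_single i]
  · simp
  · intro j _ hj
    simp [Pi.mulSingle_apply, hj.symm]
  · simp

/-- The universal property. -/
noncomputable def lift (φ : ∀ i, A i →ₐ[k] B) : (⨂[k] i, A i) →ₐ[k] B :=
  PiTensorProduct.liftAlgHom
    ((MultilinearMap.mkPiAlgebra k ι B).compLinearMap fun i => (φ i).toLinearMap)
    (by simp) (by intro x y; simp [Finset.prod_mul_distrib])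

@[simp]
theorem lift_single (φ : ∀ i, A i →ₐ[k] B) (i : ι) (a : A i) :
    lift φ (single k A i a) = φ i a := by
  change PiTensorProduct.lift ((MultilinearMap.mkPiAlgebra k ι B).compLinearMap
    fun i => (φ i).toLinearMap) (PiTensorProduct.tprod k ((MonoidHom.mulSingle A i) a)) = _
  rw [PiTensorProduct.lift.tprod]
  simp only [MultilinearMap.compLinearMap_apply, MultilinearMap.mkPiAlgebra_apply,
    AlgHom.toLinearMap_apply]
  rw [Finset.prod_eq_single i]
  · simp
  · intro j _ hj
    simp [Pi.mulSingle_apply, hj]
  · simp

theorem hom_ext {C : Type*} [Semiring C] [Algebra k C] {F G : (⨂[k] i, A i) →ₐ[k] C}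
    (h : ∀ i a, F (single k A i a) = G (single k A i a)) : F = G :=
  PiTensorProduct.algHom_ext fun i => AlgHom.ext fun a => h i a

variable {A' : ι → Type*} [∀ i, CommRing (A' i)] [∀ i, Algebra k (A' i)]

/-- Functoriality. -/
noncomputable def map (φ : ∀ i, A i →ₐ[k] A' i) : (⨂[k] i, A i) →ₐ[k] (⨂[k] i, A' i) :=
  lift fun i => (single k A' i).comp (φ i)

@[simp]
theorem map_single (φ : ∀ i, A i →ₐ[k] A' i) (i : ι) (a : A i) :
    map φ (single k A i a) = single k A' i (φ i a) := lift_single _ i a

/-- The tensor product of localizations is a localization of the tensor product. -/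
theorem isLocalization (M : ∀ i, Submonoid (A i)) (L : ι → Type*) [∀ i, CommRing (L i)]
    [∀ i, Algebra k (L i)] [∀ i, Algebra (A i) (L i)] [∀ i, IsScalarTower k (A i) (L i)]
    [∀ i, IsLocalization (M i) (L i)] :
    letI := (map (k := k) (fun i => IsScalarTower.toAlgHom k (A i) (L i))).toRingHom.toAlgebra
    IsLocalization (⨆ i, (M i).map (single k A i)) (⨂[k] i, L i) := by
  set N : Submonoid (⨂[k] i, A i) := ⨆ i, (M i).map (single k A i) with hN
  letI : Algebra (⨂[k] i, A i) (⨂[k] i, L i) :=
    (map (k := k) (fun i => IsScalarTower.toAlgHom k (A i) (L i))).toRingHom.toAlgebra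
  have halg : ∀ x, algebraMap (⨂[k] i, A i) (⨂[k] i, L i) x =
    map (k := k) (fun i => IsScalarTower.toAlgHom k (A i) (L i)) x := fun x => rfl
  haveI : IsScalarTower k (⨂[k] i, A i) (⨂[k] i, L i) :=
    IsScalarTower.of_algebraMap_eq fun r => by
      rw [halg, AlgHom.commutes]
  have hunit : ∀ x : N, IsUnit (algebraMap (⨂[k] i, A i) (⨂[k] i, L i) x) := by
    have : N ≤ (IsUnit.submonoid (⨂[k] i, L i)).comap
        (algebraMap (⨂[k] i, A i) (⨂[k] i, L i)) := by
      refine iSup_le fun i => ?_
      rintro _ ⟨a, ha, rfl⟩
      change IsUnit (algebraMap (⨂[k] i, A i) (⨂[k] i, L i) (single k A i a))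
      rw [halg, map_single]
      exact (IsLocalization.map_units (L i) (⟨a, ha⟩ : M i)).map (single k L i)
    exact fun x => this x.2
  have hunit' : ∀ i (x : M i), IsUnit (algebraMap (⨂[k] i, A i) (Localization N)
      (single k A i x)) := fun i x =>
    IsLocalization.map_units (Localization N)
      (⟨single k A i x, (le_iSup (fun i => (M i).map (single k A i)) i) ⟨x, x.2, rfl⟩⟩ : N)
  -- the map back
  let G : Localization N →ₐ[k] (⨂[k] i, L i) :=
    { (IsLocalization.lift (M := N) (g := algebraMap (⨂[k] i, A i) (⨂[k] i, L i)) hunit) with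
      commutes' := fun r => by
        change IsLocalization.lift hunit (algebraMap k (Localization N) r) = _
        rw [IsScalarTower.algebraMap_apply k (⨂[k] i, A i) (Localization N),
          IsLocalization.lift_eq, ← IsScalarTower.algebraMap_apply] }
  have hG : ∀ x, G (algebraMap _ _ x) = algebraMap (⨂[k] i, A i) (⨂[k] i, L i) x := fun x =>
    IsLocalization.lift_eq _ _
  let F₀ : ∀ i, L i →ₐ[k] Localization N := fun i =>
    { (IsLocalization.lift (M := M i)
        (g := (algebraMap (⨂[k] i, A i) (Localization N)).comp (single k A i).toRingHom)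
        (fun x => hunit' i x)) with
      commutes' := fun r => by
        change IsLocalization.lift _ (algebraMap k (L i) r) = _
        rw [IsScalarTower.algebraMap_apply k (A i) (L i), IsLocalization.lift_eq]
        change algebraMap (⨂[k] i, A i) (Localization N) (single k A i (algebraMap k (A i) r)) = _
        rw [AlgHom.commutes, ← IsScalarTower.algebraMap_apply] }
  have hF₀ : ∀ i a, F₀ i (algebraMap (A i) (L i) a) =
      algebraMap (⨂[k] i, A i) (Localization N) (single k A i a) := fun i a =>
    IsLocalization.lift_eq _ _
  let F : (⨂[k] i, L i) →ₐ[k] Localization N := lift F₀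
  have hF : ∀ x, F (algebraMap (⨂[k] i, A i) (⨂[k] i, L i) x) = algebraMap _ _ x := by
    intro x
    have : F.comp (IsScalarTower.toAlgHom k (⨂[k] i, A i) (⨂[k] i, L i)) =
        IsScalarTower.toAlgHom k (⨂[k] i, A i) (Localization N) := by
      apply hom_ext
      intro i a
      change F (algebraMap (⨂[k] i, A i) (⨂[k] i, L i) (single k A i a)) = _
      rw [halg, map_single]
      simp only [F, lift_single]
      exact hF₀ i a
    exact DFunLike.congr_fun this x
  have hGF : ∀ x, G (F x) = x := by
    intro x
    have : G.comp F = AlgHom.id k _ := by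
      apply PiTensorProduct.algHom_ext
      intro i
      have : ((G.comp F).comp (single k L i)).toRingHom = (single k L i).toRingHom := by
        apply IsLocalization.ringHom_ext (M i)
        ext a
        change G (F (single k L i (algebraMap (A i) (L i) a))) = single k L i (algebraMap _ _ a)
        simp only [F, lift_single]
        rw [hF₀, hG, halg, map_single]
        rfl
      apply AlgHom.ext
      intro a
      exact RingHom.congr_fun this a
    exact DFunLike.congr_fun this x
  have hFG : ∀ x, F (G x) = x := by
    intro x
    have : (F.toRingHom.comp G.toRingHom) = RingHom.id _ := by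
      apply IsLocalization.ringHom_ext N
      ext a
      change F (G (algebraMap _ _ a)) = algebraMap _ _ a
      rw [hG, hF]
    exact RingHom.congr_fun this x
  let e : Localization N ≃ₐ[⨂[k] i, A i] (⨂[k] i, L i) :=
    { toFun := G
      invFun := F
      left_inv := hFG
      right_inv := hGF
      map_mul' := map_mul G
      map_add' := map_add G
      commutes' := hG }
  exact IsLocalization.isLocalization_of_algEquiv N e

end lift

section cons

variable {k : Type*} [CommRing k] {n : ℕ} {A : Fin (n + 1) → Type*} [∀ i, CommRing (A i)]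
  [∀ i, Algebra k (A i)]

variable (k A) in
/-- Splitting off the first factor. -/
noncomputable def consHom : (⨂[k] i, A i) →ₐ[k] A 0 ⊗[k] (⨂[k] i : Fin n, A i.succ) :=
  lift (Fin.cases (Algebra.TensorProduct.includeLeft)
      (fun i => (Algebra.TensorProduct.includeRight).comp (single k (fun i : Fin n => A i.succ) i)))

theorem consHom_single_zero (a : A 0) : consHom k A (single k A 0 a) = a ⊗ₜ[k] 1 := by
  rw [consHom, lift_single]
  rfl

theorem consHom_single_succ (i : Fin n) (a : A i.succ) :
    consHom k A (single k A i.succ a) = 1 ⊗ₜ[k] (single k (fun i : Fin n => A i.succ) i a) := by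
  rw [consHom, lift_single]
  rfl

variable (k A) in
/-- Splitting off the first factor, the inverse. -/
noncomputable def consInv : A 0 ⊗[k] (⨂[k] i : Fin n, A i.succ) →ₐ[k] (⨂[k] i, A i) :=
  Algebra.TensorProduct.lift (single k A 0) (lift fun i => single k A i.succ)
    (fun _ _ => Commute.all _ _)

theorem consInv_left (a : A 0) : consInv k A (a ⊗ₜ[k] 1) = single k A 0 a := by
  simp [consInv]

theorem consInv_right (i : Fin n) (a : A i.succ) :
    consInv k A (1 ⊗ₜ[k] (single k (fun i : Fin n => A i.succ) i a)) = single k A i.succ a := by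
  simp [consInv]

theorem consHom_consInv (x : A 0 ⊗[k] (⨂[k] i : Fin n, A i.succ)) :
    consHom k A (consInv k A x) = x := by
  have : (consHom k A).comp (consInv k A) = AlgHom.id k _ := by
    apply Algebra.TensorProduct.ext
    · apply AlgHom.ext
      intro a
      simp [consInv_left, consHom_single_zero]
    · apply hom_ext
      intro i a
      simp [consInv_right, consHom_single_succ]
  exact DFunLike.congr_fun this x

theorem consInv_consHom (x : ⨂[k] i, A i) : consInv k A (consHom k A x) = x := by
  have : (consInv k A).comp (consHom k A) = AlgHom.id k _ := by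
    apply hom_ext
    intro i
    refine Fin.cases ?_ (fun i => ?_) i
    · intro a
      simp [consInv_left, consHom_single_zero]
    · intro a
      simp [consInv_right, consHom_single_succ]
  exact DFunLike.congr_fun this x

theorem consHom_bijective : Function.Bijective (consHom k A) :=
  ⟨Function.LeftInverse.injective consInv_consHom, Function.RightInverse.surjective consHom_consInv⟩

theorem consInv_bijective : Function.Bijective (consInv k A) :=
  ⟨Function.LeftInverse.injective consHom_consInv, Function.RightInverse.surjective consInv_consHom⟩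

end cons

section flat

variable {k : Type*} [CommRing k]

theorem bijective_algebraMap_empty {A : Fin 0 → Type*} [∀ i, CommRing (A i)]
    [∀ i, Algebra k (A i)] : Function.Bijective (algebraMap k (⨂[k] i, A i)) := by
  let G : (⨂[k] i, A i) →ₐ[k] k := lift (fun i => i.elim0)
  have h1 : ∀ x, G (algebraMap _ _ x) = x := fun x => by rw [AlgHom.commutes]; rfl
  have h2 : ∀ x, algebraMap k (⨂[k] i, A i) (G x) = x := by
    intro x
    have : (Algebra.ofId k (⨂[k] i, A i)).comp G = AlgHom.id k _ := by
      apply hom_ext
      intro i
      exact i.elim0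
    exact DFunLike.congr_fun this x
  exact ⟨fun x y h => by rw [← h1 x, ← h1 y, h], fun x => ⟨G x, h2 x⟩⟩

/-- The tensor product of flat maps is flat. -/
theorem flat_map : ∀ {n : ℕ} {A : Fin n → Type u} {B : Fin n → Type v} [∀ i, CommRing (A i)]
    [∀ i, Algebra k (A i)] [∀ i, CommRing (B i)] [∀ i, Algebra k (B i)]
    (φ : ∀ i, A i →ₐ[k] B i) (_ : ∀ i, (φ i).toRingHom.Flat), (map φ).toRingHom.Flat := by
  intro n
  induction n with
  | zero =>
    intro A B _ _ _ _ φ hφ
    apply RingHom.Flat.of_bijective
    have h1 := bijective_algebraMap_empty (k := k) (A := A)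
    have h2 := bijective_algebraMap_empty (k := k) (A := B)
    have h3 : (map φ).toRingHom.comp (algebraMap k (⨂[k] i, A i)) = algebraMap k (⨂[k] i, B i) :=
      RingHom.ext fun x => (map φ).commutes x
    have h4 : Function.Bijective ((map φ).toRingHom.comp (algebraMap k (⨂[k] i, A i))) := by
      rw [h3]; exact h2
    rw [RingHom.coe_comp] at h4
    exact (Function.Bijective.of_comp_iff _ h1).1 h4
  | succ n ih =>
    intro A B _ _ _ _ φ hφ
    have h1 := ih (fun i : Fin n => φ i.succ) (fun i => hφ i.succ)
    have h2 : (Algebra.TensorProduct.map (φ 0) (map fun i : Fin n => φ i.succ)).toRingHom.Flat :=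
      RingHom.Flat.tensorProductMap (hφ 0) h1
    have h3 : map φ = (consInv k B).comp
        ((Algebra.TensorProduct.map (φ 0) (map fun i : Fin n => φ i.succ)).comp (consHom k A)) := by
      apply hom_ext
      intro i
      refine Fin.cases ?_ (fun i => ?_) i
      · intro a
        rw [AlgHom.comp_apply, AlgHom.comp_apply, consHom_single_zero,
          Algebra.TensorProduct.map_tmul, map_one, consInv_left, map_single]
      · intro a
        rw [AlgHom.comp_apply, AlgHom.comp_apply, consHom_single_succ,
          Algebra.TensorProduct.map_tmul, map_one, map_single φ,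
          map_single (fun i : Fin n => φ i.succ), consInv_right]
    rw [h3]
    exact ((RingHom.Flat.of_bijective consHom_bijective).comp h2).comp
      (RingHom.Flat.of_bijective consInv_bijective)

end flat

section poly

variable {k : Type*} [CommRing k] {n : ℕ} {σ : Type*}

variable (k n σ) in
/-- The polynomial ring on `Fin n × σ` as a tensor product. -/
noncomputable def polyMap : MvPolynomial (Fin n × σ) k →ₐ[k] (⨂[k] _ : Fin n, MvPolynomial σ k) :=
  MvPolynomial.aeval fun p => single k (fun _ : Fin n => MvPolynomial σ k) p.1 (MvPolynomial.X p.2)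

theorem polyMap_X (i : Fin n) (l : σ) : polyMap k n σ (MvPolynomial.X (i, l)) =
    single k (fun _ : Fin n => MvPolynomial σ k) i (MvPolynomial.X l) := by
  simp [polyMap]

theorem polyMap_bijective : Function.Bijective (polyMap k n σ) := by
  let G : (⨂[k] _ : Fin n, MvPolynomial σ k) →ₐ[k] MvPolynomial (Fin n × σ) k :=
    lift fun i => MvPolynomial.rename fun l => (i, l)
  have h1 : ∀ x, G (polyMap k n σ x) = x := by
    intro x
    have : G.comp (polyMap k n σ) = AlgHom.id k _ := by
      apply MvPolynomial.algHom_ext
      rintro ⟨i, l⟩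
      simp [G, polyMap_X]
    exact DFunLike.congr_fun this x
  have h2 : ∀ x, polyMap k n σ (G x) = x := by
    intro x
    have : (polyMap k n σ).comp G = AlgHom.id k _ := by
      apply PiTensorProduct.algHom_ext
      intro i
      apply MvPolynomial.algHom_ext
      intro l
      change polyMap k n σ (G (single k _ i (MvPolynomial.X l))) = single k _ i (MvPolynomial.X l)
      simp only [G, lift_single, MvPolynomial.rename_X, polyMap_X]
    exact DFunLike.congr_fun this x
  exact ⟨fun x y h => by rw [← h1 x, ← h1 y, h], fun x => ⟨G x, h2 x⟩⟩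

end poly

end K984.PiAlg
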