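import Groth.Agent.DiagIdeal.K984.ConcaHerzog
import Groth.Agent.DiagIdeal.K984.Indep

/-!
# Diagonal ideals in a polynomial ring

`n` points of affine `d`-space, `n ≤ 4`: the intersection of the squares of the ideals of the
diagonals lies in the product of the ideals.
-/

set_option autoImplicit false

namespace K984.PolyDiag

open MvPolynomial LinIdeal

variable (k : Type*) [Field k] {n d : ℕ}

/-- The vector `a` placed in the `i`-th factor. -/
noncomputable def emb (i : Fin n) : (Fin d → k) →ₗ[k] (Fin n × Fin d → k) where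
  toFun a p := if p.1 = i then a p.2 else 0
  map_add' a b := by
    ext p
    simp only [Pi.add_apply]
    split_ifs <;> simp
  map_smul' r a := by
    ext p
    simp only [Pi.smul_apply, RingHom.id_apply, smul_eq_mul]
    split_ifs <;> simp

/-- The linear forms vanishing on the diagonal of the factors `i` and `j`. -/
noncomputable def V (i j : Fin n) : Submodule k (Fin n × Fin d → k) :=
  LinearMap.range (emb k i - emb k j : (Fin d → k) →ₗ[k] (Fin n × Fin d → k))

variable {k}

theorem emb_apply (i : Fin n) (a : Fin d → k) (p : Fin n × Fin d) :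
    emb k i a p = if p.1 = i then a p.2 else 0 := rfl

theorem mem_V {i j : Fin n} (a : Fin d → k) : emb k i a - emb k j a ∈ V k i j := ⟨a, rfl⟩

theorem V_self (i : Fin n) : V k i i = (⊥ : Submodule k (Fin n × Fin d → k)) := by
  rw [V, sub_self, LinearMap.range_zero]

theorem V_symm (i j : Fin n) : (V k i j : Submodule k (Fin n × Fin d → k)) = V k j i := by
  rw [V, V, ← neg_sub, LinearMap.range_neg]

theorem V_le_trans {i j l : Fin n} {W : Submodule k (Fin n × Fin d → k)} (h : V k i j ≤ W)
    (h' : V k j l ≤ W) : V k i l ≤ W := by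
  rintro _ ⟨a, rfl⟩
  have h1 := h (mem_V (i := i) (j := j) a)
  have h2 := h' (mem_V (i := j) (j := l) a)
  have := add_mem h1 h2
  simpa using this

theorem supIndep (f : Fin n → Fin n) (hf : ∀ j, f (f j) = f j) :
    (Finset.univ.filter fun j : Fin n => f j ≠ j).SupIndep
      (fun j => (V k (f j) j : Submodule k (Fin n × Fin d → k))) := by
  classical
  intro t ht i hi hit
  rw [Finset.mem_filter] at hi
  -- the `i`-th component of the elements of the sup is zero
  have hcomp : t.sup (fun j => (V k (f j) j : Submodule k (Fin n × Fin d → k))) ≤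
      ({ carrier := {w | ∀ l, w (i, l) = 0}
         add_mem' := fun ha hb l => by simp [ha l, hb l]
         zero_mem' := fun l => rfl
         smul_mem' := fun r a ha l => by simp [ha l] } : Submodule k (Fin n × Fin d → k)) := by
    refine Finset.sup_le fun j hj => ?_
    rintro _ ⟨a, rfl⟩ l
    have hji : i ≠ j := fun h => hit (h ▸ hj)
    have hfji : i ≠ f j := by
      intro h
      apply hi.2
      rw [h, hf]
    simp [emb_apply, hji, hfji]
  rw [Submodule.disjoint_def]
  rintro _ ⟨a, rfl⟩ ha2
  have h0 : ∀ l, (emb k (f i) - emb k i : (Fin d → k) →ₗ[k] (Fin n × Fin d → k)) a (i, l) = 0 :=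
    hcomp ha2
  have ha : a = 0 := by
    ext l
    have := h0 l
    simp only [LinearMap.sub_apply, Pi.sub_apply, emb_apply, if_neg hi.2.symm, if_true,
      zero_sub, neg_eq_zero] at this
    simpa using this
  rw [ha, map_zero]

/-- The pairs `i < j` with `c i = c j`. -/
def pairs {κ : Type*} [DecidableEq κ] (c : Fin n → κ) : Finset (Fin n × Fin n) :=
  Finset.univ.filter fun p => p.1 < p.2 ∧ c p.1 = c p.2

theorem mem_pairs {κ : Type*} [DecidableEq κ] {c : Fin n → κ} {p : Fin n × Fin n} :
    p ∈ pairs c ↔ p.1 < p.2 ∧ c p.1 = c p.2 := by simp [pairs]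

/-- The combinatorial condition: the number of pairs in a block is at most twice its rank. -/
def Small (n : ℕ) : Prop := ∀ f : Fin n → Fin n, (∀ j, f (f j) = f j) →
  (pairs f).card ≤ 2 * (Finset.univ.filter fun j : Fin n => f j ≠ j).card

instance : Decidable (Small n) := by unfold Small; infer_instance

theorem small_three : Small 3 := by decide

theorem small_four : Small 4 := by decide +kernel

/-- On a product of `n ≤ 4` copies of affine space the intersection of the squares of the diagonal
ideals lies in their product. -/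
theorem mem_prod_of_mem_sq [Infinite k] (hn : Small n) {κ : Type*} [DecidableEq κ]
    (c : Fin n → κ) (g : MvPolynomial (Fin n × Fin d) k)
    (hg : ∀ p ∈ pairs c, g ∈ ideal (V k p.1 p.2) ^ 2) :
    g ∈ ∏ p ∈ pairs c, ideal (V k p.1 p.2) := by
  classical
  apply ConcaHerzog.mem_prod
  intro A hA
  set W := A.sup (fun p : Fin n × Fin n => (V k p.1 p.2 : Submodule k (Fin n × Fin d → k))) with hW
  let R : Fin n → Fin n → Prop := fun i j =>
    c i = c j ∧ (V k i j : Submodule k (Fin n × Fin d → k)) ≤ W
  have hRrefl : ∀ i, R i i := fun i => ⟨rfl, by rw [V_self]; exact bot_le⟩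
  have hRsymm : ∀ i j, R i j → R j i := fun i j h => ⟨h.1.symm, by rw [V_symm]; exact h.2⟩
  have hRtrans : ∀ i j l, R i j → R j l → R i l := fun i j l h h' =>
    ⟨h.1.trans h'.1, V_le_trans h.2 h'.2⟩
  have hne : ∀ j, (Finset.univ.filter fun i => R i j).Nonempty := fun j =>
    ⟨j, by simpa using hRrefl j⟩
  let f : Fin n → Fin n := fun j => (Finset.univ.filter fun i => R i j).min' (hne j)
  have hfR : ∀ j, R (f j) j := fun j => by
    have := Finset.min'_mem _ (hne j)
    exact (Finset.mem_filter.1 this).2
  have hfeq : ∀ i j, R i j → f i = f j := by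
    intro i j h
    have : (Finset.univ.filter fun l => R l i) = (Finset.univ.filter fun l => R l j) := by
      ext l
      simp only [Finset.mem_filter, Finset.mem_univ, true_and]
      exact ⟨fun h' => hRtrans _ _ _ h' h, fun h' => hRtrans _ _ _ h' (hRsymm _ _ h)⟩
    simp only [f, this]
  have hff : ∀ j, f (f j) = f j := fun j => hfeq _ _ (hfR j)
  have hfle : ∀ j, f j ≤ j := fun j =>
    Finset.min'_le (Finset.univ.filter fun i => R i j) j
      (Finset.mem_filter.2 ⟨Finset.mem_univ _, hRrefl j⟩)
  set F := Finset.univ.filter fun j : Fin n => f j ≠ j with hF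
  have hcard : A.card ≤ 2 * F.card := by
    refine le_trans (Finset.card_le_card ?_) (hn f hff)
    intro p hp
    rw [mem_pairs]
    have h1 := mem_pairs.1 (hA hp)
    refine ⟨h1.1, hfeq _ _ ⟨h1.2, ?_⟩⟩
    exact Finset.le_sup (f := fun p : Fin n × Fin n =>
      (V k p.1 p.2 : Submodule k (Fin n × Fin d → k))) hp
  have hFW : F.sup (fun j => (V k (f j) j : Submodule k (Fin n × Fin d → k))) ≤ W :=
    Finset.sup_le fun j _ => (hfR j).2
  have h1 := Indep.mem_pow_sup_of_supIndep F
    (fun j => (V k (f j) j : Submodule k (Fin n × Fin d → k))) (supIndep f hff) 2 g (by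
      intro j hj
      apply hg (f j, j)
      rw [mem_pairs]
      exact ⟨lt_of_le_of_ne (hfle j) (Finset.mem_filter.1 hj).2, (hfR j).1⟩)
  exact Ideal.pow_le_pow_right hcard (Ideal.pow_right_mono (ideal_mono hFW) _ h1)

end K984.PolyDiag
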