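import Groth.Agent.DiagIdeal.K984.Chart
import Groth.Agent.DiagIdeal.K984.PiAlg
import Groth.Agent.DiagIdeal.K984.PolyDiag
import Mathlib.RingTheory.Localization.LocalizationLocalization
import Mathlib.RingTheory.Flat.Localization

/-!
# Local structure of a tensor power of a smooth domain along the diagonals

At every prime of a tensor power of a smooth domain there is a flat map from a polynomial ring
such that the diagonal ideals contained in the prime are extended from the corresponding linear
ideals.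
-/

set_option autoImplicit false

namespace K984.Loc

open TensorProduct Chart

variable (k A : Type*) [Field k] [CommRing A] [Algebra k A] [Algebra.Smooth k A] [IsDomain A]

/-- The denominator of a chosen chart at `p`. -/
noncomputable def cF (p : PrimeSpectrum A) : A := (exists_chart k A p.asIdeal).choose

theorem cF_notMem (p : PrimeSpectrum A) : cF k A p ∉ p.asIdeal :=
  (exists_chart k A p.asIdeal).choose_spec.1

/-- The coordinates of a chosen chart at `p`. -/
noncomputable def cφ (p : PrimeSpectrum A) :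
    MvPolynomial (Fin (dim k A)) k →ₐ[k] Localization.Away (cF k A p) :=
  (exists_chart k A p.asIdeal).choose_spec.2.choose

theorem cφ_etale (p : PrimeSpectrum A) : (cφ k A p).toRingHom.Etale :=
  (exists_chart k A p.asIdeal).choose_spec.2.choose_spec

section diag

/-- The ideal of the diagonal of the factors `i` and `j`. -/
noncomputable def diag {n : ℕ} (i j : Fin n) : Ideal (⨂[k] _ : Fin n, A) :=
  Ideal.span (Set.range fun a : A =>
    PiTensorProduct.singleAlgHom (R := k) (A := fun _ : Fin n => A) i a -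
    PiTensorProduct.singleAlgHom (R := k) (A := fun _ : Fin n => A) j a)

end diag

variable {k A} {n : ℕ} (𝔪 : Ideal (⨂[k] _ : Fin n, A)) [h𝔪 : 𝔪.IsPrime]

local notation "sg" => PiAlg.single k (fun _ : Fin n => A)

omit [Algebra.Smooth k A] [IsDomain A] in
theorem sub_mem_diag (i j : Fin n) (a : A) : sg i a - sg j a ∈ diag k A i j :=
  Ideal.subset_span ⟨a, rfl⟩

/-- The image of the prime `𝔪` in the `i`-th factor. -/
noncomputable def pt (i : Fin n) : PrimeSpectrum A := ⟨𝔪.comap (sg i), inferInstance⟩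

omit [Algebra.Smooth k A] [IsDomain A] in
theorem pt_eq {i j : Fin n} (h : diag k A i j ≤ 𝔪) : pt 𝔪 i = pt 𝔪 j := by
  ext a
  change sg i a ∈ 𝔪 ↔ sg j a ∈ 𝔪
  have h1 : sg i a - sg j a ∈ 𝔪 := h (sub_mem_diag i j a)
  constructor
  · intro h2
    have := sub_mem h2 h1
    rwa [sub_sub_cancel] at this
  · intro h2
    have := add_mem h1 h2
    rwa [sub_add_cancel] at this

theorem isUnit_single {p : PrimeSpectrum A} {i : Fin n} (h : cF k A p ∉ (pt 𝔪 i).asIdeal) :
    IsUnit (((algebraMap (⨂[k] _ : Fin n, A) (Localization.AtPrime 𝔪)).comp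
      (sg i).toRingHom) (cF k A p)) :=
  IsLocalization.map_units (Localization.AtPrime 𝔪)
    (⟨sg i (cF k A p), h⟩ : 𝔪.primeCompl)

/-- The extension of `A → R → R_𝔪` (`i`-th factor) to the chart at `p`. -/
noncomputable def α (i : Fin n) (p : PrimeSpectrum A) (h : cF k A p ∉ (pt 𝔪 i).asIdeal) :
    Localization.Away (cF k A p) →ₐ[k] Localization.AtPrime 𝔪 :=
  { (IsLocalization.Away.lift (cF k A p) (isUnit_single 𝔪 h)) with
    commutes' := fun r => by
      change IsLocalization.Away.lift (cF k A p) (isUnit_single 𝔪 h) (algebraMap k _ r) = _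
      rw [IsScalarTower.algebraMap_apply k A (Localization.Away (cF k A p)),
        IsLocalization.Away.lift_eq]
      change algebraMap (⨂[k] _ : Fin n, A) (Localization.AtPrime 𝔪) (sg i (algebraMap k A r)) = _
      rw [AlgHom.commutes, ← IsScalarTower.algebraMap_apply] }

theorem α_algebraMap (i : Fin n) (p : PrimeSpectrum A) (h : cF k A p ∉ (pt 𝔪 i).asIdeal) (a : A) :
    α 𝔪 i p h (algebraMap A _ a) = algebraMap _ _ (sg i a) := by
  change IsLocalization.Away.lift (cF k A p) (isUnit_single 𝔪 h) (algebraMap A _ a) = _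
  rw [IsLocalization.Away.lift_eq]
  rfl

/-- The map from the polynomial ring to the local ring. -/
noncomputable def chart : MvPolynomial (Fin n × Fin (dim k A)) k →ₐ[k] Localization.AtPrime 𝔪 :=
  (PiAlg.lift fun i => (α 𝔪 i (pt 𝔪 i) (cF_notMem k A _)).comp (cφ k A (pt 𝔪 i))).comp
    (PiAlg.polyMap k n (Fin (dim k A)))

theorem chart_X (i : Fin n) (l : Fin (dim k A)) :
    chart 𝔪 (MvPolynomial.X (i, l)) =
      α 𝔪 i (pt 𝔪 i) (cF_notMem k A _) (cφ k A (pt 𝔪 i) (MvPolynomial.X l)) := by
  rw [chart, AlgHom.comp_apply, PiAlg.polyMap_X, PiAlg.lift_single, AlgHom.comp_apply]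

theorem chart_X' (i : Fin n) (l : Fin (dim k A)) (p : PrimeSpectrum A) (hp : pt 𝔪 i = p)
    (h : cF k A p ∉ (pt 𝔪 i).asIdeal) :
    chart 𝔪 (MvPolynomial.X (i, l)) = α 𝔪 i p h (cφ k A p (MvPolynomial.X l)) := by
  subst hp
  exact chart_X 𝔪 i l

theorem chart_flat : (chart 𝔪).toRingHom.Flat := by
  let L : Fin n → Type _ := fun i => Localization.Away (cF k A (pt 𝔪 i))
  letI : ∀ i, CommRing (L i) := fun i => inferInstanceAs (CommRing (Localization.Away _))
  letI : ∀ i, Algebra k (L i) := fun i => inferInstanceAs (Algebra k (Localization.Away _))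
  letI : ∀ i, Algebra A (L i) := fun i => inferInstanceAs (Algebra A (Localization.Away _))
  haveI : ∀ i, IsScalarTower k A (L i) := fun i =>
    inferInstanceAs (IsScalarTower k A (Localization.Away _))
  haveI : ∀ i, IsLocalization (Submonoid.powers (cF k A (pt 𝔪 i))) (L i) := fun i =>
    inferInstanceAs (IsLocalization (Submonoid.powers (cF k A (pt 𝔪 i))) (Localization.Away _))
  let φ : ∀ i, MvPolynomial (Fin (dim k A)) k →ₐ[k] L i := fun i => cφ k A (pt 𝔪 i)
  have hφ : ∀ i, (φ i).toRingHom.Flat := fun i =>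
    (RingHom.Etale.iff_flat_and_formallyUnramified.1 (cφ_etale k A (pt 𝔪 i))).1
  let F : MvPolynomial (Fin n × Fin (dim k A)) k →ₐ[k] (⨂[k] i, L i) :=
    (PiAlg.map φ).comp (PiAlg.polyMap k n (Fin (dim k A)))
  have hF : F.toRingHom.Flat :=
    (RingHom.Flat.of_bijective PiAlg.polyMap_bijective).comp (PiAlg.flat_map φ hφ)
  let a : ∀ i, L i →ₐ[k] Localization.AtPrime 𝔪 := fun i =>
    α 𝔪 i (pt 𝔪 i) (cF_notMem k A _)
  have ha : ∀ i x, a i (algebraMap A (L i) x) = algebraMap _ _ (sg i x) := fun i x =>
    α_algebraMap 𝔪 i _ _ x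
  let G : (⨂[k] i, L i) →ₐ[k] Localization.AtPrime 𝔪 := PiAlg.lift a
  have hcomp : chart 𝔪 = G.comp F := by
    apply MvPolynomial.algHom_ext
    rintro ⟨i, l⟩
    rw [chart_X, AlgHom.comp_apply, AlgHom.comp_apply, PiAlg.polyMap_X, PiAlg.map_single]
    simp only [G, PiAlg.lift_single]
    rfl
  have hG : G.toRingHom.Flat := by
    set N : Submonoid (⨂[k] _ : Fin n, A) :=
      ⨆ i, (Submonoid.powers (cF k A (pt 𝔪 i))).map (PiAlg.single k (fun _ : Fin n => A) i) with hN
    letI algT : Algebra (⨂[k] _ : Fin n, A) (⨂[k] i, L i) :=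
      (PiAlg.map (k := k) (fun i => IsScalarTower.toAlgHom k A (L i))).toRingHom.toAlgebra
    haveI hlocT : IsLocalization N (⨂[k] i, L i) :=
      PiAlg.isLocalization (A := fun _ : Fin n => A)
        (fun i => Submonoid.powers (cF k A (pt 𝔪 i))) L
    letI algG : Algebra (⨂[k] i, L i) (Localization.AtPrime 𝔪) := G.toRingHom.toAlgebra
    haveI : IsScalarTower (⨂[k] _ : Fin n, A) (⨂[k] i, L i) (Localization.AtPrime 𝔪) := by
      apply IsScalarTower.of_algebraMap_eq
      intro x
      change algebraMap _ (Localization.AtPrime 𝔪) x =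
        G (PiAlg.map (k := k) (fun i => IsScalarTower.toAlgHom k A (L i)) x)
      have : G.comp (PiAlg.map (k := k) (fun i => IsScalarTower.toAlgHom k A (L i))) =
          IsScalarTower.toAlgHom k (⨂[k] _ : Fin n, A) (Localization.AtPrime 𝔪) := by
        apply PiAlg.hom_ext
        intro i x
        rw [AlgHom.comp_apply, PiAlg.map_single]
        simp only [G, PiAlg.lift_single]
        exact ha i x
      exact (DFunLike.congr_fun this x).symm
    have hle : N ≤ 𝔪.primeCompl := by
      refine iSup_le fun i => ?_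
      rw [Submonoid.map_le_iff_le_comap, Submonoid.powers_le]
      exact cF_notMem k A (pt 𝔪 i)
    haveI := IsLocalization.isLocalization_of_submonoid_le (⨂[k] i, L i) (Localization.AtPrime 𝔪)
      N 𝔪.primeCompl hle
    have hflat : Module.Flat (⨂[k] i, L i) (Localization.AtPrime 𝔪) :=
      IsLocalization.flat _ (𝔪.primeCompl.map (algebraMap (⨂[k] _ : Fin n, A) (⨂[k] i, L i)))
    exact hflat
  rw [hcomp]
  exact hF.comp hG

open LinIdeal PolyDiag in
theorem map_diag {i j : Fin n} (h : diag k A i j ≤ 𝔪) :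
    (diag k A i j).map (algebraMap _ (Localization.AtPrime 𝔪)) =
      (ideal (V k i j)).map (chart 𝔪).toRingHom := by
  set p := pt 𝔪 i with hp
  have hj : pt 𝔪 j = p := (pt_eq 𝔪 h).symm
  have hi' : cF k A p ∉ (pt 𝔪 i).asIdeal := cF_notMem k A p
  have hj' : cF k A p ∉ (pt 𝔪 j).asIdeal := by rw [hj]; exact cF_notMem k A p
  set a := α 𝔪 i p hi' with ha
  set b := α 𝔪 j p hj' with hb
  have hle : ∀ x, a x - b x ∈ (diag k A i j).map (algebraMap _ (Localization.AtPrime 𝔪)) := by
    intro x
    set D := (diag k A i j).map (algebraMap _ (Localization.AtPrime 𝔪)) with hD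
    have : (Ideal.Quotient.mk D).comp a.toRingHom = (Ideal.Quotient.mk D).comp b.toRingHom := by
      apply IsLocalization.ringHom_ext (Submonoid.powers (cF k A p))
      ext y
      change Ideal.Quotient.mk D (a (algebraMap A _ y)) = Ideal.Quotient.mk D (b (algebraMap A _ y))
      rw [ha, hb, α_algebraMap, α_algebraMap, Ideal.Quotient.mk_eq_mk_iff_sub_mem, ← map_sub]
      exact Ideal.mem_map_of_mem _ (sub_mem_diag i j y)
    rw [← Ideal.Quotient.mk_eq_mk_iff_sub_mem]
    exact RingHom.congr_fun this x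
  have h1 : (diag k A i j).map (algebraMap _ (Localization.AtPrime 𝔪)) =
      Ideal.span (Set.range fun x => a x - b x) := by
    apply le_antisymm
    · rw [diag, Ideal.map_span, Ideal.span_le]
      rintro _ ⟨_, ⟨y, rfl⟩, rfl⟩
      refine Ideal.subset_span ⟨algebraMap A _ y, ?_⟩
      simp only [ha, hb, α_algebraMap]
      rw [map_sub]
      rfl
    · rw [Ideal.span_le]
      rintro _ ⟨x, rfl⟩
      exact hle x
  have hmax : (diag k A i j).map (algebraMap _ (Localization.AtPrime 𝔪)) ≤
      IsLocalRing.maximalIdeal (Localization.AtPrime 𝔪) := by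
    rw [← Localization.AtPrime.map_eq_maximalIdeal]
    exact Ideal.map_mono h
  have het := cφ_etale k A p
  have h2 := span_sub_eq (cφ k A p) het.formallyUnramified
    (RingHom.FiniteType.of_finitePresentation
      (RingHom.Etale.iff_flat_and_formallyUnramified.1 het).2.2) a b
    (fun x => hmax (hle x))
  rw [h1, h2]
  have hX : ∀ l, a (cφ k A p (MvPolynomial.X l)) - b (cφ k A p (MvPolynomial.X l)) =
      chart 𝔪 (MvPolynomial.X (i, l) - MvPolynomial.X (j, l)) := by
    intro l
    rw [map_sub, chart_X' 𝔪 i l p rfl hi', chart_X' 𝔪 j l p hj hj']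
  apply le_antisymm
  · rw [Ideal.span_le]
    rintro _ ⟨l, rfl⟩
    change a (cφ k A p (MvPolynomial.X l)) - b (cφ k A p (MvPolynomial.X l)) ∈ _
    rw [hX]
    apply Ideal.mem_map_of_mem (chart 𝔪).toRingHom
    have : (MvPolynomial.X (i, l) - MvPolynomial.X (j, l) :
        MvPolynomial (Fin n × Fin (dim k A)) k) = lin (emb k i (Pi.single l 1) -
          emb k j (Pi.single l 1)) := by
      rw [map_sub, ← lin_single, ← lin_single]
      congr 2
      · ext ⟨m, l'⟩
        simp only [emb_apply, Pi.single_apply, Prod.mk.injEq]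
        by_cases h1 : m = i <;> by_cases h2 : l' = l <;> simp [h1, h2]
      · ext ⟨m, l'⟩
        simp only [emb_apply, Pi.single_apply, Prod.mk.injEq]
        by_cases h1 : m = j <;> by_cases h2 : l' = l <;> simp [h1, h2]
    rw [this]
    exact lin_mem (mem_V _)
  · rw [ideal, Ideal.map_span, Ideal.span_le]
    rintro _ ⟨_, ⟨_, ⟨c, rfl⟩, rfl⟩, rfl⟩
    have : lin ((emb k i - emb k j : (Fin (dim k A) → k) →ₗ[k] _) c) =
        ∑ l, c l • (MvPolynomial.X (i, l) - MvPolynomial.X (j, l) :
          MvPolynomial (Fin n × Fin (dim k A)) k) := by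
      rw [LinearMap.sub_apply, map_sub, lin_apply, lin_apply]
      simp only [smul_sub, Finset.sum_sub_distrib]
      congr 1
      · rw [Fintype.sum_prod_type, Finset.sum_eq_single i]
        · simp [emb_apply]
        · intro m _ hm
          simp [emb_apply, hm]
        · simp
      · rw [Fintype.sum_prod_type, Finset.sum_eq_single j]
        · simp [emb_apply]
        · intro m _ hm
          simp [emb_apply, hm]
        · simp
    change chart 𝔪 _ ∈ _
    rw [this, map_sum]
    refine sum_mem fun l _ => ?_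
    rw [map_smul, ← hX]
    exact Submodule.smul_of_tower_mem _ _ (Ideal.subset_span ⟨l, rfl⟩)

end K984.Loc
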