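import Groth.Agent.DiagIdeal.K984.Tri

/-!
# The module `Ω ⊗ A` over `A ⊗ A` and the operator `E` on the triple tensor product
-/

set_option autoImplicit false

namespace K984.Op

open TensorProduct K984.Tri

variable (k : Type*) (A : Type*) [CommRing k] [CommRing A] [Algebra k A]

/-- `Ω ⊗ A`, to be used as a module over `A ⊗ A`. -/
def MM := Ω[A⁄k] ⊗[k] A

noncomputable instance : AddCommGroup (MM k A) := inferInstanceAs (AddCommGroup (Ω[A⁄k] ⊗[k] A))

noncomputable instance : Module k (MM k A) := inferInstanceAs (Module k (Ω[A⁄k] ⊗[k] A))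

theorem act_comm (x y : A) : Commute
    (((Module.End.rTensorAlgHom k Ω[A⁄k] A).comp (Algebra.lsmul k k Ω[A⁄k])) x)
    (((Module.End.lTensorAlgHom k A Ω[A⁄k]).comp (Algebra.lmul k A)) y) := by
  rw [commute_iff_eq]
  apply TensorProduct.ext'
  intro a b
  rfl

/-- The action of `A ⊗ A`. -/
noncomputable def actHom : A ⊗[k] A →ₐ[k] Module.End k (Ω[A⁄k] ⊗[k] A) :=
  Algebra.TensorProduct.lift
    ((Module.End.rTensorAlgHom k Ω[A⁄k] A).comp (Algebra.lsmul k k Ω[A⁄k]))
    ((Module.End.lTensorAlgHom k A Ω[A⁄k]).comp (Algebra.lmul k A)) (act_comm k A)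

theorem actHom_tmul (x y : A) (w : Ω[A⁄k]) (b : A) :
    actHom k A (x ⊗ₜ[k] y) (w ⊗ₜ[k] b) = (x • w) ⊗ₜ[k] (y * b) := by
  rw [actHom, Algebra.TensorProduct.lift_tmul]
  rfl

noncomputable instance : Module (A ⊗[k] A) (MM k A) :=
  Module.compHom (Ω[A⁄k] ⊗[k] A) (actHom k A).toRingHom

variable {k A}

theorem smul_def (x : A ⊗[k] A) (m : MM k A) : x • m = actHom k A x m := rfl

instance : IsScalarTower k (A ⊗[k] A) (MM k A) where
  smul_assoc r x m := by
    rw [smul_def, smul_def, map_smul]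
    rfl

variable (k A) in
/-- The element `w ⊗ b`. -/
noncomputable def tm : Ω[A⁄k] →ₗ[k] A →ₗ[k] MM k A := TensorProduct.mk k Ω[A⁄k] A

theorem smul_tm (x y : A) (w : Ω[A⁄k]) (b : A) :
    (x ⊗ₜ[k] y) • tm k A w b = tm k A (x • w) (y * b) :=
  actHom_tmul k A x y w b

/-- The differential of the first factor. -/
noncomputable abbrev d : A →ₗ[k] Ω[A⁄k] := (KaehlerDifferential.D k A).toLinearMap

variable (k A) in
/-- `x ⊗ y ↦ x dy`. -/
noncomputable def θ : A ⊗[k] A →ₗ[k] Ω[A⁄k] :=
  ((KaehlerDifferential.D k A).tensorProductTo).restrictScalars k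

theorem θ_tmul (x y : A) : θ k A (x ⊗ₜ[k] y) = x • KaehlerDifferential.D k A y := by
  exact Derivation.tensorProductTo_tmul _ _ _

variable (k A) in
/-- `a ⊗ u ↦ 2 a du - u da`. -/
noncomputable def E2 : A ⊗[k] A →ₗ[k] Ω[A⁄k] :=
  (2 : k) • θ k A - θ k A ∘ₗ (TensorProduct.comm k A A).toLinearMap

theorem E2_tmul (a u : A) : E2 k A (a ⊗ₜ[k] u) =
    (2 : k) • (a • KaehlerDifferential.D k A u) - u • KaehlerDifferential.D k A a := by
  simp [E2, θ_tmul]

variable (k A) in
/-- `a ⊗ u ⊗ w ↦ (2 a du - u da) ⊗ w`. -/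
noncomputable def E : A ⊗[k] (A ⊗[k] A) →ₗ[k] MM k A :=
  LinearMap.rTensor A (E2 k A) ∘ₗ (TensorProduct.assoc k A A A).symm.toLinearMap

theorem E_tmul (a u w : A) : E k A (a ⊗ₜ[k] (u ⊗ₜ[k] w)) = tm k A (E2 k A (a ⊗ₜ[k] u)) w := rfl

theorem E_mul (x y : A ⊗[k] (A ⊗[k] A)) :
    E k A (x * y) = rPQ k A x • E k A y + rPQ k A y • E k A x := by
  induction x using TensorProduct.induction_on with
  | zero => simp
  | add x x' hx hx' => rw [add_mul, map_add, hx, hx', map_add, map_add, add_smul, smul_add]; abel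
  | tmul a x =>
  induction x using TensorProduct.induction_on with
  | zero => simp
  | add x x' hx hx' =>
    rw [TensorProduct.tmul_add, add_mul, map_add, hx, hx', map_add, map_add, add_smul, smul_add]
    abel
  | tmul u w =>
  induction y using TensorProduct.induction_on with
  | zero => simp
  | add x x' hx hx' => rw [mul_add, map_add, hx, hx', map_add, map_add, add_smul, smul_add]; abel
  | tmul a' y =>
  induction y using TensorProduct.induction_on with
  | zero => simp
  | add x x' hx hx' =>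
    rw [TensorProduct.tmul_add, mul_add, map_add, hx, hx', map_add, map_add, add_smul, smul_add]
    abel
  | tmul u' w' =>
    rw [Algebra.TensorProduct.tmul_mul_tmul, Algebra.TensorProduct.tmul_mul_tmul, E_tmul, E_tmul,
      E_tmul, rPQ_tmul, rPQ_tmul, smul_tm, smul_tm, mul_comm w' w, ← LinearMap.add_apply, ← map_add]
    congr 2
    rw [E2_tmul, E2_tmul, E2_tmul, Derivation.leibniz, Derivation.leibniz]
    simp only [ofNat_smul_eq_nsmul, two_nsmul]
    module

theorem E_p (a : A) : E k A (p k a) = - tm k A (KaehlerDifferential.D k A a) 1 := by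
  rw [p_apply, E_tmul, E2_tmul, ← LinearMap.neg_apply, ← map_neg]
  simp

theorem E_q (a : A) : E k A (q k a) = (2 : A ⊗[k] A) • tm k A (KaehlerDifferential.D k A a) 1 := by
  rw [q_apply, E_tmul, E2_tmul]
  simp only [one_smul, Derivation.map_one_eq_zero, smul_zero, sub_zero]
  rw [two_smul, two_smul, map_add, LinearMap.add_apply]

theorem E_s (a : A) : E k A (s k a) = 0 := by
  rw [s_apply, E_tmul, E2_tmul]
  simp

end K984.Op
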