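import Groth.Agent.DiagIdeal.K984.Op
import Mathlib.LinearAlgebra.ExteriorAlgebra.Basic

/-!
# The second map of the resolution: lifting through `Ω ⊗ I`
-/

set_option autoImplicit false

namespace K984.Part2

open TensorProduct K984.Tri K984.Op

variable {k : Type*} {A : Type*} [CommRing k] [CommRing A] [Algebra k A]


variable (k A)

/-- `w ↦ 1 ⊗ w - w ⊗ 1`. -/
noncomputable def dI : A →ₗ[k] ↥(KaehlerDifferential.ideal k A) where
  toFun w := ⟨(1 : A) ⊗ₜ[k] w - w ⊗ₜ[k] (1 : A), KaehlerDifferential.one_smul_sub_smul_one_mem_ideal k w⟩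
  map_add' x y := by
    apply Subtype.ext
    simp only [TensorProduct.tmul_add, TensorProduct.add_tmul, Submodule.coe_add]
    abel
  map_smul' r x := by
    apply Subtype.ext
    simp only [TensorProduct.tmul_smul, TensorProduct.smul_tmul', RingHom.id_apply,
      Submodule.coe_smul_of_tower, smul_sub]

/-- `a ⊗ u ⊗ w ↦ (2 a du - u da) ⊗ (1 ⊗ w - w ⊗ 1)`. -/
noncomputable def U : A ⊗[k] (A ⊗[k] A) →ₗ[k] Ω[A⁄k] ⊗[k] ↥(KaehlerDifferential.ideal k A) :=
  TensorProduct.map (E2 k A) (dI k A) ∘ₗ (TensorProduct.assoc k A A A).symm.toLinearMap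

variable {k A}

theorem U_tmul (a u w : A) : U k A (a ⊗ₜ[k] (u ⊗ₜ[k] w)) = E2 k A (a ⊗ₜ[k] u) ⊗ₜ[k] dI k A w := rfl

theorem coe_dI (w : A) : (dI k A w : A ⊗[k] A) = (1 : A) ⊗ₜ[k] w - w ⊗ₜ[k] (1 : A) := rfl

theorem θ_dI (w : A) : θ k A (dI k A w : A ⊗[k] A) = KaehlerDifferential.D k A w := by
  rw [coe_dI, map_sub, θ_tmul, θ_tmul]
  simp

variable (k A)

/-- `a ⊗ u ⊗ w ↦ w (2 a du - u da)`. -/
noncomputable def κ : A ⊗[k] (A ⊗[k] A) →ₗ[k] Ω[A⁄k] :=
  TensorProduct.lift ((Algebra.lsmul k k Ω[A⁄k]).toLinearMap.flip ∘ₗ E2 k A) ∘ₗ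
    (TensorProduct.assoc k A A A).symm.toLinearMap

variable {k A}

theorem κ_tmul (a u w : A) : κ k A (a ⊗ₜ[k] (u ⊗ₜ[k] w)) = w • E2 k A (a ⊗ₜ[k] u) := rfl

/-- The `δ` of the resolution. -/
noncomputable def δ₀ (y : A ⊗[k] (A ⊗[k] A)) : A ⊗[k] A :=
  rQR k A y - TensorProduct.comm k A A (rQR k A y)

theorem mul_smul_θ (x : A ⊗[k] A) (w : A) :
    θ k A (w ⊗ₜ[k] (1 : A) * x) = w • θ k A x := by
  induction x using TensorProduct.induction_on with
  | zero => simp
  | add x y hx hy => rw [mul_add, map_add, hx, hy, map_add, smul_add]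
  | tmul a b =>
    rw [Algebra.TensorProduct.tmul_mul_tmul, θ_tmul, θ_tmul, one_mul, mul_smul]

theorem κ_add (y : A ⊗[k] (A ⊗[k] A)) :
    κ k A (y + sw k A y) = (2 : k) • θ k A (δ₀ y) := by
  rw [δ₀]
  refine tri_induction (P := fun y => κ k A (y + sw k A y) = (2 : k) • θ k A (rQR k A y - TensorProduct.comm k A A (rQR k A y)))
    (by simp) ?_ ?_ y
  · intro x y hx hy
    rw [map_add (sw k A), add_add_add_comm, map_add (κ k A), hx, hy, map_add (rQR k A),
      map_add (TensorProduct.comm k A A), add_sub_add_comm, map_add, smul_add]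
  · intro a u w
    rw [← tmul_eq, sw_tmul, map_add, κ_tmul, κ_tmul, rQR_tmul, TensorProduct.comm_tmul, map_sub,
      θ_tmul, θ_tmul, E2_tmul, E2_tmul, Derivation.leibniz]
    rw [two_smul, two_smul, two_smul]
    module

variable (μ : Ω[A⁄k] ⊗[k] ↥(KaehlerDifferential.ideal k A) →ₗ[k] MM k A)
  (hμ : ∀ (w : Ω[A⁄k]) (f : ↥(KaehlerDifferential.ideal k A)), μ (w ⊗ₜ[k] f) = (f : A ⊗[k] A) • tm k A w 1)

include hμ in
theorem μ_U (y : A ⊗[k] (A ⊗[k] A)) : μ (U k A y) = E k A y - tm k A (κ k A y) 1 := by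
  refine tri_induction (P := fun y => μ (U k A y) = E k A y - tm k A (κ k A y) 1)
    (by simp) ?_ ?_ y
  · intro x y hx hy
    rw [map_add, map_add, hx, hy, map_add, map_add, map_add, LinearMap.add_apply]
    abel
  · intro a u w
    rw [← tmul_eq, U_tmul, hμ, coe_dI, sub_smul, smul_tm, smul_tm, one_smul, mul_one, mul_one,
      E_tmul, κ_tmul]

/-- The elements fixed by the swap and killed by `δ`. -/
def T1 (y : A ⊗[k] (A ⊗[k] A)) : Prop := sw k A y = y ∧ δ₀ y = 0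

theorem smul_cancel {V : Type*} [AddCommGroup V] [Module k V] (n : ℕ) (hn : IsUnit (n : k)) {x : V}
    (h : (n : k) • x = 0) : x = 0 := by
  obtain ⟨u, hu⟩ := hn
  have := congrArg (fun z => (↑u⁻¹ : k) • z) h
  simpa [← hu, smul_smul] using this

theorem κ_eq_zero (h2 : IsUnit (2 : k)) (y : A ⊗[k] (A ⊗[k] A)) (hy : T1 y) : κ k A y = 0 := by
  have h := κ_add y
  rw [hy.1, hy.2, map_zero, smul_zero, map_add, ← two_smul k] at h
  exact smul_cancel 2 (by exact_mod_cast h2) (by exact_mod_cast h)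

include hμ in
theorem μ_U_eq (h2 : IsUnit (2 : k)) (y : A ⊗[k] (A ⊗[k] A)) (hy : T1 y) :
    μ (U k A y) = E k A y := by
  rw [μ_U μ hμ, κ_eq_zero h2 y hy, map_zero, LinearMap.zero_apply, sub_zero]

variable (Λ : Ω[A⁄k] ⊗[k] ↥(KaehlerDifferential.ideal k A) →ₗ[k] ExteriorAlgebra A (Ω[A⁄k]))
    (hΛ : ∀ (w : Ω[A⁄k]) (f : ↥(KaehlerDifferential.ideal k A)),
      Λ (w ⊗ₜ[k] f) = ExteriorAlgebra.ι A w * ExteriorAlgebra.ι A (θ k A (f : A ⊗[k] A)))

variable (k A) in
/-- `x ⊗ z ↦ dx ∧ dz`. -/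
noncomputable def ω2 : A ⊗[k] A →ₗ[k] ExteriorAlgebra A (Ω[A⁄k]) :=
  TensorProduct.lift ((LinearMap.mul k (ExteriorAlgebra A (Ω[A⁄k]))).compl₁₂
    (((ExteriorAlgebra.ι A).restrictScalars k) ∘ₗ (KaehlerDifferential.D k A).toLinearMap)
    (((ExteriorAlgebra.ι A).restrictScalars k) ∘ₗ (KaehlerDifferential.D k A).toLinearMap))

theorem ω2_tmul (x z : A) :
    ω2 k A (x ⊗ₜ[k] z) = ExteriorAlgebra.ι A (KaehlerDifferential.D k A x) * ExteriorAlgebra.ι A (KaehlerDifferential.D k A z) := rfl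

include hΛ in
theorem Λ_U (y : A ⊗[k] (A ⊗[k] A)) :
    (4 : k) • Λ (U k A (y + sw k A y)) = - ω2 k A (δ₀ (y + sw k A y)) := by
  rw [δ₀]
  refine tri_induction (P := fun y => (4 : k) • Λ (U k A (y + sw k A y)) = - ω2 k A
    (rQR k A (y + sw k A y) - TensorProduct.comm k A A (rQR k A (y + sw k A y)))) (by simp) ?_ ?_ y
  · intro x y hx hy
    rw [map_add (sw k A), add_add_add_comm, map_add (U k A), map_add Λ, smul_add, hx, hy,
      map_add (rQR k A) (x + _), map_add (TensorProduct.comm k A A) (rQR k A (x + _)),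
      add_sub_add_comm, map_add (ω2 k A), neg_add]
  · intro a u w
    rw [← tmul_eq, sw_tmul, map_add, map_add, U_tmul, U_tmul, map_add, rQR_tmul, rQR_tmul, mul_comm w u,
      ← two_smul k (a ⊗ₜ[k] (u * w)), map_smul, TensorProduct.comm_tmul, ← smul_sub, map_smul,
      map_sub, ω2_tmul, ω2_tmul, hΛ, hΛ, θ_dI, θ_dI, E2_tmul, E2_tmul]
    simp only [Derivation.map_one_eq_zero, smul_zero, sub_zero, one_smul, Derivation.leibniz,
      map_sub, map_add, map_smul, sub_mul, mul_add, add_mul, LinearMap.map_smul_of_tower,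
      smul_mul_assoc, mul_smul_comm]
    have anti : ∀ x y : Ω[A⁄k], ExteriorAlgebra.ι A x * ExteriorAlgebra.ι A y =
        - (ExteriorAlgebra.ι A y * ExteriorAlgebra.ι A x) := fun x y =>
      eq_neg_of_add_eq_zero_left (ExteriorAlgebra.ι_add_mul_swap x y)
    rw [anti (KaehlerDifferential.D k A w) (KaehlerDifferential.D k A u), anti (KaehlerDifferential.D k A w) (KaehlerDifferential.D k A a), anti (KaehlerDifferential.D k A u) (KaehlerDifferential.D k A a)]
    have h2 : ∀ (z : ExteriorAlgebra A (Ω[A⁄k])), (2 : k) • z = (2 : A) • z := fun z => by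
      rw [two_smul, two_smul]
    have h4 : ∀ (z : ExteriorAlgebra A (Ω[A⁄k])), (4 : k) • z = (4 : A) • z := fun z => by
      rw [show (4 : k) = 2 + 2 by norm_num, show (4 : A) = 2 + 2 by norm_num, add_smul, add_smul,
        two_smul, two_smul]
    simp only [h4, h2]
    module

include hΛ in
theorem Λ_U_eq_zero (h2 : IsUnit (2 : k)) (y : A ⊗[k] (A ⊗[k] A)) (hy : T1 y) :
    Λ (U k A y) = 0 := by
  have h := Λ_U Λ hΛ y
  have h' : δ₀ (y + y) = 0 := by
    have h3 := hy.2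
    rw [δ₀] at h3 ⊢
    rw [map_add, map_add, add_sub_add_comm, h3, add_zero]
  rw [hy.1, h', map_zero, neg_zero, ← two_smul k, map_smul, map_smul, smul_smul] at h
  have h8 : IsUnit (8 : k) := by
    have : (8 : k) = 2 * (2 * 2) := by norm_num
    rw [this]
    exact h2.mul (h2.mul h2)
  refine smul_cancel 8 (by exact_mod_cast h8) ?_
  rw [← h]
  norm_num

end K984.Part2
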