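import Groth.Agent.DiagIdeal.K984.Rels
import Mathlib.LinearAlgebra.ExteriorAlgebra.OfAlternating

/-!
# Exactness in the middle of the resolution
-/

set_option autoImplicit false

namespace K984.Part3

open TensorProduct K984.Tri K984.Op K984.Part2 K984.Part4 K984.Rels

section alt

variable (R M : Type*) [CommRing R] [AddCommGroup M] [Module R M]

/-- `w ∧ v ↦ w ⊗ v - v ⊗ w`. -/
noncomputable def alt2 : M [⋀^Fin 2]→ₗ[R] M ⊗[R] M where
  toFun v := v 0 ⊗ₜ[R] v 1 - v 1 ⊗ₜ[R] v 0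
  map_update_add' := by
    intro _ v i x y
    fin_cases i <;> simp [TensorProduct.add_tmul, TensorProduct.tmul_add] <;> abel
  map_update_smul' := by
    intro _ v i c x
    fin_cases i <;> simp [TensorProduct.smul_tmul', TensorProduct.tmul_smul, smul_sub]
  map_eq_zero_of_eq' := by
    intro v i j h hij
    fin_cases i <;> fin_cases j <;> simp_all

/-- The map from the exterior algebra. -/
noncomputable def altE : ExteriorAlgebra R M →ₗ[R] M ⊗[R] M :=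
  ExteriorAlgebra.liftAlternating (R := R) (M := M) (fun i =>
    match i with
    | 2 => alt2 R M
    | _ => 0)

variable {R M}

theorem altE_mul (w v : M) : altE R M (ExteriorAlgebra.ι R w * ExteriorAlgebra.ι R v) =
    w ⊗ₜ[R] v - v ⊗ₜ[R] w := by
  have h : ExteriorAlgebra.ι R w * ExteriorAlgebra.ι R v = ExteriorAlgebra.ιMulti R 2 ![w, v] := by
    rw [ExteriorAlgebra.ιMulti_apply]
    simp
  rw [h, altE, ExteriorAlgebra.liftAlternating_apply_ιMulti]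
  rfl

end alt

section lifts

variable {k : Type*} {A : Type*} [Field k] [CommRing A] [Algebra k A]

/-- Restriction of `θ` to the ideal. -/
noncomputable def θI (k A : Type*) [Field k] [CommRing A] [Algebra k A] :
    ↥(KaehlerDifferential.ideal k A) →ₗ[k] Ω[A⁄k] :=
  θ k A ∘ₗ ((KaehlerDifferential.ideal k A).subtype.restrictScalars k)

theorem θI_apply (f : KaehlerDifferential.ideal k A) : θI k A f = θ k A (f : A ⊗[k] A) := rfl

theorem exists_section : ∃ s : Ω[A⁄k] →ₗ[k] ↥(KaehlerDifferential.ideal k A),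
    ∀ w, θ k A (s w : A ⊗[k] A) = w := by
  obtain ⟨s, hs⟩ := LinearMap.exists_rightInverse_of_surjective (θI k A)
    (LinearMap.range_eq_top.2 fun w => by
      obtain ⟨f, hf⟩ := θ_surj w
      exact ⟨f, hf⟩)
  exact ⟨s, fun w => LinearMap.congr_fun hs w⟩

theorem tm_smul (a : A) (w : Ω[A⁄k]) : tm k A (a • w) 1 = (a ⊗ₜ[k] (1 : A)) • tm k A w 1 := by
  rw [smul_tm, one_mul]

theorem exists_lift2 (S₂ : Submodule k (MM k A))
    (hS₂ : ∀ f ∈ KaehlerDifferential.ideal k A, ∀ g ∈ KaehlerDifferential.ideal k A,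
      ∀ w : Ω[A⁄k], (f * g) • tm k A w 1 ∈ S₂) :
    ∃ L : Ω[A⁄k] ⊗[A] Ω[A⁄k] →+ MM k A ⧸ S₂, ∀ (w : Ω[A⁄k]) (f : KaehlerDifferential.ideal k A),
      L (w ⊗ₜ[A] θ k A (f : A ⊗[k] A)) = S₂.mkQ ((f : A ⊗[k] A) • tm k A w 1) := by
  obtain ⟨s, hs⟩ := exists_section (k := k) (A := A)
  have key : ∀ x ∈ KaehlerDifferential.ideal k A ^ 2, ∀ w : Ω[A⁄k], x • tm k A w 1 ∈ S₂ := by
    intro x hx w
    rw [pow_two] at hx
    induction hx using Submodule.mul_induction_on' with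
    | mem_mul_mem f hf g hg => exact hS₂ f hf g hg w
    | add x _ y _ hx hy => rw [add_smul]; exact add_mem hx hy
  have key' : ∀ f ∈ KaehlerDifferential.ideal k A, ∀ g ∈ KaehlerDifferential.ideal k A,
      θ k A f = θ k A g → ∀ w : Ω[A⁄k], S₂.mkQ (f • tm k A w 1) = S₂.mkQ (g • tm k A w 1) := by
    intro f hf g hg h w
    rw [← sub_eq_zero, ← map_sub, ← sub_smul, Submodule.mkQ_apply, Submodule.Quotient.mk_eq_zero]
    refine key _ (Theta.mem_sq_of_mem _ (sub_mem hf hg) ?_) w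
    have : θ k A (f - g) = 0 := by rw [map_sub, h, sub_self]
    exact this
  let f₁ : Ω[A⁄k] →+ Ω[A⁄k] →+ MM k A ⧸ S₂ :=
    AddMonoidHom.mk' (fun w => AddMonoidHom.mk'
      (fun v => S₂.mkQ ((s v : A ⊗[k] A) • tm k A w 1))
      (fun v v' => by rw [map_add, Submodule.coe_add, add_smul, map_add]))
      (fun w w' => by
        ext v
        simp only [AddMonoidHom.mk'_apply, AddMonoidHom.add_apply]
        rw [map_add, LinearMap.add_apply, smul_add, map_add])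
  have hf₁ : ∀ w v, f₁ w v = S₂.mkQ ((s v : A ⊗[k] A) • tm k A w 1) := fun w v => rfl
  refine ⟨TensorProduct.liftAddHom f₁ ?_, ?_⟩
  · intro a w v
    rw [hf₁, hf₁]
    have h1 : (s v : A ⊗[k] A) • tm k A (a • w) 1 =
        ((a ⊗ₜ[k] (1 : A)) * (s v : A ⊗[k] A)) • tm k A w 1 := by
      rw [mul_comm, mul_smul, smul_tm, one_mul]
    rw [h1]
    apply key' _ (Ideal.mul_mem_left _ _ (s v).2) _ (s (a • v)).2
    rw [mul_smul_θ, hs, hs]
  · intro w f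
    rw [TensorProduct.liftAddHom_tmul, hf₁]
    apply key' _ (s _).2 _ f.2
    rw [hs]

theorem exists_lift3 (S : Submodule k (MM k A))
    (hS : ∀ f ∈ KaehlerDifferential.ideal k A, ∀ g ∈ KaehlerDifferential.ideal k A,
      ∀ h ∈ KaehlerDifferential.ideal k A, ∀ w : Ω[A⁄k], (f * g * h) • tm k A w 1 ∈ S) :
    ∃ L : Ω[A⁄k] ⊗[A] (Ω[A⁄k] ⊗[A] Ω[A⁄k]) →+ MM k A ⧸ S,
      ∀ (w : Ω[A⁄k]) (f g : KaehlerDifferential.ideal k A),
      L (θ k A (f : A ⊗[k] A) ⊗ₜ[A] (θ k A (g : A ⊗[k] A) ⊗ₜ[A] w)) =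
        S.mkQ (((f : A ⊗[k] A) * (g : A ⊗[k] A)) • tm k A w 1) := by
  obtain ⟨s, hs⟩ := exists_section (k := k) (A := A)
  have key : ∀ f ∈ KaehlerDifferential.ideal k A, ∀ x ∈ KaehlerDifferential.ideal k A ^ 2,
      ∀ w : Ω[A⁄k], (f * x) • tm k A w 1 ∈ S := by
    intro f hf x hx w
    rw [pow_two] at hx
    induction hx using Submodule.mul_induction_on' with
    | mem_mul_mem g hg h hh => rw [← mul_assoc]; exact hS f hf g hg h hh w
    | add x _ y _ hx hy => rw [mul_add, add_smul]; exact add_mem hx hy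
  have key' : ∀ f ∈ KaehlerDifferential.ideal k A, ∀ g ∈ KaehlerDifferential.ideal k A,
      ∀ h ∈ KaehlerDifferential.ideal k A, θ k A g = θ k A h →
      ∀ w : Ω[A⁄k], S.mkQ ((f * g) • tm k A w 1) = S.mkQ ((f * h) • tm k A w 1) := by
    intro f hf g hg h hh e w
    rw [← sub_eq_zero, ← map_sub, ← sub_smul, ← mul_sub, Submodule.mkQ_apply,
      Submodule.Quotient.mk_eq_zero]
    refine key _ hf _ (Theta.mem_sq_of_mem _ (sub_mem hg hh) ?_) w
    have : θ k A (g - h) = 0 := by rw [map_sub, e, sub_self]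
    exact this
  let f₁ : A ⊗[k] A → (Ω[A⁄k] →+ Ω[A⁄k] →+ MM k A ⧸ S) := fun x =>
    AddMonoidHom.mk' (fun v => AddMonoidHom.mk'
      (fun w => S.mkQ ((x * (s v : A ⊗[k] A)) • tm k A w 1))
      (fun w w' => by rw [map_add, LinearMap.add_apply, smul_add, map_add]))
      (fun v v' => by
        ext w
        simp only [AddMonoidHom.mk'_apply, AddMonoidHom.add_apply]
        rw [map_add, Submodule.coe_add, mul_add, add_smul, map_add])
  have hf₁ : ∀ x v w, f₁ x v w = S.mkQ ((x * (s v : A ⊗[k] A)) • tm k A w 1) := fun x v w => rfl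
  have hbal : ∀ f ∈ KaehlerDifferential.ideal k A, ∀ (a : A) (v w : Ω[A⁄k]),
      f₁ f (a • v) w = f₁ f v (a • w) := by
    intro f hf a v w
    rw [hf₁, hf₁]
    have h1 : (f * (s v : A ⊗[k] A)) • tm k A (a • w) 1 =
        (f * ((a ⊗ₜ[k] (1 : A)) * (s v : A ⊗[k] A))) • tm k A w 1 := by
      rw [tm_smul, smul_smul]
      congr 1
      ring
    rw [h1]
    apply key' _ hf _ (s (a • v)).2 _ (Ideal.mul_mem_left _ _ (s v).2)
    rw [mul_smul_θ, hs, hs]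
  let g₁ : ↥(KaehlerDifferential.ideal k A) → (Ω[A⁄k] ⊗[A] Ω[A⁄k] →+ MM k A ⧸ S) := fun f =>
    TensorProduct.liftAddHom (f₁ f) (hbal f f.2)
  have hg₁ : ∀ f v w, g₁ f (v ⊗ₜ[A] w) =
      S.mkQ (((f : A ⊗[k] A) * (s v : A ⊗[k] A)) • tm k A w 1) :=
    fun f v w => by
      change TensorProduct.liftAddHom (f₁ f) (hbal f f.2) (v ⊗ₜ[A] w) = _
      rw [TensorProduct.liftAddHom_tmul, hf₁]
  have hg₁_add : ∀ f f', g₁ (f + f') = g₁ f + g₁ f' := by
    intro f f'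
    apply AddMonoidHom.ext
    intro t
    rw [AddMonoidHom.add_apply]
    induction t using TensorProduct.induction_on with
    | zero => rw [map_zero, map_zero, map_zero, add_zero]
    | add x y hx hy =>
      rw [map_add (g₁ (f + f')), map_add (g₁ f), map_add (g₁ f'), hx, hy]; abel
    | tmul v'' w =>
      rw [hg₁, hg₁, hg₁, Submodule.coe_add, add_mul, add_smul, map_add]
  let f₂ : Ω[A⁄k] →+ (Ω[A⁄k] ⊗[A] Ω[A⁄k]) →+ MM k A ⧸ S :=
    AddMonoidHom.mk' (fun v => g₁ (s v)) (fun v v' => by rw [map_add, hg₁_add])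
  have hf₂ : ∀ u v w, f₂ u (v ⊗ₜ[A] w) =
      S.mkQ (((s u : A ⊗[k] A) * (s v : A ⊗[k] A)) • tm k A w 1) := fun u v w => hg₁ _ _ _
  refine ⟨TensorProduct.liftAddHom f₂ ?_, ?_⟩
  · intro a u t
    induction t using TensorProduct.induction_on with
    | zero => rw [smul_zero, map_zero, map_zero]
    | add x y hx hy => rw [map_add, smul_add, map_add, hx, hy]
    | tmul v w =>
      rw [TensorProduct.smul_tmul', hf₂, hf₂, mul_comm]
      rw [key' _ (s v).2 _ (s (a • u)).2 (a ⊗ₜ[k] (1 : A) * s u) (Ideal.mul_mem_left _ _ (s u).2)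
        (by rw [mul_smul_θ, hs, hs]),
        key' _ (s u).2 _ (s (a • v)).2 (a ⊗ₜ[k] (1 : A) * s v) (Ideal.mul_mem_left _ _ (s v).2)
        (by rw [mul_smul_θ, hs, hs])]
      congr 2
      ring
  · intro w f g
    rw [TensorProduct.liftAddHom_tmul, hf₂]
    rw [key' _ (s _).2 _ (s _).2 _ g.2 (hs _), mul_comm, key' _ g.2 _ (s _).2 _ f.2 (hs _), mul_comm]

variable [CharZero k] (μ : Ω[A⁄k] ⊗[k] ↥(KaehlerDifferential.ideal k A) →ₗ[k] MM k A)
  (hμ : ∀ (w : Ω[A⁄k]) (f : ↥(KaehlerDifferential.ideal k A)),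
    μ (w ⊗ₜ[k] f) = (f : A ⊗[k] A) • tm k A w 1)

variable (k A) in
/-- The part of `Ω ⊗ I` coming from `I ^ 2`. -/
noncomputable def W : Submodule k (Ω[A⁄k] ⊗[k] ↥(KaehlerDifferential.ideal k A)) :=
  Submodule.span k {u | ∃ (w : Ω[A⁄k]) (f g h : ↥(KaehlerDifferential.ideal k A)),
    (h : A ⊗[k] A) = (f : A ⊗[k] A) * (g : A ⊗[k] A) ∧ u = w ⊗ₜ[k] h}

omit [CharZero k] in
include hμ in
theorem mul_mem_W (f : A ⊗[k] A) (hf : f ∈ KaehlerDifferential.ideal k A) (g : A ⊗[k] A)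
    (hg : g ∈ KaehlerDifferential.ideal k A) (w : Ω[A⁄k]) :
    (f * g) • tm k A w 1 ∈ (W k A).map μ :=
  ⟨w ⊗ₜ[k] ⟨f * g, Ideal.mul_mem_left _ _ hg⟩,
    Submodule.subset_span ⟨w, ⟨f, hf⟩, ⟨g, hg⟩, ⟨f * g, Ideal.mul_mem_left _ _ hg⟩, rfl, rfl⟩,
    hμ _ _⟩

/-- `w ⊗ f ↦ w ⊗ θ f`. -/
noncomputable def Θ (k A : Type*) [Field k] [CommRing A] [Algebra k A] :
    Ω[A⁄k] ⊗[k] ↥(KaehlerDifferential.ideal k A) →+ Ω[A⁄k] ⊗[A] Ω[A⁄k] :=
  TensorProduct.liftAddHom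
    (AddMonoidHom.mk' (fun w => AddMonoidHom.mk'
      (fun f : ↥(KaehlerDifferential.ideal k A) => w ⊗ₜ[A] θ k A (f : A ⊗[k] A))
      (fun f g => by rw [Submodule.coe_add, map_add, TensorProduct.tmul_add]))
      (fun w w' => by
        ext f
        simp only [AddMonoidHom.mk'_apply, AddMonoidHom.add_apply]
        rw [TensorProduct.add_tmul]))
    (fun c w f => by
      simp only [AddMonoidHom.mk'_apply]
      rw [Submodule.coe_smul_of_tower, map_smul, TensorProduct.smul_tmul])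

omit [CharZero k] in
theorem Θ_tmul (w : Ω[A⁄k]) (f : ↥(KaehlerDifferential.ideal k A)) :
    Θ k A (w ⊗ₜ[k] f) = w ⊗ₜ[A] θ k A (f : A ⊗[k] A) := rfl

variable (Λ : Ω[A⁄k] ⊗[k] ↥(KaehlerDifferential.ideal k A) →ₗ[k] ExteriorAlgebra A (Ω[A⁄k]))
    (hΛ : ∀ (w : Ω[A⁄k]) (f : ↥(KaehlerDifferential.ideal k A)),
      Λ (w ⊗ₜ[k] f) = ExteriorAlgebra.ι A w * ExteriorAlgebra.ι A (θ k A (f : A ⊗[k] A)))

omit [CharZero k] in
include hΛ in
theorem altE_Λ (u : Ω[A⁄k] ⊗[k] ↥(KaehlerDifferential.ideal k A)) :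
    altE A Ω[A⁄k] (Λ u) = Θ k A u - TensorProduct.comm A _ _ (Θ k A u) := by
  induction u using TensorProduct.induction_on with
  | zero => simp
  | add x y hx hy => rw [map_add, map_add, hx, hy, map_add, map_add]; abel
  | tmul w f => rw [hΛ, altE_mul, Θ_tmul, TensorProduct.comm_tmul]

include hμ hΛ in
/-- The image of an element of the kernel of `Λ`. -/
theorem mem_sup (u : Ω[A⁄k] ⊗[k] ↥(KaehlerDifferential.ideal k A)) (hu : Λ u = 0) :
    μ u ∈ S k A ⊔ (W k A).map μ := by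
  have h2 : IsUnit (2 : k) := isUnit_iff_ne_zero.2 (by norm_num)
  have h3 : IsUnit (3 : k) := isUnit_iff_ne_zero.2 (by norm_num)
  set S₂ := S k A ⊔ (W k A).map μ with hS₂
  have hle : (W k A).map μ ≤ S₂ := le_sup_right
  have hW : ∀ f ∈ KaehlerDifferential.ideal k A, ∀ g ∈ KaehlerDifferential.ideal k A,
      ∀ w : Ω[A⁄k], (f * g) • tm k A w 1 ∈ S₂ := fun f hf g hg w =>
    hle (mul_mem_W μ hμ f hf g hg w)
  obtain ⟨L, hL⟩ := exists_lift2 S₂ hW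
  have hLΘ : ∀ u, L (Θ k A u) = S₂.mkQ (μ u) := by
    intro u
    induction u using TensorProduct.induction_on with
    | zero => rw [map_zero, map_zero, map_zero, map_zero]
    | add x y hx hy => rw [map_add, map_add, hx, hy, map_add, map_add]
    | tmul w f => rw [Θ_tmul, hL, hμ]
  have hcomm : ∀ t, L (TensorProduct.comm A _ _ t) = - L t := by
    intro t
    induction t using TensorProduct.induction_on with
    | zero => rw [map_zero, map_zero, neg_zero]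
    | add x y hx hy => rw [map_add, map_add, hx, hy, map_add]; abel
    | tmul v w =>
      obtain ⟨f, rfl⟩ := θ_surj v
      obtain ⟨g, rfl⟩ := θ_surj w
      rw [TensorProduct.comm_tmul, hL, hL, eq_neg_iff_add_eq_zero, ← map_add,
        Submodule.mkQ_apply, Submodule.Quotient.mk_eq_zero]
      exact anti h2 h3 S₂ le_sup_left hW f.2 g.2
  have h := altE_Λ Λ hΛ u
  rw [hu, map_zero, eq_comm, sub_eq_zero] at h
  have h' := hcomm (Θ k A u)
  rw [← h, hLΘ, eq_neg_iff_add_eq_zero, ← two_smul k] at h'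
  have h'' := smul_cancel (k := k) (x := S₂.mkQ (μ u)) 2 (by exact_mod_cast h2)
    (by rw [Nat.cast_ofNat]; exact h')
  rwa [Submodule.mkQ_apply, Submodule.Quotient.mk_eq_zero] at h''

variable
    (sym : Ω[A⁄k] ⊗[A] (Ω[A⁄k] ⊗[A] Ω[A⁄k]) →ₗ[A] Ω[A⁄k] ⊗[A] (Ω[A⁄k] ⊗[A] Ω[A⁄k]))
    (hsym : ∀ a b c : Ω[A⁄k], sym (a ⊗ₜ[A] (b ⊗ₜ[A] c)) =
      a ⊗ₜ[A] (b ⊗ₜ[A] c) + a ⊗ₜ[A] (c ⊗ₜ[A] b) + b ⊗ₜ[A] (a ⊗ₜ[A] c) +
      b ⊗ₜ[A] (c ⊗ₜ[A] a) + c ⊗ₜ[A] (a ⊗ₜ[A] b) + c ⊗ₜ[A] (b ⊗ₜ[A] a))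
    (C : Ω[A⁄k] ⊗[k] ↥(KaehlerDifferential.ideal k A) →ₗ[k] Ω[A⁄k] ⊗[A] (Ω[A⁄k] ⊗[A] Ω[A⁄k]))
    (hC₂ : ∀ (w : Ω[A⁄k]) (f g h : ↥(KaehlerDifferential.ideal k A)), (h : A ⊗[k] A) = (f : A ⊗[k] A) * (g : A ⊗[k] A) →
      C (w ⊗ₜ[k] h) = sym (θ k A (f : A ⊗[k] A) ⊗ₜ[A] (θ k A (g : A ⊗[k] A) ⊗ₜ[A] w)))

include hμ hsym hC₂ in
theorem mem_S_of_W (u : Ω[A⁄k] ⊗[k] ↥(KaehlerDifferential.ideal k A)) (hu : u ∈ W k A)
    (hCu : C u = 0) : μ u ∈ S k A := by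
  have h2 : IsUnit (2 : k) := isUnit_iff_ne_zero.2 (by norm_num)
  have h3 : IsUnit (3 : k) := isUnit_iff_ne_zero.2 (by norm_num)
  have h6 : IsUnit (6 : k) := isUnit_iff_ne_zero.2 (by norm_num)
  obtain ⟨L, hL⟩ := exists_lift3 (S k A)
    (fun f hf g hg h hh w => mul_mem3 h2 h3 hf hg hh w)
  have e1 : ∀ x y z, L (x ⊗ₜ[A] (y ⊗ₜ[A] z)) = L (y ⊗ₜ[A] (x ⊗ₜ[A] z)) := by
    intro x y z
    obtain ⟨f, rfl⟩ := θ_surj x
    obtain ⟨g, rfl⟩ := θ_surj y
    rw [hL, hL, mul_comm]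
  have e2 : ∀ x y z, L (x ⊗ₜ[A] (y ⊗ₜ[A] z)) = L (x ⊗ₜ[A] (z ⊗ₜ[A] y)) := by
    intro x y z
    obtain ⟨f, rfl⟩ := θ_surj x
    obtain ⟨g, rfl⟩ := θ_surj y
    obtain ⟨h, rfl⟩ := θ_surj z
    rw [hL, hL, ← sub_eq_zero, ← map_sub, Submodule.mkQ_apply, Submodule.Quotient.mk_eq_zero]
    exact exchange h3 f.2 g.2 h.2
  have hLs : ∀ x y z, L (sym (x ⊗ₜ[A] (y ⊗ₜ[A] z))) = 6 • L (x ⊗ₜ[A] (y ⊗ₜ[A] z)) := by
    intro x y z
    rw [hsym]
    simp only [map_add]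
    rw [e2 x z y, e1 y x z, e2 y z x, e1 y x z, e1 z x y, e2 x z y, e2 z y x, e1 z x y, e2 x z y]
    abel
  have hW : ∀ u ∈ W k A, ∀ c : k, L (C (c • u)) = 6 • (S k A).mkQ (μ (c • u)) := by
    intro u hu
    induction hu using Submodule.span_induction with
    | mem u hu =>
      intro c
      obtain ⟨w, f, g, h, hh, rfl⟩ := hu
      rw [TensorProduct.smul_tmul', hC₂ (c • w) f g h hh, hLs, hL, hμ, hh]
    | zero => intro c; rw [smul_zero, map_zero, map_zero, map_zero, map_zero, smul_zero]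
    | add x y _ _ hx hy =>
      intro c
      rw [smul_add, map_add, map_add, hx, hy, map_add, map_add, smul_add]
    | smul c' x _ hx =>
      intro c
      rw [smul_smul]
      exact hx _
  have h := hW u hu 1
  rw [one_smul, hCu, map_zero] at h
  have h'' := smul_cancel (k := k) (x := (S k A).mkQ (μ u)) 6 (by exact_mod_cast h6) (by
    rw [Nat.cast_smul_eq_nsmul, ← h])
  rwa [Submodule.mkQ_apply, Submodule.Quotient.mk_eq_zero] at h''

include hμ hΛ hsym hC₂ in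
/-- Exactness at the kernel of `Λ`. -/
theorem main (hC₁ : ∀ u y, T1 y → μ u = E k A y → C u = 0)
    (u : Ω[A⁄k] ⊗[k] ↥(KaehlerDifferential.ideal k A)) (hu : Λ u = 0) (hCu : C u = 0) :
    ∃ y, T1 y ∧ μ u = E k A y := by
  obtain ⟨m, hm, w, hw, hmw⟩ := Submodule.mem_sup.1 (mem_sup μ hμ Λ hΛ u hu)
  obtain ⟨y₀, hy₀, rfl⟩ := hm
  obtain ⟨u', hu', rfl⟩ := hw
  have h1 : μ (u - u') = E k A y₀ := by rw [map_sub, ← hmw, add_sub_cancel_right]
  have h2 := hC₁ (u - u') y₀ hy₀ h1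
  rw [map_sub, hCu, zero_sub, neg_eq_zero] at h2
  have h3 := mem_S_of_W μ hμ sym hsym C hC₂ u' hu' h2
  have h4 : μ u ∈ S k A := by
    rw [← hmw]
    exact add_mem ⟨y₀, hy₀, rfl⟩ h3
  obtain ⟨y, hy, hy'⟩ := h4
  exact ⟨y, hy, hy'.symm⟩

end lifts

end K984.Part3
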