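import Groth.Agent.DiagIdeal.K984.Part2

/-!
# Surjectivity of the last map of the resolution
-/

set_option autoImplicit false

namespace K984.Part4

open TensorProduct K984.Tri K984.Op K984.Part2

section sym

variable {R M : Type*} [CommRing R] [AddCommGroup M] [Module R M]
  (sym : M ⊗[R] (M ⊗[R] M) →ₗ[R] M ⊗[R] (M ⊗[R] M))
  (hsym : ∀ a b c : M, sym (a ⊗ₜ[R] (b ⊗ₜ[R] c)) =
      a ⊗ₜ[R] (b ⊗ₜ[R] c) + a ⊗ₜ[R] (c ⊗ₜ[R] b) + b ⊗ₜ[R] (a ⊗ₜ[R] c) +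
      b ⊗ₜ[R] (c ⊗ₜ[R] a) + c ⊗ₜ[R] (a ⊗ₜ[R] b) + c ⊗ₜ[R] (b ⊗ₜ[R] a))

include hsym in
theorem sym_apply (τ : M ⊗[R] (M ⊗[R] M)) :
    let s := (TensorProduct.leftComm R M M M)
    let t := LinearMap.lTensor M (TensorProduct.comm R M M).toLinearMap
    sym τ = τ + t τ + s τ + t (s τ) + s (t τ) + t (s (t τ)) := by
  intro s t
  induction τ using TensorProduct.induction_on with
  | zero => simp
  | add x y hx hy => simp only [map_add, hx, hy]; abel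
  | tmul a τ =>
    induction τ using TensorProduct.induction_on with
    | zero => simp
    | add x y hx hy => simp only [TensorProduct.tmul_add, map_add, hx, hy]; abel
    | tmul b c =>
      rw [hsym]
      simp [s, t]

include hsym in
theorem sym_eq (τ : M ⊗[R] (M ⊗[R] M)) (h1 : TensorProduct.leftComm R M M M τ = τ)
    (h2 : LinearMap.lTensor M (TensorProduct.comm R M M).toLinearMap τ = τ) :
    sym τ = 6 • τ := by
  have h := sym_apply sym hsym τ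
  simp only [h1, h2] at h
  rw [h]
  abel

end sym

variable {k : Type*} {A : Type*} [CommRing k] [CommRing A] [Algebra k A]

theorem θ_mul (f g : A ⊗[k] A) : θ k A (f * g) =
    Algebra.TensorProduct.lmul' k f • θ k A g + Algebra.TensorProduct.lmul' k g • θ k A f :=
  Derivation.tensorProductTo_mul _ _ _

theorem lmul_eq_zero {f : A ⊗[k] A} (hf : f ∈ KaehlerDifferential.ideal k A) :
    Algebra.TensorProduct.lmul' k f = 0 := hf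

theorem θ_mul_eq_zero {f g : A ⊗[k] A} (hf : f ∈ KaehlerDifferential.ideal k A)
    (hg : g ∈ KaehlerDifferential.ideal k A) : θ k A (f * g) = 0 := by
  rw [θ_mul, lmul_eq_zero hf, lmul_eq_zero hg, zero_smul, zero_smul, add_zero]

/-- `θ` restricted to the diagonal ideal is surjective. -/
theorem θ_surj (w : Ω[A⁄k]) : ∃ f : KaehlerDifferential.ideal k A, θ k A (f : A ⊗[k] A) = w := by
  have hw : w ∈ Submodule.span A (Set.range (KaehlerDifferential.D k A)) := by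
    rw [KaehlerDifferential.span_range_derivation]
    trivial
  induction hw using Submodule.span_induction with
  | mem x hx =>
    obtain ⟨a, rfl⟩ := hx
    exact ⟨dI k A a, θ_dI a⟩
  | zero => exact ⟨0, by simp⟩
  | add x y _ _ hx hy =>
    obtain ⟨f, rfl⟩ := hx
    obtain ⟨g, rfl⟩ := hy
    exact ⟨f + g, by simp⟩
  | smul a x _ hx =>
    obtain ⟨f, rfl⟩ := hx
    exact ⟨(a ⊗ₜ[k] (1 : A)) • f, by rw [Submodule.coe_smul, smul_eq_mul, mul_smul_θ]⟩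

variable
    (Λ : Ω[A⁄k] ⊗[k] ↥(KaehlerDifferential.ideal k A) →ₗ[k] ExteriorAlgebra A (Ω[A⁄k]))
    (hΛ : ∀ (w : Ω[A⁄k]) (f : ↥(KaehlerDifferential.ideal k A)),
      Λ (w ⊗ₜ[k] f) = ExteriorAlgebra.ι A w * ExteriorAlgebra.ι A (θ k A (f : A ⊗[k] A)))
    (sym : Ω[A⁄k] ⊗[A] (Ω[A⁄k] ⊗[A] Ω[A⁄k]) →ₗ[A] Ω[A⁄k] ⊗[A] (Ω[A⁄k] ⊗[A] Ω[A⁄k]))
    (hsym : ∀ a b c : Ω[A⁄k], sym (a ⊗ₜ[A] (b ⊗ₜ[A] c)) =
      a ⊗ₜ[A] (b ⊗ₜ[A] c) + a ⊗ₜ[A] (c ⊗ₜ[A] b) + b ⊗ₜ[A] (a ⊗ₜ[A] c) +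
      b ⊗ₜ[A] (c ⊗ₜ[A] a) + c ⊗ₜ[A] (a ⊗ₜ[A] b) + c ⊗ₜ[A] (b ⊗ₜ[A] a))
    (C : Ω[A⁄k] ⊗[k] ↥(KaehlerDifferential.ideal k A) →ₗ[k] Ω[A⁄k] ⊗[A] (Ω[A⁄k] ⊗[A] Ω[A⁄k]))
    (hC₂ : ∀ (w : Ω[A⁄k]) (f g h : ↥(KaehlerDifferential.ideal k A)), (h : A ⊗[k] A) = (f : A ⊗[k] A) * (g : A ⊗[k] A) →
      C (w ⊗ₜ[k] h) = sym (θ k A (f : A ⊗[k] A) ⊗ₜ[A] (θ k A (g : A ⊗[k] A) ⊗ₜ[A] w)))

include hΛ hC₂ in
theorem exists_sym (τ : Ω[A⁄k] ⊗[A] (Ω[A⁄k] ⊗[A] Ω[A⁄k])) : ∃ u, Λ u = 0 ∧ C u = sym τ := by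
  induction τ using TensorProduct.induction_on with
  | zero => exact ⟨0, by simp⟩
  | add x y hx hy =>
    obtain ⟨u, hu1, hu2⟩ := hx
    obtain ⟨v, hv1, hv2⟩ := hy
    exact ⟨u + v, by rw [map_add, hu1, hv1, add_zero], by rw [map_add, hu2, hv2, map_add]⟩
  | tmul a τ =>
    induction τ using TensorProduct.induction_on with
    | zero => exact ⟨0, by simp⟩
    | add x y hx hy =>
      obtain ⟨u, hu1, hu2⟩ := hx
      obtain ⟨v, hv1, hv2⟩ := hy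
      exact ⟨u + v, by rw [map_add, hu1, hv1, add_zero],
        by rw [map_add, hu2, hv2, TensorProduct.tmul_add, map_add]⟩
    | tmul b c =>
      obtain ⟨f, rfl⟩ := θ_surj a
      obtain ⟨g, rfl⟩ := θ_surj b
      refine ⟨c ⊗ₜ[k] ⟨(f : A ⊗[k] A) * (g : A ⊗[k] A), Ideal.mul_mem_left _ _ g.2⟩, ?_,
        hC₂ c f g _ rfl⟩
      rw [hΛ, θ_mul_eq_zero f.2 g.2, map_zero, mul_zero]

include hΛ hC₂ hsym in
theorem main (h6 : IsUnit (6 : k)) (τ : Ω[A⁄k] ⊗[A] (Ω[A⁄k] ⊗[A] Ω[A⁄k]))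
    (h1 : TensorProduct.leftComm A (Ω[A⁄k]) (Ω[A⁄k]) (Ω[A⁄k]) τ = τ)
    (h2 : LinearMap.lTensor (Ω[A⁄k]) (TensorProduct.comm A (Ω[A⁄k]) (Ω[A⁄k])).toLinearMap τ = τ) :
    ∃ u, Λ u = 0 ∧ C u = τ := by
  obtain ⟨u, hu1, hu2⟩ := exists_sym Λ hΛ sym C hC₂ τ
  obtain ⟨c, hc⟩ := h6
  refine ⟨(↑c⁻¹ : k) • u, by rw [map_smul, hu1, smul_zero], ?_⟩
  rw [map_smul, hu2, sym_eq sym hsym τ h1 h2, ← Nat.cast_smul_eq_nsmul k, smul_smul,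
    Nat.cast_ofNat, ← hc, Units.inv_mul, one_smul]

end K984.Part4
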