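import Groth.Agent.DiagIdeal.K984.Four
import Groth.Agent.DiagIdeal.K984.Part3

/-!
# The kernel of `E` on `T₁`, first reductions
-/

set_option autoImplicit false

namespace K984.PartA

open TensorProduct K984.Tri K984.Four K984.Op K984.Part2 K984.Part4 K984.Rels

variable {k : Type*} {A : Type*} [Field k] [CharZero k] [CommRing A] [Algebra k A]

omit [CharZero k] in
theorem T1_SE (F : A ⊗[k] (A ⊗[k] (A ⊗[k] A))) : T1 (SE k A F) :=
  ⟨sw_SE F, by rw [δ₀, comm_rQR_SE, sub_self]⟩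

omit [CharZero k] in
theorem E_three (a b c e : A) : E k A ((a * b) ⊗ₜ[k] (c ⊗ₜ[k] e)) +
    E k A ((a * c) ⊗ₜ[k] (b ⊗ₜ[k] e)) + E k A ((b * c) ⊗ₜ[k] (a ⊗ₜ[k] e)) = 0 := by
  rw [E_tmul, E_tmul, E_tmul, ← LinearMap.add_apply, ← LinearMap.add_apply, ← map_add, ← map_add]
  have : E2 k A ((a * b) ⊗ₜ[k] c) + E2 k A ((a * c) ⊗ₜ[k] b) + E2 k A ((b * c) ⊗ₜ[k] a) = 0 := by
    rw [E2_tmul, E2_tmul, E2_tmul, Derivation.leibniz, Derivation.leibniz, Derivation.leibniz,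
      two_smul, two_smul, two_smul]
    module
  rw [this, map_zero, LinearMap.zero_apply]

omit [CharZero k] in
theorem SE_tmul (a b c e : A) : SE k A (a ⊗ₜ[k] (b ⊗ₜ[k] (c ⊗ₜ[k] e))) =
    ((a * b) ⊗ₜ[k] (c ⊗ₜ[k] e) + (a * c) ⊗ₜ[k] (b ⊗ₜ[k] e) + (b * c) ⊗ₜ[k] (a ⊗ₜ[k] e)) +
    ((a * b) ⊗ₜ[k] (e ⊗ₜ[k] c) + (a * e) ⊗ₜ[k] (b ⊗ₜ[k] c) + (b * e) ⊗ₜ[k] (a ⊗ₜ[k] c)) +
    ((a * c) ⊗ₜ[k] (e ⊗ₜ[k] b) + (a * e) ⊗ₜ[k] (c ⊗ₜ[k] b) + (c * e) ⊗ₜ[k] (a ⊗ₜ[k] b)) +
    ((b * c) ⊗ₜ[k] (e ⊗ₜ[k] a) + (b * e) ⊗ₜ[k] (c ⊗ₜ[k] a) + (c * e) ⊗ₜ[k] (b ⊗ₜ[k] a)) := by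
  simp only [SE_apply, Ev_tmul]
  simp only [tmul_eq, map_mul]
  ring

omit [CharZero k] in
theorem E_SE (F : A ⊗[k] (A ⊗[k] (A ⊗[k] A))) : E k A (SE k A F) = 0 := by
  refine four_induction (P := fun F => E k A (SE k A F) = 0) (by simp) ?_ ?_ F
  · intro x y hx hy
    rw [map_add, map_add, hx, hy, add_zero]
  · intro a b c e
    rw [SE_tmul, map_add, map_add, map_add]
    simp only [map_add (E k A) (_ + _), map_add (E k A) (_ ⊗ₜ[k] _), E_three, add_zero]

variable (k A) in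
/-- The image of the invariants. -/
noncomputable def E4 : Submodule k (A ⊗[k] (A ⊗[k] A)) := LinearMap.range (SE k A)

omit [CharZero k] in
theorem SE_mem (F : A ⊗[k] (A ⊗[k] (A ⊗[k] A))) : SE k A F ∈ E4 k A := ⟨F, rfl⟩

omit [CharZero k] in
theorem E4_T1 {y : A ⊗[k] (A ⊗[k] A)} (hy : y ∈ E4 k A) : T1 y ∧ E k A y = 0 := by
  obtain ⟨F, rfl⟩ := hy
  exact ⟨T1_SE F, E_SE F⟩

theorem mem_of_smul {V : Type*} [AddCommGroup V] [Module k V] (E : Submodule k V) (n : ℕ) (hn : n ≠ 0)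
    {x : V} (h : (n : k) • x ∈ E) : x ∈ E := by
  have := E.smul_mem (n : k)⁻¹ h
  rwa [smul_smul, inv_mul_cancel₀ (Nat.cast_ne_zero.2 hn), one_smul] at this

omit [CharZero k] in
theorem rPQ_SE (a b c e : A) : rPQ k A (SE k A (a ⊗ₜ[k] (b ⊗ₜ[k] (c ⊗ₜ[k] e)))) =
    3 * ((a * b * c) ⊗ₜ[k] e + (a * b * e) ⊗ₜ[k] c + (a * c * e) ⊗ₜ[k] b + (b * c * e) ⊗ₜ[k] a) := by
  rw [SE_tmul]
  simp only [map_add, rPQ_tmul]
  rw [show a * c * b = a * b * c by ring, show b * c * a = a * b * c by ring,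
    show a * e * b = a * b * e by ring, show b * e * a = a * b * e by ring,
    show a * e * c = a * c * e by ring, show c * e * a = a * c * e by ring,
    show b * e * c = b * c * e by ring, show c * e * b = b * c * e by ring]
  ring

theorem Rel_mem (a b c e : A) :
    (a * b * c) ⊗ₜ[k] e + (a * b * e) ⊗ₜ[k] c + (a * c * e) ⊗ₜ[k] b + (b * c * e) ⊗ₜ[k] a ∈
      (E4 k A).map (rPQ k A).toLinearMap := by
  refine mem_of_smul _ 3 (by norm_num) ?_
  refine ⟨SE k A (a ⊗ₜ[k] (b ⊗ₜ[k] (c ⊗ₜ[k] e))), SE_mem _, ?_⟩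
  change rPQ k A _ = _
  rw [rPQ_SE, Nat.cast_ofNat]
  rw [show (3 : k) = 1 + 1 + 1 by norm_num, add_smul, add_smul, one_smul]
  ring

/-- `3 + swap`. -/
noncomputable def Φ (x : A ⊗[k] A) : A ⊗[k] A := 3 * x + TensorProduct.comm k A A x

theorem Φ_mem (x : A ⊗[k] A) (hx : θ k A x = 0) : Φ x ∈ (E4 k A).map (rPQ k A).toLinearMap := by
  have hadd : ∀ x y : A ⊗[k] A, Φ (x + y) = Φ x + Φ y := by
    intro x y
    rw [Φ, Φ, Φ, map_add]
    ring
  have h1 : ∀ a : A, Φ (a ⊗ₜ[k] (1 : A)) ∈ (E4 k A).map (rPQ k A).toLinearMap := by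
    intro a
    have := Rel_mem (k := k) a 1 1 1
    simp only [mul_one] at this
    convert this using 1
    rw [Φ, TensorProduct.comm_tmul]
    ring
  have h2 : ∀ x ∈ KaehlerDifferential.ideal k A ^ 2,
      Φ x ∈ (E4 k A).map (rPQ k A).toLinearMap := by
    refine Theta.sq_induction ?_ ?_ ?_
    · rw [Φ]; simp
    · intro x y hx hy
      rw [hadd]
      exact add_mem hx hy
    · intro a b c
      have e1 := Rel_mem (k := k) a (b * c) 1 1
      have e2 := Rel_mem (k := k) (a * b) c 1 1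
      have e3 := Rel_mem (k := k) (a * c) b 1 1
      have e4 := Rel_mem (k := k) a b c 1
      have e5 := Rel_mem (k := k) (a * b * c) 1 1 1
      have e6 := add_mem (sub_mem (sub_mem (sub_mem (Submodule.smul_mem _ (3 : k) e1) e2) e3)
        (Submodule.smul_mem _ (2 : k) e4)) e5
      convert e6 using 1
      simp only [mul_one, one_mul]
      rw [Φ]
      simp only [mul_sub, sub_mul, Algebra.TensorProduct.tmul_mul_tmul, mul_one, one_mul, map_sub,
        TensorProduct.comm_tmul]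
      rw [show (3 : k) = 1 + 1 + 1 by norm_num, show (2 : k) = 1 + 1 by norm_num, add_smul,
        add_smul, add_smul, one_smul, one_smul, show a * c * b = a * b * c by ring,
        show a * (b * c) = a * b * c by ring]
      ring
  have h3 := Theta.sub_mem_sq x hx
  have h4 := add_mem (h2 _ h3) (h1 (Algebra.TensorProduct.lmul' k x))
  rwa [← hadd, sub_add_cancel] at h4

theorem mem_map_of_θ (z : A ⊗[k] A) (hz : θ k A (3 * z - TensorProduct.comm k A A z) = 0) :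
    z ∈ (E4 k A).map (rPQ k A).toLinearMap := by
  have h := Φ_mem _ hz
  refine mem_of_smul _ 8 (by norm_num) ?_
  convert h using 1
  rw [Φ, map_sub]
  have h3 : TensorProduct.comm k A A (3 * z) = 3 * TensorProduct.comm k A A z := by
    rw [show (3 : A ⊗[k] A) * z = z + z + z by ring, map_add, map_add]
    ring
  have h4 : TensorProduct.comm k A A (TensorProduct.comm k A A z) = z := by
    have : (TensorProduct.comm k A A).symm (TensorProduct.comm k A A z) = z :=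
      LinearEquiv.symm_apply_apply _ _
    rwa [TensorProduct.comm_symm] at this
  rw [h3, h4, Nat.cast_smul_eq_nsmul, nsmul_eq_mul]
  push_cast
  ring

theorem θ_rPQ (y : A ⊗[k] (A ⊗[k] A)) (hy : T1 y) :
    θ k A (3 * rPQ k A y - TensorProduct.comm k A A (rPQ k A y)) = 0 := by
  have key : ∀ y : A ⊗[k] (A ⊗[k] A),
      θ k A (3 * rPQ k A (y + sw k A y) - TensorProduct.comm k A A (rPQ k A (y + sw k A y))) =
        (2 : k) • θ k A (rQR k A y - TensorProduct.comm k A A (rQR k A y)) := by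
    intro y
    refine tri_induction (P := fun y =>
      θ k A (3 * rPQ k A (y + sw k A y) - TensorProduct.comm k A A (rPQ k A (y + sw k A y))) =
        (2 : k) • θ k A (rQR k A y - TensorProduct.comm k A A (rQR k A y))) (by simp) ?_ ?_ y
    · intro x y hx hy
      rw [map_add (sw k A), add_add_add_comm, map_add (rPQ k A) (x + _), mul_add,
        map_add (TensorProduct.comm k A A) (rPQ k A (x + _)), add_sub_add_comm, map_add, hx, hy,
        map_add (rQR k A), map_add (TensorProduct.comm k A A), add_sub_add_comm, map_add, smul_add]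
    · intro a u w
      rw [← tmul_eq, sw_tmul, map_add, rPQ_tmul, rPQ_tmul, rQR_tmul,
        show (3 : A ⊗[k] A) * ((a * u) ⊗ₜ[k] w + (a * w) ⊗ₜ[k] u) =
          ((a * u) ⊗ₜ[k] w + (a * w) ⊗ₜ[k] u) + ((a * u) ⊗ₜ[k] w + (a * w) ⊗ₜ[k] u) +
          ((a * u) ⊗ₜ[k] w + (a * w) ⊗ₜ[k] u) by ring]
      simp only [map_add, map_sub, TensorProduct.comm_tmul, θ_tmul, Derivation.leibniz]
      rw [two_smul]
      module
  have h := key y
  have h2 := hy.2
  rw [δ₀] at h2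
  rw [hy.1, h2, map_zero, smul_zero, map_add (rPQ k A), mul_add, map_add (TensorProduct.comm k A A),
    add_sub_add_comm, map_add, ← two_smul k] at h
  exact (smul_eq_zero_iff_right (by norm_num : (2 : k) ≠ 0)).1 h

/-- First reduction: we may assume that the restriction to `P = Q` vanishes. -/
theorem step1 (y : A ⊗[k] (A ⊗[k] A)) (hy : T1 y) :
    ∃ y₁ ∈ E4 k A, rPQ k A (y - y₁) = 0 := by
  obtain ⟨y₁, hy₁, h⟩ := mem_map_of_θ _ (θ_rPQ y hy)
  refine ⟨y₁, hy₁, ?_⟩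
  have h' : rPQ k A y₁ = rPQ k A y := h
  rw [map_sub, h', sub_self]

end K984.PartA
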