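import Groth.Agent.DiagIdeal.K984.PartA

/-!
# The kernel of `E` on `T₁`, second reductions
-/

set_option autoImplicit false

namespace K984.PartB

open TensorProduct K984.Tri K984.Four K984.Op K984.Part2 K984.Part4 K984.Rels K984.PartA

variable {k : Type*} {A : Type*} [Field k] [CharZero k] [CommRing A] [Algebra k A]

omit [CharZero k] in
theorem jPQ_mem {x : A ⊗[k] A} (hx : x ∈ KaehlerDifferential.ideal k A) : jPQ k A x ∈ IPQ k A := by
  refine ind (P := fun x => jPQ k A x ∈ IPQ k A) (by simp)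
    (fun x y hx hy => by rw [map_add]; exact add_mem hx hy) ?_ x hx
  intro a b
  rw [map_mul]
  apply Ideal.mul_mem_left
  rw [del, map_sub, jPQ_tmul, jPQ_tmul, map_one, map_one, one_mul, mul_one]
  exact PQ_mem b

omit [CharZero k] in
theorem jPQ_mem_sq {x : A ⊗[k] A} (hx : x ∈ KaehlerDifferential.ideal k A ^ 2) :
    jPQ k A x ∈ IPQ k A ^ 2 := by
  rw [pow_two] at hx ⊢
  induction hx using Submodule.mul_induction_on' with
  | mem_mul_mem f hf g hg => rw [map_mul]; exact Ideal.mul_mem_mul (jPQ_mem hf) (jPQ_mem hg)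
  | add x _ y _ hx hy => rw [map_add]; exact add_mem hx hy

/-- `(θ ⊗ 1)`. -/
noncomputable def θ1 (k A : Type*) [Field k] [CommRing A] [Algebra k A] :
    A ⊗[k] (A ⊗[k] A) →ₗ[k] MM k A :=
  LinearMap.rTensor A (θ k A) ∘ₗ (TensorProduct.assoc k A A A).symm.toLinearMap

/-- `(d ⊗ 1)`. -/
noncomputable def d1 (k A : Type*) [Field k] [CommRing A] [Algebra k A] :
    A ⊗[k] A →ₗ[k] MM k A :=
  LinearMap.rTensor A (KaehlerDifferential.D k A).toLinearMap

omit [CharZero k] in
theorem θ1_tmul (a u w : A) :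
    θ1 k A (a ⊗ₜ[k] (u ⊗ₜ[k] w)) = tm k A (a • KaehlerDifferential.D k A u) w := by
  rw [← θ_tmul]
  rfl

omit [CharZero k] in
theorem d1_tmul (a w : A) : d1 k A (a ⊗ₜ[k] w) = tm k A (KaehlerDifferential.D k A a) w := rfl

omit [CharZero k] in
theorem E_eq (y : A ⊗[k] (A ⊗[k] A)) : E k A y = (3 : k) • θ1 k A y - d1 k A (rPQ k A y) := by
  refine tri_induction (P := fun y => E k A y = (3 : k) • θ1 k A y - d1 k A (rPQ k A y))
    (by simp) ?_ ?_ y
  · intro x y hx hy
    rw [map_add, hx, hy, map_add, map_add, map_add, smul_add]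
    abel
  · intro a u w
    rw [← tmul_eq, E_tmul, θ1_tmul, rPQ_tmul, d1_tmul, ← LinearMap.smul_apply, ← map_smul,
      ← LinearMap.sub_apply, ← map_sub]
    congr 2
    rw [E2_tmul, Derivation.leibniz, show (3 : k) = 2 + 1 by norm_num, add_smul, one_smul]
    abel

omit [CharZero k] in
theorem mem_IPQ_sq (y : A ⊗[k] (A ⊗[k] A)) (h1 : rPQ k A y = 0) (h2 : θ1 k A y = 0) :
    y ∈ IPQ k A ^ 2 := by
  set y' := (TensorProduct.assoc k A A A).symm y with hy'
  -- first step
  let m : A ⊗[k] A →ₗ[k] A := (Algebra.TensorProduct.lmul' k).toLinearMap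
  let i : ↥(KaehlerDifferential.ideal k A) →ₗ[k] A ⊗[k] A :=
    (KaehlerDifferential.ideal k A).subtype.restrictScalars k
  have hex1 : Function.Exact i m := by
    intro x
    constructor
    · intro hx
      exact ⟨⟨x, hx⟩, rfl⟩
    · rintro ⟨x, rfl⟩
      exact x.2
  have hm : Function.Surjective m := fun a => ⟨a ⊗ₜ[k] (1 : A), by
    change Algebra.TensorProduct.lmul' k (a ⊗ₜ[k] (1 : A)) = a
    simp⟩
  have hm1 : ∀ z : A ⊗[k] (A ⊗[k] A),
      LinearMap.rTensor A m ((TensorProduct.assoc k A A A).symm z) = rPQ k A z := by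
    intro z
    refine tri_induction (P := fun z =>
      LinearMap.rTensor A m ((TensorProduct.assoc k A A A).symm z) = rPQ k A z) (by simp) ?_ ?_ z
    · intro x y hx hy
      rw [map_add, map_add, hx, hy, map_add]
    · intro a u w
      rw [← tmul_eq, rPQ_tmul, TensorProduct.assoc_symm_tmul, LinearMap.rTensor_tmul]
      rfl
  have hy1 : LinearMap.rTensor A m y' = 0 := by rw [hy', hm1, h1]
  obtain ⟨x, hx⟩ := ((rTensor_exact A hex1 hm) y').1 hy1
  -- second step
  let j : ↥(LinearMap.ker (Part3.θI k A)) →ₗ[k] ↥(KaehlerDifferential.ideal k A) :=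
    (LinearMap.ker (Part3.θI k A)).subtype
  have hex2 : Function.Exact j (Part3.θI k A) := by
    intro x
    constructor
    · intro hx
      exact ⟨⟨x, hx⟩, rfl⟩
    · rintro ⟨x, rfl⟩
      exact x.2
  have hθs : Function.Surjective (Part3.θI k A) := fun w => by
    obtain ⟨f, hf⟩ := θ_surj w
    exact ⟨f, hf⟩
  have hx2 : LinearMap.rTensor A (Part3.θI k A) x = 0 := by
    have : LinearMap.rTensor A (Part3.θI k A) x = LinearMap.rTensor A (θ k A) y' := by
      rw [← hx, ← LinearMap.comp_apply, ← LinearMap.rTensor_comp]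
      rfl
    rw [this]
    exact h2
  obtain ⟨z, hz⟩ := ((rTensor_exact (M := ↥(LinearMap.ker (Part3.θI k A)))
    (N := ↥(KaehlerDifferential.ideal k A)) (P := Ω[A⁄k]) A hex2 hθs) x).1 hx2
  have hfin : ∀ z, (TensorProduct.assoc k A A A) (LinearMap.rTensor A i (LinearMap.rTensor A j z)) ∈
      IPQ k A ^ 2 := by
    intro z
    induction z using TensorProduct.induction_on with
    | zero => simp
    | add x y hx hy => rw [map_add, map_add, map_add]; exact add_mem hx hy
    | tmul f w =>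
      rw [LinearMap.rTensor_tmul, LinearMap.rTensor_tmul]
      have hf : i (j f) ∈ KaehlerDifferential.ideal k A ^ 2 :=
        Theta.mem_sq_of_mem _ (f : ↥(KaehlerDifferential.ideal k A)).2 f.2
      have hj : ∀ g : A ⊗[k] A, TensorProduct.assoc k A A A (g ⊗ₜ[k] w) =
          jPQ k A g * s k w := by
        intro g
        induction g using TensorProduct.induction_on with
        | zero => simp
        | add x y hx hy => rw [TensorProduct.add_tmul, map_add, hx, hy, map_add, add_mul]
        | tmul a u => rw [TensorProduct.assoc_tmul, jPQ_tmul, tmul_eq]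
      rw [hj]
      exact Ideal.mul_mem_right _ _ (jPQ_mem_sq hf)
  have := hfin z
  rw [hz, hx, hy', LinearEquiv.apply_symm_apply] at this
  exact this

theorem mem_IPQ_sq' (y : A ⊗[k] (A ⊗[k] A)) (h1 : rPQ k A y = 0) (h2 : E k A y = 0) :
    y ∈ IPQ k A ^ 2 := by
  refine mem_IPQ_sq y h1 ?_
  have := E_eq y
  rw [h1, h2, map_zero, sub_zero, eq_comm] at this
  exact (smul_eq_zero_iff_right (by norm_num : (3 : k) ≠ 0)).1 this

omit [CharZero k] in
theorem mem_IPR_sq (y : A ⊗[k] (A ⊗[k] A)) (h : y ∈ IPQ k A ^ 2) (hs : sw k A y = y) :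
    y ∈ IPR k A ^ 2 := by
  have h1 := Ideal.mem_map_of_mem (sw k A).toRingHom h
  rw [Ideal.map_pow] at h1
  have h2 := Ideal.pow_right_mono (map_sw_IPQ (k := k) (A := A)) 2 h1
  have h3 : (sw k A).toRingHom y = y := hs
  rwa [h3] at h2

/-- Induction on the fourth power of the diagonal ideal. -/
theorem four_pow_induction {P : A ⊗[k] A → Prop} (h0 : P 0)
    (hadd : ∀ x y, P x → P y → P (x + y))
    (h : ∀ a b c e f : A, P ((a ⊗ₜ[k] (1 : A)) * del k b * del k c * del k e * del k f)) :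
    ∀ x ∈ (KaehlerDifferential.ideal k A) ^ 4, P x := by
  intro x hx
  rw [show (4 : ℕ) = 2 + 2 from rfl, pow_add] at hx
  induction hx using Submodule.mul_induction_on' with
  | mem_mul_mem f hf g hg =>
    refine Theta.sq_induction (p := fun f => P (f * g)) (by simpa using h0)
      (fun x y hx hy => by rw [add_mul]; exact hadd _ _ hx hy) ?_ f hf
    intro a b c
    refine Theta.sq_induction (p := fun g => P (_ * g)) (by simpa using h0)
      (fun x y hx hy => by rw [mul_add]; exact hadd _ _ hx hy) ?_ g hg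
    intro a' b' c'
    have := h (a * a') b c b' c'
    convert this using 1
    rw [show (a * a') ⊗ₜ[k] (1 : A) = (a ⊗ₜ[k] (1 : A)) * (a' ⊗ₜ[k] (1 : A)) by simp]
    simp only [del]
    ring
  | add x _ y _ hx hy => exact hadd _ _ hx hy

theorem PQPR_mem (x : A ⊗[k] (A ⊗[k] A)) (b c e f : A) :
    x * ((q k b - p k b) * (q k c - p k c)) * ((s k e - p k e) * (s k f - p k f)) ∈
      IPQ k A ^ 2 * IPR k A ^ 2 := by
  refine Ideal.mul_mem_mul ?_ ?_
  · rw [pow_two]
    exact Ideal.mul_mem_left _ _ (Ideal.mul_mem_mul (PQ_mem _) (PQ_mem _))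
  · rw [pow_two]
    exact Ideal.mul_mem_mul (PR_mem _) (PR_mem _)

theorem step2 (g : A ⊗[k] A) (hg : g ∈ KaehlerDifferential.ideal k A ^ 4) :
    ∃ F, SE k A F ∈ IPQ k A ^ 2 * IPR k A ^ 2 ∧
      rQR k A (SE k A F) = 2 * (g + TensorProduct.comm k A A g) := by
  refine four_pow_induction (P := fun g => ∃ F, SE k A F ∈ IPQ k A ^ 2 * IPR k A ^ 2 ∧
      rQR k A (SE k A F) = 2 * (g + TensorProduct.comm k A A g)) ?_ ?_ ?_ g hg
  · exact ⟨0, by simp, by simp⟩
  · rintro x y ⟨F, hF, hF'⟩ ⟨G, hG, hG'⟩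
    refine ⟨F + G, by rw [map_add]; exact add_mem hF hG, ?_⟩
    rw [map_add, map_add, hF', hG', map_add]
    ring
  · intro a e g f h
    have key : SE k A (c1 k a * (c3 k e - c1 k e) * (c4 k f - c1 k f) * (c3 k g - c2 k g) *
        (c4 k h - c2 k h)) =
        p k a * ((q k e - p k e) * (q k g - p k g)) * ((s k f - p k f) * (s k h - p k h)) +
        p k a * ((q k f - p k f) * (q k h - p k h)) * ((s k e - p k e) * (s k g - p k g)) +
        q k a * ((q k e - p k e) * (q k f - p k f)) * ((s k g - p k g) * (s k h - p k h)) +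
        s k a * ((q k g - p k g) * (q k h - p k h)) * ((s k e - p k e) * (s k f - p k f)) := by
      rw [SE_apply]
      simp only [map_mul, map_sub, Ev_c1, Ev_c2, Ev_c3, Ev_c4, sub_self, mul_zero, zero_mul,
        add_zero, zero_add]
      ring
    refine ⟨c1 k a * (c3 k e - c1 k e) * (c4 k f - c1 k f) * (c3 k g - c2 k g) *
        (c4 k h - c2 k h), ?_, ?_⟩
    · rw [key]
      exact add_mem (add_mem (add_mem (PQPR_mem _ _ _ _ _) (PQPR_mem _ _ _ _ _))
        (PQPR_mem _ _ _ _ _)) (PQPR_mem _ _ _ _ _)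
    · rw [key, Four.comm_eq_algHom]
      simp only [map_add, map_mul, map_sub, rQR_p, rQR_q, rQR_s, del,
        Algebra.TensorProduct.comm_tmul]
      ring

end K984.PartB
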