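import Groth.Agent.DiagIdeal.K984.PartB

/-!
# The kernel of `E` on `T₁`, last step
-/

set_option autoImplicit false

namespace K984.PartC

open TensorProduct K984.Tri K984.Four K984.Op K984.Part2 K984.Part4 K984.Rels K984.PartA K984.PartB

open scoped Pointwise

variable {k : Type*} {A : Type*} [Field k] [CharZero k] [CommRing A] [Algebra k A]

/-- Elements whose symmetrization comes from an invariant. -/
def Good (G : A ⊗[k] (A ⊗[k] A)) : Prop := G + sw k A G ∈ E4 k A

omit [CharZero k] in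
theorem Good.add {x y : A ⊗[k] (A ⊗[k] A)} (hx : Good x) (hy : Good y) : Good (x + y) := by
  rw [Good, map_add, add_add_add_comm]
  exact add_mem hx hy

omit [CharZero k] in
theorem Good.zero : Good (0 : A ⊗[k] (A ⊗[k] A)) := by
  rw [Good, map_zero, add_zero]
  exact zero_mem _

omit [CharZero k] in
theorem Good.sub {x y : A ⊗[k] (A ⊗[k] A)} (hx : Good x) (hy : Good y) : Good (x - y) := by
  rw [Good, map_sub]
  have : x - y + (sw k A x - sw k A y) = (x + sw k A x) - (y + sw k A y) := by abel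
  rw [this]
  exact sub_mem hx hy

omit [CharZero k] in
theorem good1 (a1 a2 a3 b b' c c' d : A) :
    Good (p k a1 * q k a2 * s k a3 * (((q k b - p k b) * (q k b' - p k b')) *
      ((s k c - p k c) * (s k c' - p k c')) * (q k d - s k d))) := by
  rw [Good]
  refine ⟨c1 k a1 * c3 k a2 * c4 k a3 * ((c3 k b - c1 k b) * (c3 k b' - c2 k b')) *
    ((c4 k c - c1 k c) * (c4 k c' - c2 k c')) * (c3 k d - c4 k d), ?_⟩
  rw [SE_apply]
  simp only [map_mul, map_sub, Ev_c1, Ev_c2, Ev_c3, Ev_c4, sub_self, mul_zero, zero_mul,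
    add_zero, zero_add, sw_p, sw_q, sw_s]
  ring

omit [CharZero k] in
theorem good_of_mul {G : A ⊗[k] (A ⊗[k] A)} (h : ∀ a1 a2 a3 : A, Good (p k a1 * q k a2 * s k a3 * G))
    (x : A ⊗[k] (A ⊗[k] A)) : Good (x * G) := by
  refine tri_induction (P := fun x => Good (x * G)) (by rw [zero_mul]; exact Good.zero)
    (fun x y hx hy => by rw [add_mul]; exact hx.add hy) h x

omit [CharZero k] in
/-- The first type. -/
theorem good_J (G : A ⊗[k] (A ⊗[k] A)) (hG : G ∈ IPQ k A ^ 2 * IPR k A ^ 2 * IQR k A) : Good G := by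
  rw [IPQ, IPR, IQR, pow_two, pow_two, Ideal.span_mul_span', Ideal.span_mul_span',
    Ideal.span_mul_span', Ideal.span_mul_span'] at hG
  have key : ∀ x, Good (x * G) := by
    induction hG using Submodule.span_induction with
    | mem G hG =>
      obtain ⟨_, ⟨_, ⟨_, ⟨b, rfl⟩, _, ⟨b', rfl⟩, rfl⟩, _, ⟨_, ⟨c, rfl⟩, _, ⟨c', rfl⟩, rfl⟩, rfl⟩,
        _, ⟨d, rfl⟩, rfl⟩ := hG
      intro x
      exact good_of_mul (fun a1 a2 a3 => good1 a1 a2 a3 b b' c c' d) x
    | zero => intro x; rw [mul_zero]; exact Good.zero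
    | add y z _ _ hy hz => intro x; rw [mul_add]; exact (hy x).add (hz x)
    | smul c y _ hy => intro x; rw [smul_eq_mul, ← mul_assoc]; exact hy _
  have := key 1
  rwa [one_mul] at this

/-- The determinant. -/
noncomputable def Dt (k : Type*) {A : Type*} [Field k] [CommRing A] [Algebra k A] (e f : A) :
    A ⊗[k] (A ⊗[k] A) :=
  (q k e - p k e) * (s k f - p k f) - (q k f - p k f) * (s k e - p k e)

omit [CharZero k] in
theorem PQ_mul_mem (x b c e f : A) :
    (q k x - p k x) * ((q k b - p k b) * (s k c - p k c) * Dt k e f) ∈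
      IPQ k A ^ 2 * IPR k A ^ 2 * IQR k A := by
  have h : (q k x - p k x) * ((q k b - p k b) * (s k c - p k c) * Dt k e f) =
      ((q k x - p k x) * (q k b - p k b)) * ((s k c - p k c) * (s k f - p k f)) * (q k e - s k e) -
      ((q k x - p k x) * (q k b - p k b)) * ((s k c - p k c) * (s k e - p k e)) *
        (q k f - s k f) := by
    rw [Dt]; ring
  rw [h]
  refine sub_mem (Ideal.mul_mem_mul (Ideal.mul_mem_mul ?_ ?_) (QR_mem _))
    (Ideal.mul_mem_mul (Ideal.mul_mem_mul ?_ ?_) (QR_mem _)) <;> rw [pow_two]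
  · exact Ideal.mul_mem_mul (PQ_mem _) (PQ_mem _)
  · exact Ideal.mul_mem_mul (PR_mem _) (PR_mem _)
  · exact Ideal.mul_mem_mul (PQ_mem _) (PQ_mem _)
  · exact Ideal.mul_mem_mul (PR_mem _) (PR_mem _)

omit [CharZero k] in
theorem PR_mul_mem (x b c e f : A) :
    (s k x - p k x) * ((q k b - p k b) * (s k c - p k c) * Dt k e f) ∈
      IPQ k A ^ 2 * IPR k A ^ 2 * IQR k A := by
  have h : (s k x - p k x) * ((q k b - p k b) * (s k c - p k c) * Dt k e f) =
      ((q k b - p k b) * (q k f - p k f)) * ((s k x - p k x) * (s k c - p k c)) * (q k e - s k e) -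
      ((q k b - p k b) * (q k e - p k e)) * ((s k x - p k x) * (s k c - p k c)) *
        (q k f - s k f) := by
    rw [Dt]; ring
  rw [h]
  refine sub_mem (Ideal.mul_mem_mul (Ideal.mul_mem_mul ?_ ?_) (QR_mem _))
    (Ideal.mul_mem_mul (Ideal.mul_mem_mul ?_ ?_) (QR_mem _)) <;> rw [pow_two]
  · exact Ideal.mul_mem_mul (PQ_mem _) (PQ_mem _)
  · exact Ideal.mul_mem_mul (PR_mem _) (PR_mem _)
  · exact Ideal.mul_mem_mul (PQ_mem _) (PQ_mem _)
  · exact Ideal.mul_mem_mul (PR_mem _) (PR_mem _)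

theorem good2 (a b c e f : A) :
    Good (p k a * ((q k b - p k b) * (s k c - p k c) * Dt k e f)) := by
  have h : p k a * ((q k b - p k b) * (s k c - p k c) * Dt k e f) +
      sw k A (p k a * ((q k b - p k b) * (s k c - p k c) * Dt k e f)) =
      p k a * Dt k b c * Dt k e f := by
    simp only [Dt, map_mul, map_sub, sw_p, sw_q, sw_s]
    ring
  rw [Good, h]
  refine mem_of_smul _ 6 (by norm_num) ?_
  refine ⟨c2 k a * ((c3 k b - c1 k b) * (c4 k c - c1 k c) - (c3 k c - c1 k c) * (c4 k b - c1 k b)) *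
    ((c3 k e - c1 k e) * (c4 k f - c1 k f) - (c3 k f - c1 k f) * (c4 k e - c1 k e)), ?_⟩
  rw [SE_apply, Nat.cast_smul_eq_nsmul, nsmul_eq_mul]
  simp only [map_mul, map_sub, Ev_c1, Ev_c2, Ev_c3, Ev_c4, Dt]
  push_cast
  ring

/-- The second type. -/
theorem good_exch (G : A ⊗[k] (A ⊗[k] A)) (hG : G ∈ exch k A) : Good G := by
  rw [exch] at hG
  have key : ∀ x, Good (x * G) := by
    induction hG using Submodule.span_induction with
    | mem G hG =>
      obtain ⟨⟨⟨b, c⟩, ⟨e, f⟩⟩, rfl⟩ := hG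
      intro x
      change Good (x * ((q k b - p k b) * (s k c - p k c) * Dt k e f))
      refine good_of_mul (fun a u w => ?_) x
      set X := (q k b - p k b) * (s k c - p k c) * Dt k e f with hX
      have h : p k a * q k u * s k w * X = p k (a * u * w) * X +
          (p k a * q k u * ((s k w - p k w) * X) + p k a * p k w * ((q k u - p k u) * X)) := by
        rw [map_mul, map_mul]; ring
      rw [h]
      refine (good2 _ _ _ _ _).add (good_J _ (add_mem (Ideal.mul_mem_left _ _ ?_)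
        (Ideal.mul_mem_left _ _ ?_)))
      · exact PR_mul_mem _ _ _ _ _
      · exact PQ_mul_mem _ _ _ _ _
    | zero => intro x; rw [mul_zero]; exact Good.zero
    | add y z _ _ hy hz => intro x; rw [mul_add]; exact (hy x).add (hz x)
    | smul c y _ hy => intro x; rw [smul_eq_mul, ← mul_assoc]; exact hy _
  have := key 1
  rwa [one_mul] at this

theorem good_sup (G : A ⊗[k] (A ⊗[k] A))
    (hG : G ∈ IPQ k A ^ 2 * IPR k A ^ 2 * IQR k A ⊔ exch k A) : Good G := by
  obtain ⟨x, hx, y, hy, rfl⟩ := Submodule.mem_sup.1 hG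
  exact (good_J x hx).add (good_exch y hy)

omit [CharZero k] in
theorem map_rQR_PQ : (IPQ k A).map (rQR k A).toRingHom ≤ KaehlerDifferential.ideal k A := by
  rw [IPQ, Ideal.map_span, Ideal.span_le]
  rintro _ ⟨_, ⟨a, rfl⟩, rfl⟩
  change rQR k A (q k a - p k a) ∈ _
  rw [map_sub, rQR_q, rQR_p]
  exact del_mem a

omit [CharZero k] in
theorem map_rQR_PR : (IPR k A).map (rQR k A).toRingHom ≤ KaehlerDifferential.ideal k A := by
  rw [IPR, Ideal.map_span, Ideal.span_le]
  rintro _ ⟨_, ⟨a, rfl⟩, rfl⟩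
  change rQR k A (s k a - p k a) ∈ _
  rw [map_sub, rQR_s, rQR_p]
  exact del_mem a

omit [CharZero k] in
theorem rQR_mem (y : A ⊗[k] (A ⊗[k] A)) (hy : y ∈ IPQ k A ^ 2 * IPR k A ^ 2) :
    rQR k A y ∈ KaehlerDifferential.ideal k A ^ 4 := by
  have h := Ideal.mem_map_of_mem (rQR k A).toRingHom hy
  rw [Ideal.map_mul, Ideal.map_pow, Ideal.map_pow] at h
  rw [show 4 = 2 + 2 from rfl, pow_add]
  exact Ideal.mul_mono (Ideal.pow_right_mono (map_rQR_PQ (k := k) (A := A)) 2)
    (Ideal.pow_right_mono (map_rQR_PR (k := k) (A := A)) 2) h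

omit [CharZero k] in
theorem sub_T1 {x y : A ⊗[k] (A ⊗[k] A)} (hx : T1 x) (hy : T1 y) : T1 (x - y) :=
  (T1s k A).sub_mem hx hy

variable [Algebra.Smooth k A] [IsDomain A]

/-- The elements of `T₁` killed by `E` come from invariants. -/
theorem main (y : A ⊗[k] (A ⊗[k] A)) (hy : T1 y) (hE : E k A y = 0) : y ∈ E4 k A := by
  obtain ⟨y₁, hy₁, h1⟩ := step1 y hy
  have hT := sub_T1 hy (E4_T1 hy₁).1
  have hE' : E k A (y - y₁) = 0 := by rw [map_sub, hE, (E4_T1 hy₁).2, sub_zero]
  set z := y - y₁ with hz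
  have h2 := mem_IPQ_sq' z h1 hE'
  have h3 := mem_IPR_sq z h2 hT.1
  have h4 := Tri.mem_mul_of_mem_sq z h2 h3
  obtain ⟨F, hF, hF'⟩ := step2 _ (rQR_mem z h4)
  have h5 : TensorProduct.comm k A A (rQR k A z) = rQR k A z := by
    have := hT.2
    rw [δ₀, sub_eq_zero] at this
    exact this.symm
  rw [h5] at hF'
  have h6 : rQR k A ((4 : k) • z - SE k A F) = 0 := by
    rw [map_sub, hF', map_smul, show (4 : k) = 1 + 1 + 1 + 1 by norm_num, add_smul, add_smul,
      add_smul, one_smul]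
    ring
  have h7 : (4 : k) • z - SE k A F ∈ IPQ k A ^ 2 * IPR k A ^ 2 := by
    refine sub_mem ?_ hF
    rw [← algebraMap_smul (A ⊗[k] (A ⊗[k] A)), smul_eq_mul]
    exact Ideal.mul_mem_left _ _ h4
  have h8 := good_sup _ (Tri.mem_exch _ h7 (mem_IQR_of_rQR _ h6))
  have hT2 : T1 ((4 : k) • z - SE k A F) :=
    sub_T1 ((T1s k A).smul_mem _ hT) (T1_SE F)
  rw [Good, hT2.1, ← two_smul k] at h8
  have h9 := mem_of_smul (E4 k A) 2 (by norm_num) (x := (4 : k) • z - SE k A F)
    (by rw [Nat.cast_ofNat]; exact h8)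
  have h10 := add_mem h9 (SE_mem F)
  rw [sub_add_cancel] at h10
  have h11 := mem_of_smul (E4 k A) 4 (by norm_num) (x := z)
    (by rw [Nat.cast_ofNat]; exact h10)
  have h12 := add_mem h11 hy₁
  rwa [hz, sub_add_cancel] at h12

end K984.PartC
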