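import Groth.Agent.DiagIdeal.K984.Exch
import Groth.Agent.DiagIdeal.K984.PolyDiag

/-!
# Exchange relations for three points of affine space
-/

set_option autoImplicit false

namespace K984.PolyExch

open MvPolynomial LinIdeal PolyDiag

variable {k : Type*} [Field k] {d : ℕ}

theorem lin_emb {n : ℕ} (i : Fin n) (c : Fin d → k) :
    lin (emb k i c) = ∑ l, c l • (X (i, l) : MvPolynomial (Fin n × Fin d) k) := by
  rw [lin_apply, Fintype.sum_prod_type, Finset.sum_eq_single i]
  · simp [emb_apply]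
  · intro m _ hm
    simp [emb_apply, hm]
  · simp

theorem emb_single {n : ℕ} (i : Fin n) (l : Fin d) :
    emb k i (Pi.single l 1) = Pi.single (i, l) (1 : k) := by
  ext ⟨m, l'⟩
  simp only [emb_apply, Pi.single_apply, Prod.mk.injEq]
  by_cases h1 : m = i <;> by_cases h2 : l' = l <;> simp [h1, h2]

theorem ideal_V_eq {n : ℕ} (i j : Fin n) : ideal (V k i j) =
    Ideal.span (Set.range fun l : Fin d =>
      (X (i, l) - X (j, l) : MvPolynomial (Fin n × Fin d) k)) := by
  apply le_antisymm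
  · rw [ideal_le_iff]
    rintro _ ⟨c, rfl⟩
    have : lin ((emb k i - emb k j : (Fin d → k) →ₗ[k] _) c) =
        ∑ l, c l • (X (i, l) - X (j, l) : MvPolynomial (Fin n × Fin d) k) := by
      rw [LinearMap.sub_apply, map_sub, lin_emb, lin_emb]
      simp only [smul_sub, Finset.sum_sub_distrib]
    rw [this]
    refine sum_mem fun l _ => ?_
    rw [smul_eq_C_mul]
    exact Ideal.mul_mem_left _ _ (Ideal.subset_span ⟨l, rfl⟩)
  · rw [Ideal.span_le]
    rintro _ ⟨l, rfl⟩
    have : (X (i, l) - X (j, l) : MvPolynomial (Fin n × Fin d) k) =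
        lin (emb k i (Pi.single l 1) - emb k j (Pi.single l 1)) := by
      rw [map_sub, emb_single, emb_single, lin_single, lin_single]
    change (X (i, l) - X (j, l) : MvPolynomial (Fin n × Fin d) k) ∈ _
    rw [this]
    exact lin_mem (mem_V _)

variable (k) in
/-- The difference of the coordinates of the points `1` and `0`. -/
noncomputable def uu (l : Fin d) : MvPolynomial (Fin 3 × Fin d) k := X (1, l) - X (0, l)

variable (k) in
/-- The difference of the coordinates of the points `2` and `0`. -/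
noncomputable def vv (l : Fin d) : MvPolynomial (Fin 3 × Fin d) k := X (2, l) - X (0, l)

variable (k d) in
/-- The exchange ideal. -/
noncomputable def exchIdeal : Ideal (MvPolynomial (Fin 3 × Fin d) k) :=
  Ideal.span (Set.range fun t : (Fin d × Fin d) × (Fin d × Fin d) =>
    uu k t.1.1 * vv k t.1.2 * (uu k t.2.1 * vv k t.2.2 - uu k t.2.2 * vv k t.2.1))

/-- The image of the variables in the polynomial ring `k[x][u, v]`. -/
noncomputable def val (p : Fin 3 × Fin d) :
    MvPolynomial (Fin d ⊕ Fin d) (MvPolynomial (Fin d) k) :=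
  if p.1 = 0 then C (X p.2) else
  if p.1 = 1 then Exch.u (MvPolynomial (Fin d) k) p.2 + C (X p.2) else Exch.v (MvPolynomial (Fin d) k) p.2 + C (X p.2)

variable (k d) in
/-- The change of coordinates. -/
noncomputable def chg : MvPolynomial (Fin 3 × Fin d) k →ₐ[k]
    MvPolynomial (Fin d ⊕ Fin d) (MvPolynomial (Fin d) k) := aeval val

theorem chg_zero (l : Fin d) : chg k d (X (0, l)) = C (X l) := by simp [chg, val]

theorem chg_one (l : Fin d) : chg k d (X (1, l)) = Exch.u (MvPolynomial (Fin d) k) l + C (X l) := by simp [chg, val]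

theorem chg_two (l : Fin d) : chg k d (X (2, l)) = Exch.v (MvPolynomial (Fin d) k) l + C (X l) := by simp [chg, val]

variable (k d) in
/-- The inverse change of coordinates. -/
noncomputable def bak : MvPolynomial (Fin d ⊕ Fin d) (MvPolynomial (Fin d) k) →+*
    MvPolynomial (Fin 3 × Fin d) k :=
  eval₂Hom (aeval (R := k) fun l : Fin d => (X (0, l) : MvPolynomial (Fin 3 × Fin d) k)).toRingHom
    (Sum.elim (uu k) (vv k))

theorem bak_u (l : Fin d) : bak k d (Exch.u (MvPolynomial (Fin d) k) l) = uu k l := by simp [bak, Exch.u]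

theorem bak_v (l : Fin d) : bak k d (Exch.v (MvPolynomial (Fin d) k) l) = vv k l := by simp [bak, Exch.v]

theorem bak_C (l : Fin d) : bak k d (C (X l)) = X (0, l) := by simp [bak]

theorem bak_chg (f : MvPolynomial (Fin 3 × Fin d) k) : bak k d (chg k d f) = f := by
  have : (bak k d).comp (chg k d).toRingHom = RingHom.id _ := by
    apply MvPolynomial.ringHom_ext
    · intro r
      have e : chg k d (C r) = C (C r) := by
        have := (chg k d).commutes r
        exact this
      change bak k d (chg k d (C r)) = _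
      rw [e]
      simp [bak]
    · rintro ⟨i, l⟩
      change bak k d (chg k d (X (i, l))) = X (i, l)
      fin_cases i
      · change bak k d (chg k d (X (0, l))) = X (0, l)
        rw [chg_zero, bak_C]
      · change bak k d (chg k d (X (1, l))) = X (1, l)
        rw [chg_one, map_add, bak_C, bak_u, uu]
        ring
      · change bak k d (chg k d (X (2, l))) = X (2, l)
        rw [chg_two, map_add, bak_C, bak_v, vv]
        ring
  exact RingHom.congr_fun this f

theorem map_chg_01 : (ideal (V k 0 1 : Submodule k (Fin 3 × Fin d → k))).map (chg k d).toRingHom ≤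
    Exch.IU (MvPolynomial (Fin d) k) (Fin d) := by
  rw [ideal_V_eq, Ideal.map_span, Ideal.span_le]
  rintro _ ⟨_, ⟨l, rfl⟩, rfl⟩
  change chg k d (X (0, l) - X (1, l)) ∈ _
  rw [map_sub, chg_zero, chg_one, sub_add_cancel_right]
  exact neg_mem (Ideal.subset_span ⟨l, rfl⟩)

theorem map_chg_02 : (ideal (V k 0 2 : Submodule k (Fin 3 × Fin d → k))).map (chg k d).toRingHom ≤
    Exch.IV (MvPolynomial (Fin d) k) (Fin d) := by
  rw [ideal_V_eq, Ideal.map_span, Ideal.span_le]
  rintro _ ⟨_, ⟨l, rfl⟩, rfl⟩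
  change chg k d (X (0, l) - X (2, l)) ∈ _
  rw [map_sub, chg_zero, chg_two, sub_add_cancel_right]
  exact neg_mem (Ideal.subset_span ⟨l, rfl⟩)

theorem map_chg_12 : (ideal (V k 1 2 : Submodule k (Fin 3 × Fin d → k))).map (chg k d).toRingHom ≤
    Exch.IW (MvPolynomial (Fin d) k) (Fin d) := by
  rw [ideal_V_eq, Ideal.map_span, Ideal.span_le]
  rintro _ ⟨_, ⟨l, rfl⟩, rfl⟩
  change chg k d (X (1, l) - X (2, l)) ∈ _
  rw [map_sub, chg_one, chg_two, add_sub_add_right_eq_sub]
  exact Ideal.subset_span ⟨l, rfl⟩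

theorem map_bak_IU : (Exch.IU (MvPolynomial (Fin d) k) (Fin d)).map (bak k d) ≤
    ideal (V k 0 1 : Submodule k (Fin 3 × Fin d → k)) := by
  rw [Exch.IU, Ideal.map_span, Ideal.span_le]
  rintro _ ⟨_, ⟨l, rfl⟩, rfl⟩
  rw [bak_u, SetLike.mem_coe, V_symm, ideal_V_eq]
  exact Ideal.subset_span ⟨l, rfl⟩

theorem map_bak_IV : (Exch.IV (MvPolynomial (Fin d) k) (Fin d)).map (bak k d) ≤
    ideal (V k 0 2 : Submodule k (Fin 3 × Fin d → k)) := by
  rw [Exch.IV, Ideal.map_span, Ideal.span_le]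
  rintro _ ⟨_, ⟨l, rfl⟩, rfl⟩
  rw [bak_v, SetLike.mem_coe, V_symm, ideal_V_eq]
  exact Ideal.subset_span ⟨l, rfl⟩

theorem map_bak_IW : (Exch.IW (MvPolynomial (Fin d) k) (Fin d)).map (bak k d) ≤
    ideal (V k 1 2 : Submodule k (Fin 3 × Fin d → k)) := by
  rw [Exch.IW, Ideal.map_span, Ideal.span_le]
  rintro _ ⟨_, ⟨l, rfl⟩, rfl⟩
  rw [map_sub, bak_u, bak_v, SetLike.mem_coe, ideal_V_eq]
  exact Ideal.subset_span ⟨l, by simp [uu, vv]⟩

theorem map_bak_EE : (Exch.EE (MvPolynomial (Fin d) k) (Fin d)).map (bak k d) ≤ exchIdeal k d := by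
  rw [Exch.EE, Ideal.map_span, Ideal.span_le]
  rintro _ ⟨_, ⟨t, rfl⟩, rfl⟩
  simp only [map_mul, map_sub, bak_u, bak_v]
  exact Ideal.subset_span ⟨t, rfl⟩

/-- An element of `I₀₁² I₀₂² ∩ I₁₂` is in `I₀₁² I₀₂² I₁₂` plus the exchange ideal. -/
theorem mem_sup (f : MvPolynomial (Fin 3 × Fin d) k)
    (h1 : f ∈ ideal (V k 0 1 : Submodule k (Fin 3 × Fin d → k)) ^ 2 *
      ideal (V k 0 2 : Submodule k (Fin 3 × Fin d → k)) ^ 2)
    (h2 : f ∈ ideal (V k 1 2 : Submodule k (Fin 3 × Fin d → k))) :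
    f ∈ ideal (V k 0 1 : Submodule k (Fin 3 × Fin d → k)) ^ 2 *
      ideal (V k 0 2 : Submodule k (Fin 3 × Fin d → k)) ^ 2 *
      ideal (V k 1 2 : Submodule k (Fin 3 × Fin d → k)) ⊔ exchIdeal k d := by
  have h3 : chg k d f ∈ Exch.IU (MvPolynomial (Fin d) k) (Fin d) ^ 2 * Exch.IV (MvPolynomial (Fin d) k) (Fin d) ^ 2 := by
    have := Ideal.mem_map_of_mem (chg k d).toRingHom h1
    rw [Ideal.map_mul, Ideal.map_pow, Ideal.map_pow] at this
    exact Ideal.mul_mono (Ideal.pow_right_mono map_chg_01 2) (Ideal.pow_right_mono map_chg_02 2) this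
  have h4 : chg k d f ∈ Exch.IW (MvPolynomial (Fin d) k) (Fin d) :=
    map_chg_12 (Ideal.mem_map_of_mem (chg k d).toRingHom h2)
  have h5 := Exch.mem_NN _ h3 h4
  have h6 := Ideal.mem_map_of_mem (bak k d) h5
  rw [bak_chg, Exch.NN, Ideal.map_sup, Ideal.map_mul, Ideal.map_mul, Ideal.map_pow,
    Ideal.map_pow] at h6
  exact sup_le_sup (Ideal.mul_mono (Ideal.mul_mono (Ideal.pow_right_mono map_bak_IU 2)
    (Ideal.pow_right_mono map_bak_IV 2)) map_bak_IW) map_bak_EE h6

end K984.PolyExch
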