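import Groth.Agent.DiagIdeal.K984.Part4

/-!
# Relations modulo the image of the second map
-/

set_option autoImplicit false

namespace K984.Rels

open TensorProduct K984.Tri K984.Op K984.Part2 K984.Part4

section aux

variable {R M : Type*} [CommRing R] [AddCommGroup M] [Module R M]

theorem aux3a (a b b' e e' f f' g g' : R) (m n : M) :
    (3 : R) • ((a * (e - e') * (f - f') * (g - g')) • m + (a * (b - b') * (f - f') * (g - g')) • n) =
    (g - g') • (f - f') • (e - e') • a • ((2 : R) • m - -m) +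
      (g' - g) • (f' - f) • (a * (b - b')) • ((2 : R) • n - -n) := by module

theorem aux3b (a b b' e e' f f' : R) (m n : M) :
    (3 : R) • ((a * (f - f') * (e - e')) • m - (a * (f - f') * (b - b')) • n) =
    (a * (f - f')) • ((e - e') • ((2 : R) • m - -m) - (b - b') • ((2 : R) • n - -n)) := by module

theorem aux3c (a a' b b' e e' : R) (m n : M) :
    (3 : R) • ((2 : R) • ((a * (e - e')) • m + (a * (b - b')) • n) + ((a' - a) * (b - b')) • n) =
    a • ((e - e') • ((2 : R) • m - -m) + (b - b') • ((2 : R) • n - -n)) +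
    a • ((e - e') • ((2 : R) • m - -m) + (b - b') • ((2 : R) • n - -n)) +
    ((a' - a) * (b - b')) • ((2 : R) • n - -n) := by module

end aux

variable (k : Type*) (A : Type*) [CommRing k] [CommRing A] [Algebra k A]

/-- The submodule of elements fixed by the swap and killed by `δ`. -/
noncomputable def T1s : Submodule k (A ⊗[k] (A ⊗[k] A)) where
  carrier := {y | T1 y}
  add_mem' := by
    rintro x y ⟨hx, hx'⟩ ⟨hy, hy'⟩
    refine ⟨by rw [map_add, hx, hy], ?_⟩
    rw [δ₀, map_add, map_add, add_sub_add_comm, ← δ₀, ← δ₀, hx', hy', add_zero]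
  zero_mem' := ⟨map_zero _, by rw [δ₀]; simp⟩
  smul_mem' := by
    rintro c x ⟨hx, hx'⟩
    refine ⟨by rw [map_smul, hx], ?_⟩
    rw [δ₀, map_smul, map_smul, ← smul_sub, ← δ₀, hx', smul_zero]

/-- The image of `T₁` under `E`. -/
noncomputable def S : Submodule k (MM k A) := (T1s k A).map (E k A)

variable {k A}

theorem E_mem_S {y : A ⊗[k] (A ⊗[k] A)} (h1 : sw k A y = y) (h2 : δ₀ y = 0) : E k A y ∈ S k A :=
  ⟨y, ⟨h1, h2⟩, rfl⟩

/-- `1 ⊗ b - b ⊗ 1`. -/
noncomputable def del (k : Type*) {A : Type*} [CommRing k] [CommRing A] [Algebra k A] (b : A) :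
    A ⊗[k] A := (1 : A) ⊗ₜ[k] b - b ⊗ₜ[k] (1 : A)

theorem del_mem (b : A) : del k b ∈ KaehlerDifferential.ideal k A :=
  KaehlerDifferential.one_smul_sub_smul_one_mem_ideal k b

theorem δ₀_eq_zero_of {y : A ⊗[k] (A ⊗[k] A)} (h : rQR k A y = 0) : δ₀ y = 0 := by
  rw [δ₀, h]; simp

theorem mem_of_nat_smul {S : Submodule k (MM k A)} (n : ℕ) (hn : IsUnit (n : k)) {m : MM k A}
    (h : (n : A ⊗[k] A) • m ∈ S) : m ∈ S := by
  obtain ⟨c, hc⟩ := hn
  rw [Nat.cast_smul_eq_nsmul, ← Nat.cast_smul_eq_nsmul k, ← hc] at h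
  have := S.smul_mem (↑c⁻¹ : k) h
  rwa [smul_smul, Units.inv_mul, one_smul] at this

theorem rel3a (h3 : IsUnit (3 : k)) (a b e f g : A) :
    (a ⊗ₜ[k] (1 : A) * del k e * del k f * del k g) • tm k A (KaehlerDifferential.D k A b) 1 +
      (a ⊗ₜ[k] (1 : A) * del k b * del k f * del k g) • tm k A (KaehlerDifferential.D k A e) 1
      ∈ S k A := by
  have hy := E_mem_S (k := k) (A := A)
    (y := p k a * (q k b - p k b) * (s k e - p k e) * (s k f - q k f) * (s k g - q k g) +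
      p k a * (s k b - p k b) * (q k e - p k e) * (q k f - s k f) * (q k g - s k g))
    (by
      simp only [map_add, map_mul, map_sub, sw_p, sw_q, sw_s]
      ring)
    (by
      apply δ₀_eq_zero_of
      simp only [map_add, map_mul, map_sub, rQR_p, rQR_q, rQR_s, sub_self, mul_zero, add_zero])
  refine mem_of_nat_smul 3 (by exact_mod_cast h3) ?_
  convert hy using 1
  simp only [map_add, E_mul, map_sub, map_mul, E_p, E_q, E_s, rPQ_p, rPQ_q, rPQ_s, sub_self,
    mul_zero, zero_mul, zero_smul, smul_zero, add_zero, zero_add, del, Nat.cast_ofNat]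
  exact aux3a _ _ _ _ _ _ _ _ _ _ _

theorem rel3b (h3 : IsUnit (3 : k)) (a b e f : A) :
    (a ⊗ₜ[k] (1 : A) * del k f * del k e) • tm k A (KaehlerDifferential.D k A b) 1 -
      (a ⊗ₜ[k] (1 : A) * del k f * del k b) • tm k A (KaehlerDifferential.D k A e) 1
      ∈ S k A := by
  have hy := E_mem_S (k := k) (A := A)
    (y := p k a * (s k f - q k f) * ((q k b - p k b) * (s k e - p k e) -
      (s k b - p k b) * (q k e - p k e)))
    (by
      simp only [map_mul, map_sub, sw_p, sw_q, sw_s]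
      ring)
    (by
      apply δ₀_eq_zero_of
      simp only [map_mul, map_sub, rQR_p, rQR_q, rQR_s, sub_self, mul_zero])
  refine mem_of_nat_smul 3 (by exact_mod_cast h3) ?_
  convert hy using 1
  simp only [map_add, E_mul, map_sub, map_mul, E_p, E_q, E_s, rPQ_p, rPQ_q, rPQ_s, sub_self,
    mul_zero, zero_mul, zero_smul, smul_zero, add_zero, zero_add, del, Nat.cast_ofNat]
  exact aux3b _ _ _ _ _ _ _ _ _

theorem comm_eq_algHom (x : A ⊗[k] A) :
    TensorProduct.comm k A A x = Algebra.TensorProduct.comm k A A x := rfl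

theorem rel3c (h3 : IsUnit (3 : k)) (a b e : A) :
    (2 : A ⊗[k] A) • ((a ⊗ₜ[k] (1 : A) * del k e) • tm k A (KaehlerDifferential.D k A b) 1 +
      (a ⊗ₜ[k] (1 : A) * del k b) • tm k A (KaehlerDifferential.D k A e) 1) +
      (del k a * del k b) • tm k A (KaehlerDifferential.D k A e) 1 ∈ S k A := by
  have hy := E_mem_S (k := k) (A := A)
    (y := 2 * (p k a * ((q k b - p k b) * (s k e - p k e) + (s k b - p k b) * (q k e - p k e))) +
      ((q k a - p k a) * (q k b - p k b) * (s k e - p k e) +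
       (s k a - p k a) * (s k b - p k b) * (q k e - p k e)))
    (by
      simp only [map_mul, map_sub, map_add, sw_p, sw_q, sw_s, map_ofNat]
      ring)
    (by
      rw [δ₀, comm_eq_algHom]
      simp only [map_mul, map_sub, map_add, rQR_p, rQR_q, rQR_s, map_ofNat,
        Algebra.TensorProduct.comm_tmul]
      ring)
  refine mem_of_nat_smul 3 (by exact_mod_cast h3) ?_
  convert hy using 1
  rw [two_mul]
  simp only [map_add, E_mul, map_sub, map_mul, E_p, E_q, E_s, rPQ_p, rPQ_q, rPQ_s, sub_self,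
    mul_zero, zero_mul, zero_smul, smul_zero, add_zero, zero_add, del, Nat.cast_ofNat]
  exact aux3c _ _ _ _ _ _ _ _

theorem vanish3 (h2 : IsUnit (2 : k)) (h3 : IsUnit (3 : k)) (a b e f g : A) :
    (a ⊗ₜ[k] (1 : A) * del k e * del k f * del k g) • tm k A (KaehlerDifferential.D k A b) 1
      ∈ S k A := by
  have e1 := rel3a h3 a b e f g
  have e2 := rel3a h3 a e f b g
  have e3 := rel3a h3 a f b e g
  refine mem_of_nat_smul 2 (by exact_mod_cast h2) ?_
  have := add_mem (sub_mem e1 e2) e3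
  convert this using 1
  rw [show a ⊗ₜ[k] (1 : A) * del k f * del k b * del k g =
    a ⊗ₜ[k] (1 : A) * del k b * del k f * del k g by ring,
    show a ⊗ₜ[k] (1 : A) * del k e * del k b * del k g =
    a ⊗ₜ[k] (1 : A) * del k b * del k e * del k g by ring,
    show a ⊗ₜ[k] (1 : A) * del k f * del k e * del k g =
    a ⊗ₜ[k] (1 : A) * del k e * del k f * del k g by ring]
  rw [Nat.cast_ofNat, two_smul]
  abel

theorem tm_θ_mul (c : A) (x : A ⊗[k] A) :
    tm k A (θ k A (c ⊗ₜ[k] (1 : A) * x)) 1 = (c ⊗ₜ[k] (1 : A)) • tm k A (θ k A x) 1 := by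
  rw [smul_tm, mul_smul_θ, one_mul]

theorem θ_del (b : A) : θ k A (del k b) = KaehlerDifferential.D k A b := θ_dI b

/-- Induction on the diagonal ideal. -/
theorem ind {P : A ⊗[k] A → Prop} (h0 : P 0) (hadd : ∀ x y, P x → P y → P (x + y))
    (h : ∀ a b : A, P ((a ⊗ₜ[k] (1 : A)) * del k b)) :
    ∀ x ∈ KaehlerDifferential.ideal k A, P x := Theta.ideal_induction h0 hadd h

theorem mul_mem3 (h2 : IsUnit (2 : k)) (h3 : IsUnit (3 : k)) {f g h : A ⊗[k] A}
    (hf : f ∈ KaehlerDifferential.ideal k A) (hg : g ∈ KaehlerDifferential.ideal k A)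
    (hh : h ∈ KaehlerDifferential.ideal k A) (w : Ω[A⁄k]) :
    (f * g * h) • tm k A w 1 ∈ S k A := by
  obtain ⟨j, rfl⟩ := θ_surj w
  refine ind (P := fun f => (f * g * h) • tm k A (θ k A (j : A ⊗[k] A)) 1 ∈ S k A) (by simp)
    (fun x y hx hy => by rw [add_mul, add_mul, add_smul]; exact add_mem hx hy) ?_ f hf
  intro a1 b1
  refine ind (P := fun g => ((a1 ⊗ₜ[k] (1 : A)) * del k b1 * g * h) •
    tm k A (θ k A (j : A ⊗[k] A)) 1 ∈ S k A) (by simp)
    (fun x y hx hy => by rw [mul_add, add_mul, add_smul]; exact add_mem hx hy) ?_ g hg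
  intro a2 b2
  refine ind (P := fun h => ((a1 ⊗ₜ[k] (1 : A)) * del k b1 * ((a2 ⊗ₜ[k] (1 : A)) * del k b2) * h) •
    tm k A (θ k A (j : A ⊗[k] A)) 1 ∈ S k A) (by simp)
    (fun x y hx hy => by rw [mul_add, add_smul]; exact add_mem hx hy) ?_ h hh
  intro a3 b3
  refine ind (P := fun j => ((a1 ⊗ₜ[k] (1 : A)) * del k b1 * ((a2 ⊗ₜ[k] (1 : A)) * del k b2) *
    ((a3 ⊗ₜ[k] (1 : A)) * del k b3)) • tm k A (θ k A j) 1 ∈ S k A) (by simp)
    (fun x y hx hy => by rw [map_add, map_add, LinearMap.add_apply, smul_add]; exact add_mem hx hy)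
    ?_ j j.2
  intro a4 b4
  rw [tm_θ_mul, smul_smul, θ_del]
  convert vanish3 h2 h3 (a1 * a2 * a3 * a4) b4 b1 b2 b3 using 2
  rw [show (a1 * a2 * a3 * a4) ⊗ₜ[k] (1 : A) = (a1 ⊗ₜ[k] (1 : A)) * (a2 ⊗ₜ[k] (1 : A)) *
    (a3 ⊗ₜ[k] (1 : A)) * (a4 ⊗ₜ[k] (1 : A)) by simp]
  ring

theorem exchange (h3 : IsUnit (3 : k)) {f g h : A ⊗[k] A}
    (hf : f ∈ KaehlerDifferential.ideal k A) (hg : g ∈ KaehlerDifferential.ideal k A)
    (hh : h ∈ KaehlerDifferential.ideal k A) :
    (f * g) • tm k A (θ k A h) 1 - (f * h) • tm k A (θ k A g) 1 ∈ S k A := by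
  refine ind (P := fun f => (f * g) • tm k A (θ k A h) 1 - (f * h) • tm k A (θ k A g) 1 ∈ S k A)
    (by simp) (fun x y hx hy => by
      rw [add_mul, add_mul, add_smul, add_smul, add_sub_add_comm]; exact add_mem hx hy) ?_ f hf
  intro a1 b1
  refine ind (P := fun g => ((a1 ⊗ₜ[k] (1 : A)) * del k b1 * g) • tm k A (θ k A h) 1 -
      ((a1 ⊗ₜ[k] (1 : A)) * del k b1 * h) • tm k A (θ k A g) 1 ∈ S k A)
    (by simp) (fun x y hx hy => by
      rw [mul_add, add_smul, map_add, map_add, LinearMap.add_apply, smul_add, add_sub_add_comm]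
      exact add_mem hx hy) ?_ g hg
  intro a2 b2
  refine ind (P := fun h => ((a1 ⊗ₜ[k] (1 : A)) * del k b1 * ((a2 ⊗ₜ[k] (1 : A)) * del k b2)) •
      tm k A (θ k A h) 1 -
      ((a1 ⊗ₜ[k] (1 : A)) * del k b1 * h) •
      tm k A (θ k A ((a2 ⊗ₜ[k] (1 : A)) * del k b2)) 1 ∈ S k A)
    (by simp) (fun x y hx hy => by
      rw [mul_add, add_smul, map_add, map_add, LinearMap.add_apply, smul_add, add_sub_add_comm]
      exact add_mem hx hy) ?_ h hh
  intro a3 b3
  rw [tm_θ_mul, tm_θ_mul, smul_smul, smul_smul, θ_del, θ_del]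
  convert rel3b h3 (a1 * a2 * a3) b3 b2 b1 using 3
  · rw [show (a1 * a2 * a3) ⊗ₜ[k] (1 : A) = (a1 ⊗ₜ[k] (1 : A)) * (a2 ⊗ₜ[k] (1 : A)) *
      (a3 ⊗ₜ[k] (1 : A)) by simp]
    ring
  · rw [show (a1 * a2 * a3) ⊗ₜ[k] (1 : A) = (a1 ⊗ₜ[k] (1 : A)) * (a2 ⊗ₜ[k] (1 : A)) *
      (a3 ⊗ₜ[k] (1 : A)) by simp]
    ring

theorem anti (h2 : IsUnit (2 : k)) (h3 : IsUnit (3 : k)) (S₂ : Submodule k (MM k A)) (hS : S k A ≤ S₂)
    (hS₂ : ∀ f ∈ KaehlerDifferential.ideal k A, ∀ g ∈ KaehlerDifferential.ideal k A,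
      ∀ w : Ω[A⁄k], (f * g) • tm k A w 1 ∈ S₂) {g h : A ⊗[k] A}
    (hg : g ∈ KaehlerDifferential.ideal k A)
    (hh : h ∈ KaehlerDifferential.ideal k A) :
    g • tm k A (θ k A h) 1 + h • tm k A (θ k A g) 1 ∈ S₂ := by
  refine ind (P := fun g => g • tm k A (θ k A h) 1 + h • tm k A (θ k A g) 1 ∈ S₂)
    (by simp) (fun x y hx hy => by
      rw [add_smul, map_add, map_add, LinearMap.add_apply, smul_add, add_add_add_comm]
      exact add_mem hx hy) ?_ g hg
  intro a1 b1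
  refine ind (P := fun h => ((a1 ⊗ₜ[k] (1 : A)) * del k b1) • tm k A (θ k A h) 1 +
      h • tm k A (θ k A ((a1 ⊗ₜ[k] (1 : A)) * del k b1)) 1 ∈ S₂)
    (by simp) (fun x y hx hy => by
      rw [add_smul, map_add, map_add, LinearMap.add_apply, smul_add, add_add_add_comm]
      exact add_mem hx hy) ?_ h hh
  intro a2 b2
  rw [tm_θ_mul, tm_θ_mul, smul_smul, smul_smul, θ_del, θ_del]
  have e1 := hS (rel3c h3 (a1 * a2) b1 b2)
  have e2 := hS₂ _ (del_mem (a1 * a2)) _ (del_mem b1) (KaehlerDifferential.D k A b2)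
  have e3 := sub_mem e1 e2
  rw [add_sub_cancel_right] at e3
  have e4 := mem_of_nat_smul 2 (by exact_mod_cast h2) e3
  convert e4 using 1
  rw [show (a1 * a2) ⊗ₜ[k] (1 : A) = (a1 ⊗ₜ[k] (1 : A)) * (a2 ⊗ₜ[k] (1 : A)) by simp]
  rw [add_comm]
  congr 2 <;> ring

end K984.Rels
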