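import Mathlib.RingTheory.Kaehler.Basic

/-!
# The map `x ⊗ y ↦ x • D y` and its kernel

`A ⊗ A = A ⊗ 1 ⊕ I`, and the map `θ : A ⊗ A → Ω` kills `A ⊗ 1` and induces `I / I ^ 2 = Ω`.
-/

set_option autoImplicit false

namespace K984.Theta

open TensorProduct

variable {k A : Type*} [CommRing k] [CommRing A] [Algebra k A]

/-- `x - m(x) ⊗ 1` lies in `I`. -/
theorem sub_mem (x : A ⊗[k] A) :
    x - (Algebra.TensorProduct.lmul' k x) ⊗ₜ[k] (1 : A) ∈ KaehlerDifferential.ideal k A := by
  rw [RingHom.mem_ker]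
  simp

/-- If `θ x = 0` then `x - m(x) ⊗ 1` lies in `I ^ 2`. -/
theorem sub_mem_sq (x : A ⊗[k] A)
    (h : (KaehlerDifferential.D k A).tensorProductTo x = 0) :
    x - (Algebra.TensorProduct.lmul' k x) ⊗ₜ[k] (1 : A) ∈ (KaehlerDifferential.ideal k A) ^ 2 := by
  have h2 := KaehlerDifferential.D_tensorProductTo (R := k) (S := A) ⟨_, sub_mem x⟩
  simp only [map_sub, h, Derivation.tensorProductTo_tmul, Derivation.map_one_eq_zero, smul_zero,
    sub_zero] at h2
  exact (Ideal.toCotangent_eq_zero _ _).1 h2.symm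

/-- An element of `I` killed by `θ` lies in `I ^ 2`. -/
theorem mem_sq_of_mem (x : A ⊗[k] A) (hx : x ∈ KaehlerDifferential.ideal k A)
    (h : (KaehlerDifferential.D k A).tensorProductTo x = 0) :
    x ∈ (KaehlerDifferential.ideal k A) ^ 2 := by
  have h2 := sub_mem_sq x h
  rw [RingHom.mem_ker] at hx
  have hx' : Algebra.TensorProduct.lmul' k x = 0 := hx
  simpa [hx'] using h2

/-- Induction on the elements of `I`. -/
theorem ideal_induction {p : A ⊗[k] A → Prop} (h0 : p 0)
    (hadd : ∀ x y, p x → p y → p (x + y))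
    (h : ∀ a b : A, p ((a ⊗ₜ[k] (1 : A)) * ((1 : A) ⊗ₜ[k] b - b ⊗ₜ[k] (1 : A)))) :
    ∀ x ∈ KaehlerDifferential.ideal k A, p x := by
  intro x hx
  have key : ∀ x : A ⊗[k] A, p (x - (Algebra.TensorProduct.lmul' k x) ⊗ₜ[k] (1 : A)) := by
    intro x
    induction x using TensorProduct.induction_on with
    | zero => simpa using h0
    | tmul a b =>
      have := h a b
      simpa [mul_sub] using this
    | add x y hx hy =>
      have := hadd _ _ hx hy
      rw [map_add, TensorProduct.add_tmul]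
      convert this using 1
      abel
  have hx' : Algebra.TensorProduct.lmul' k x = 0 := hx
  simpa [hx'] using key x

/-- Induction on the elements of `I ^ 2`. -/
theorem sq_induction {p : A ⊗[k] A → Prop} (h0 : p 0)
    (hadd : ∀ x y, p x → p y → p (x + y))
    (h : ∀ a b c : A, p ((a ⊗ₜ[k] (1 : A)) * ((1 : A) ⊗ₜ[k] b - b ⊗ₜ[k] (1 : A)) *
      ((1 : A) ⊗ₜ[k] c - c ⊗ₜ[k] (1 : A)))) :
    ∀ x ∈ (KaehlerDifferential.ideal k A) ^ 2, p x := by
  intro x hx
  rw [pow_two] at hx
  induction hx using Submodule.mul_induction_on' with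
  | mem_mul_mem f hf g hg =>
    refine ideal_induction (p := fun f => p (f * g)) (by simpa using h0)
      (fun x y hx hy => by rw [add_mul]; exact hadd _ _ hx hy) ?_ f hf
    intro a b
    refine ideal_induction (p := fun g => p (_ * g)) (by simpa using h0)
      (fun x y hx hy => by rw [mul_add]; exact hadd _ _ hx hy) ?_ g hg
    intro a' c
    have := h (a * a') b c
    convert this using 1
    rw [show (a * a') ⊗ₜ[k] (1 : A) = (a ⊗ₜ[k] (1 : A)) * (a' ⊗ₜ[k] (1 : A)) by simp]
    ring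
  | add x _ y _ hx hy => exact hadd _ _ hx hy

end K984.Theta
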