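import Groth.Agent.DiagIdeal.K984.TriLoc
import Groth.Agent.DiagIdeal.K984.Theta

/-!
# The triple tensor product `A ⊗ (A ⊗ A)`

Coordinates `p`, `q`, `s`, the ideals of the three diagonals, and the restriction maps.
-/

set_option autoImplicit false

namespace K984.Tri

open TensorProduct

section defs

variable (k : Type*) {A : Type*} [CommRing k] [CommRing A] [Algebra k A]

/-- First coordinate. -/
noncomputable def p : A →ₐ[k] A ⊗[k] (A ⊗[k] A) := Algebra.TensorProduct.includeLeft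

/-- Second coordinate. -/
noncomputable def q : A →ₐ[k] A ⊗[k] (A ⊗[k] A) :=
  Algebra.TensorProduct.includeRight.comp Algebra.TensorProduct.includeLeft

/-- Third coordinate. -/
noncomputable def s : A →ₐ[k] A ⊗[k] (A ⊗[k] A) :=
  Algebra.TensorProduct.includeRight.comp Algebra.TensorProduct.includeRight

variable {k}

theorem p_apply (a : A) : p k a = a ⊗ₜ[k] ((1 : A) ⊗ₜ[k] (1 : A)) := rfl

theorem q_apply (a : A) : q k a = (1 : A) ⊗ₜ[k] (a ⊗ₜ[k] (1 : A)) := rfl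

theorem s_apply (a : A) : s k a = (1 : A) ⊗ₜ[k] ((1 : A) ⊗ₜ[k] a) := rfl

theorem tmul_eq (a u w : A) : a ⊗ₜ[k] (u ⊗ₜ[k] w) = p k a * q k u * s k w := by
  simp [p_apply, q_apply, s_apply]

variable (k A)

/-- The ideal of `P = Q`. -/
noncomputable def IPQ : Ideal (A ⊗[k] (A ⊗[k] A)) := Ideal.span (Set.range fun a : A => q k a - p k a)

/-- The ideal of `P = R`. -/
noncomputable def IPR : Ideal (A ⊗[k] (A ⊗[k] A)) := Ideal.span (Set.range fun a : A => s k a - p k a)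

/-- The ideal of `Q = R`. -/
noncomputable def IQR : Ideal (A ⊗[k] (A ⊗[k] A)) := Ideal.span (Set.range fun a : A => q k a - s k a)

/-- The exchange ideal. -/
noncomputable def exch : Ideal (A ⊗[k] (A ⊗[k] A)) :=
  Ideal.span (Set.range fun t : (A × A) × (A × A) =>
    (q k t.1.1 - p k t.1.1) * (s k t.1.2 - p k t.1.2) *
      ((q k t.2.1 - p k t.2.1) * (s k t.2.2 - p k t.2.2) -
        (q k t.2.2 - p k t.2.2) * (s k t.2.1 - p k t.2.1)))

variable {k A}

theorem PQ_mem (a : A) : q k a - p k a ∈ IPQ k A := Ideal.subset_span ⟨a, rfl⟩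

theorem PR_mem (a : A) : s k a - p k a ∈ IPR k A := Ideal.subset_span ⟨a, rfl⟩

theorem QR_mem (a : A) : q k a - s k a ∈ IQR k A := Ideal.subset_span ⟨a, rfl⟩

variable (k A)

/-- The swap of the last two factors. -/
noncomputable def sw : A ⊗[k] (A ⊗[k] A) →ₐ[k] A ⊗[k] (A ⊗[k] A) :=
  Algebra.TensorProduct.map (AlgHom.id k A) (Algebra.TensorProduct.comm k A A).toAlgHom

variable {k A}

theorem sw_tmul (a u w : A) : sw k A (a ⊗ₜ[k] (u ⊗ₜ[k] w)) = a ⊗ₜ[k] (w ⊗ₜ[k] u) := by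
  simp [sw]

theorem sw_eq (y : A ⊗[k] (A ⊗[k] A)) :
    sw k A y = LinearMap.lTensor A (TensorProduct.comm k A A).toLinearMap y := by
  have : (sw k A).toLinearMap = LinearMap.lTensor A (TensorProduct.comm k A A).toLinearMap := by
    apply TensorProduct.ext
    apply LinearMap.ext
    intro a
    apply TensorProduct.ext'
    intro u w
    change sw k A (a ⊗ₜ[k] (u ⊗ₜ[k] w)) = _
    rw [sw_tmul]
    rfl
  exact LinearMap.congr_fun this y

theorem sw_p (a : A) : sw k A (p k a) = p k a := by rw [p_apply, sw_tmul]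

theorem sw_q (a : A) : sw k A (q k a) = s k a := by rw [q_apply, sw_tmul, s_apply]

theorem sw_s (a : A) : sw k A (s k a) = q k a := by rw [s_apply, sw_tmul, q_apply]

variable (k A)

/-- Restriction to `P = Q`. -/
noncomputable def rPQ : A ⊗[k] (A ⊗[k] A) →ₐ[k] A ⊗[k] A :=
  Algebra.TensorProduct.lift Algebra.TensorProduct.includeLeft (AlgHom.id k _)
    (fun _ _ => Commute.all _ _)

/-- Restriction to `Q = R`. -/
noncomputable def rQR : A ⊗[k] (A ⊗[k] A) →ₐ[k] A ⊗[k] A :=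
  Algebra.TensorProduct.map (AlgHom.id k A) (Algebra.TensorProduct.lmul' k)

/-- Functions of `P`, `R`. -/
noncomputable def jPR : A ⊗[k] A →ₐ[k] A ⊗[k] (A ⊗[k] A) :=
  Algebra.TensorProduct.lift (p k) (s k) (fun _ _ => Commute.all _ _)

/-- Functions of `P`, `Q`. -/
noncomputable def jPQ : A ⊗[k] A →ₐ[k] A ⊗[k] (A ⊗[k] A) :=
  Algebra.TensorProduct.lift (p k) (q k) (fun _ _ => Commute.all _ _)

variable {k A}

theorem rPQ_tmul (a u w : A) : rPQ k A (a ⊗ₜ[k] (u ⊗ₜ[k] w)) = (a * u) ⊗ₜ[k] w := by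
  simp [rPQ]

theorem rQR_tmul (a u w : A) : rQR k A (a ⊗ₜ[k] (u ⊗ₜ[k] w)) = a ⊗ₜ[k] (u * w) := by
  simp [rQR]

theorem jPR_tmul (a w : A) : jPR k A (a ⊗ₜ[k] w) = p k a * s k w := by simp [jPR]

theorem jPQ_tmul (a w : A) : jPQ k A (a ⊗ₜ[k] w) = p k a * q k w := by simp [jPQ]

theorem rQR_p (a : A) : rQR k A (p k a) = a ⊗ₜ[k] (1 : A) := by rw [p_apply, rQR_tmul, mul_one]

theorem rQR_q (a : A) : rQR k A (q k a) = (1 : A) ⊗ₜ[k] a := by rw [q_apply, rQR_tmul, mul_one]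

theorem rQR_s (a : A) : rQR k A (s k a) = (1 : A) ⊗ₜ[k] a := by rw [s_apply, rQR_tmul, one_mul]

theorem rPQ_p (a : A) : rPQ k A (p k a) = a ⊗ₜ[k] (1 : A) := by rw [p_apply, rPQ_tmul, mul_one]

theorem rPQ_q (a : A) : rPQ k A (q k a) = a ⊗ₜ[k] (1 : A) := by rw [q_apply, rPQ_tmul, one_mul]

theorem rPQ_s (a : A) : rPQ k A (s k a) = (1 : A) ⊗ₜ[k] a := by rw [s_apply, rPQ_tmul, one_mul]

/-- Induction principle for the triple tensor product. -/
theorem tri_induction {P : A ⊗[k] (A ⊗[k] A) → Prop} (h0 : P 0)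
    (hadd : ∀ x y, P x → P y → P (x + y)) (h : ∀ a u w : A, P (p k a * q k u * s k w)) :
    ∀ y, P y := by
  intro y
  induction y using TensorProduct.induction_on with
  | zero => exact h0
  | tmul a y =>
    induction y using TensorProduct.induction_on with
    | zero => rw [TensorProduct.tmul_zero]; exact h0
    | tmul u w => rw [tmul_eq]; exact h a u w
    | add x y hx hy => rw [TensorProduct.tmul_add]; exact hadd _ _ hx hy
  | add x y hx hy => exact hadd _ _ hx hy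

theorem sub_jPR_mem (y : A ⊗[k] (A ⊗[k] A)) : y - jPR k A (rPQ k A y) ∈ IPQ k A := by
  refine tri_induction (P := fun y => y - jPR k A (rPQ k A y) ∈ IPQ k A) (by simp) ?_ ?_ y
  · intro x y hx hy
    rw [map_add, map_add, add_sub_add_comm]
    exact add_mem hx hy
  · intro a u w
    rw [← tmul_eq, rPQ_tmul, jPR_tmul, tmul_eq, map_mul]
    have : p k a * q k u * s k w - p k a * p k u * s k w = (p k a * s k w) * (q k u - p k u) := by
      ring
    rw [this]
    exact Ideal.mul_mem_left _ _ (PQ_mem u)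

theorem sub_jPQ_mem (y : A ⊗[k] (A ⊗[k] A)) : y - jPQ k A (rQR k A y) ∈ IQR k A := by
  refine tri_induction (P := fun y => y - jPQ k A (rQR k A y) ∈ IQR k A) (by simp) ?_ ?_ y
  · intro x y hx hy
    rw [map_add, map_add, add_sub_add_comm]
    exact add_mem hx hy
  · intro a u w
    rw [← tmul_eq, rQR_tmul, jPQ_tmul, tmul_eq, map_mul]
    have : p k a * q k u * s k w - p k a * (q k u * q k w) = -(p k a * q k u) * (q k w - s k w) := by
      ring
    rw [this]
    exact Ideal.mul_mem_left _ _ (QR_mem w)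

theorem mem_IPQ_of_rPQ (y : A ⊗[k] (A ⊗[k] A)) (h : rPQ k A y = 0) : y ∈ IPQ k A := by
  have := sub_jPR_mem y
  rwa [h, map_zero, sub_zero] at this

theorem mem_IQR_of_rQR (y : A ⊗[k] (A ⊗[k] A)) (h : rQR k A y = 0) : y ∈ IQR k A := by
  have := sub_jPQ_mem y
  rwa [h, map_zero, sub_zero] at this

theorem map_sw_IPQ : (IPQ k A).map (sw k A).toRingHom ≤ IPR k A := by
  rw [IPQ, Ideal.map_span, Ideal.span_le]
  rintro _ ⟨_, ⟨a, rfl⟩, rfl⟩
  change sw k A (q k a - p k a) ∈ _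
  rw [map_sub, sw_q, sw_p]
  exact PR_mem a

end defs

section loc

variable {k A : Type*} [Field k] [CommRing A] [Algebra k A] [Algebra.Smooth k A] [IsDomain A]

local notation "sg" => PiAlg.single k (fun _ : Fin 3 => A)

omit [Algebra.Smooth k A] [IsDomain A]

variable (k A) in
/-- The three coordinates. -/
noncomputable def coord (i : Fin 3) : A →ₐ[k] A ⊗[k] (A ⊗[k] A) :=
  if i = 0 then p k else if i = 1 then q k else s k

variable (k A) in
/-- From the tensor power. -/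
noncomputable def fromPi : (⨂[k] _ : Fin 3, A) →ₐ[k] A ⊗[k] (A ⊗[k] A) := PiAlg.lift (coord k A)

variable (k A) in
/-- To the tensor power. -/
noncomputable def toPi : A ⊗[k] (A ⊗[k] A) →ₐ[k] (⨂[k] _ : Fin 3, A) :=
  Algebra.TensorProduct.lift (sg 0)
    (Algebra.TensorProduct.lift (sg 1) (sg 2) (fun _ _ => Commute.all _ _))
    (fun _ _ => Commute.all _ _)

theorem fromPi_0 (a : A) : fromPi k A (sg 0 a) = p k a := by
  rw [fromPi, PiAlg.lift_single]; simp [coord]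

theorem fromPi_1 (a : A) : fromPi k A (sg 1 a) = q k a := by
  rw [fromPi, PiAlg.lift_single]; simp [coord]

theorem fromPi_2 (a : A) : fromPi k A (sg 2 a) = s k a := by
  rw [fromPi, PiAlg.lift_single]; simp [coord]

theorem toPi_p (a : A) : toPi k A (p k a) = sg 0 a := by simp [toPi, p_apply]

theorem toPi_q (a : A) : toPi k A (q k a) = sg 1 a := by simp [toPi, q_apply]

theorem toPi_s (a : A) : toPi k A (s k a) = sg 2 a := by simp [toPi, s_apply]

theorem fromPi_toPi (y : A ⊗[k] (A ⊗[k] A)) : fromPi k A (toPi k A y) = y := by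
  refine tri_induction (P := fun y => fromPi k A (toPi k A y) = y) (by simp) ?_ ?_ y
  · intro x y hx hy
    rw [map_add, map_add, hx, hy]
  · intro a u w
    simp only [map_mul, toPi_p, toPi_q, toPi_s, fromPi_0, fromPi_1, fromPi_2]

theorem toPi_PQ : (IPQ k A).map (toPi k A).toRingHom ≤ Loc.diag k A (0 : Fin 3) 1 := by
  rw [IPQ, Ideal.map_span, Ideal.span_le]
  rintro _ ⟨_, ⟨a, rfl⟩, rfl⟩
  change toPi k A (q k a - p k a) ∈ _
  rw [map_sub, toPi_q, toPi_p, ← neg_sub]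
  exact neg_mem (Loc.sub_mem_diag 0 1 a)

theorem toPi_PR : (IPR k A).map (toPi k A).toRingHom ≤ Loc.diag k A (0 : Fin 3) 2 := by
  rw [IPR, Ideal.map_span, Ideal.span_le]
  rintro _ ⟨_, ⟨a, rfl⟩, rfl⟩
  change toPi k A (s k a - p k a) ∈ _
  rw [map_sub, toPi_s, toPi_p, ← neg_sub]
  exact neg_mem (Loc.sub_mem_diag 0 2 a)

theorem toPi_QR : (IQR k A).map (toPi k A).toRingHom ≤ Loc.diag k A (1 : Fin 3) 2 := by
  rw [IQR, Ideal.map_span, Ideal.span_le]
  rintro _ ⟨_, ⟨a, rfl⟩, rfl⟩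
  change toPi k A (q k a - s k a) ∈ _
  rw [map_sub, toPi_q, toPi_s]
  exact Loc.sub_mem_diag 1 2 a

theorem fromPi_01 : (Loc.diag k A (0 : Fin 3) 1).map (fromPi k A).toRingHom ≤ IPQ k A := by
  rw [Loc.diag, Ideal.map_span, Ideal.span_le]
  rintro _ ⟨_, ⟨a, rfl⟩, rfl⟩
  change fromPi k A (sg 0 a - sg 1 a) ∈ _
  rw [map_sub, fromPi_0, fromPi_1, ← neg_sub]
  exact neg_mem (PQ_mem a)

theorem fromPi_02 : (Loc.diag k A (0 : Fin 3) 2).map (fromPi k A).toRingHom ≤ IPR k A := by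
  rw [Loc.diag, Ideal.map_span, Ideal.span_le]
  rintro _ ⟨_, ⟨a, rfl⟩, rfl⟩
  change fromPi k A (sg 0 a - sg 2 a) ∈ _
  rw [map_sub, fromPi_0, fromPi_2, ← neg_sub]
  exact neg_mem (PR_mem a)

theorem fromPi_12 : (Loc.diag k A (1 : Fin 3) 2).map (fromPi k A).toRingHom ≤ IQR k A := by
  rw [Loc.diag, Ideal.map_span, Ideal.span_le]
  rintro _ ⟨_, ⟨a, rfl⟩, rfl⟩
  change fromPi k A (sg 1 a - sg 2 a) ∈ _
  rw [map_sub, fromPi_1, fromPi_2]
  exact QR_mem a

theorem fromPi_exch : (TriLoc.exchA k A).map (fromPi k A).toRingHom ≤ exch k A := by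
  rw [TriLoc.exchA, Ideal.map_span, Ideal.span_le]
  rintro _ ⟨_, ⟨t, rfl⟩, rfl⟩
  refine Ideal.subset_span ⟨t, ?_⟩
  change _ = fromPi k A _
  simp only [map_mul, map_sub, fromPi_0, fromPi_1, fromPi_2]

variable [Algebra.Smooth k A] [IsDomain A]

theorem mem_mul_of_mem_sq (y : A ⊗[k] (A ⊗[k] A)) (h1 : y ∈ IPQ k A ^ 2) (h2 : y ∈ IPR k A ^ 2) :
    y ∈ IPQ k A ^ 2 * IPR k A ^ 2 := by
  have h1' := Ideal.mem_map_of_mem (toPi k A).toRingHom h1
  have h2' := Ideal.mem_map_of_mem (toPi k A).toRingHom h2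
  rw [Ideal.map_pow] at h1' h2'
  have h3 := TriLoc.mem_mul_of_mem_sq _ (Ideal.pow_right_mono (toPi_PQ (k := k) (A := A)) 2 h1')
    (Ideal.pow_right_mono (toPi_PR (k := k) (A := A)) 2 h2')
  have h4 := Ideal.mem_map_of_mem (fromPi k A).toRingHom h3
  rw [Ideal.map_mul, Ideal.map_pow, Ideal.map_pow] at h4
  have h5 : (fromPi k A).toRingHom ((toPi k A).toRingHom y) = y := fromPi_toPi y
  rw [h5] at h4
  exact Ideal.mul_mono (Ideal.pow_right_mono (fromPi_01 (k := k) (A := A)) 2) (Ideal.pow_right_mono (fromPi_02 (k := k) (A := A)) 2) h4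

theorem mem_exch (y : A ⊗[k] (A ⊗[k] A)) (h1 : y ∈ IPQ k A ^ 2 * IPR k A ^ 2) (h2 : y ∈ IQR k A) :
    y ∈ IPQ k A ^ 2 * IPR k A ^ 2 * IQR k A ⊔ exch k A := by
  have h1' := Ideal.mem_map_of_mem (toPi k A).toRingHom h1
  have h2' := Ideal.mem_map_of_mem (toPi k A).toRingHom h2
  rw [Ideal.map_mul, Ideal.map_pow, Ideal.map_pow] at h1'
  have h3 := TriLoc.mem_exch _ (Ideal.mul_mono (Ideal.pow_right_mono (toPi_PQ (k := k) (A := A)) 2)
    (Ideal.pow_right_mono (toPi_PR (k := k) (A := A)) 2) h1') ((toPi_QR (k := k) (A := A)) h2')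
  have h4 := Ideal.mem_map_of_mem (fromPi k A).toRingHom h3
  rw [Ideal.map_sup, Ideal.map_mul, Ideal.map_mul, Ideal.map_pow, Ideal.map_pow] at h4
  have h5 : (fromPi k A).toRingHom ((toPi k A).toRingHom y) = y := fromPi_toPi y
  rw [h5] at h4
  exact sup_le_sup (Ideal.mul_mono (Ideal.mul_mono (Ideal.pow_right_mono (fromPi_01 (k := k) (A := A)) 2)
    (Ideal.pow_right_mono (fromPi_02 (k := k) (A := A)) 2)) (fromPi_12 (k := k) (A := A))) (fromPi_exch (k := k) (A := A)) h4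

end loc

end K984.Tri
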