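import Groth.Agent.DiagIdeal.K984.PolyExch
import Groth.Agent.DiagIdeal.K984.InvMain

/-!
# Local facts on the triple product of a smooth domain
-/

set_option autoImplicit false

namespace K984.TriLoc

open TensorProduct Loc LinIdeal PolyDiag

section ext

variable {A L B : Type*} [CommRing A] [CommRing L] [CommRing B] [Algebra A L]

/-- The exchange element. -/
def G (α₀ α₁ α₂ : L →+* B) (x y z w : L) : B :=
  (α₁ x - α₀ x) * (α₂ y - α₀ y) *
    ((α₁ z - α₀ z) * (α₂ w - α₀ w) - (α₁ w - α₀ w) * (α₂ z - α₀ z))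

theorem G_mem (S : Submonoid A) [IsLocalization S L] (α₀ α₁ α₂ : L →+* B) (N : Ideal B)
    (hD : ∀ x y t w z : L, (α₁ x - α₀ x) * (α₂ y - α₀ y) * (α₁ t - α₂ t) * (α₁ w - α₀ w) *
      (α₂ z - α₀ z) ∈ N)
    (hN : ∀ a b c e : A, G α₀ α₁ α₂ (algebraMap A L a) (algebraMap A L b) (algebraMap A L c)
      (algebraMap A L e) ∈ N) (x y z w : L) : G α₀ α₁ α₂ x y z w ∈ N := by
  have hex : ∀ x : L, ∃ (a t : A), IsUnit (algebraMap A L t) ∧
      algebraMap A L t * x = algebraMap A L a := by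
    intro x
    obtain ⟨⟨a, t⟩, h⟩ := IsLocalization.surj S x
    exact ⟨a, t, IsLocalization.map_units L t, by rw [mul_comm]; exact h⟩
  have hcancel : ∀ (c b : B), IsUnit c → c * b ∈ N → b ∈ N := by
    intro c b hc h
    obtain ⟨c', hc'⟩ := hc.exists_left_inv
    have := N.mul_mem_left c' h
    rwa [← mul_assoc, hc', one_mul] at this
  have hanti : ∀ x y z w, G α₀ α₁ α₂ x y z w = - G α₀ α₁ α₂ x y w z := by
    intro x y z w
    simp only [G]
    ring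
  -- third variable
  have h3 : ∀ (x y w : L), (∀ c : A, G α₀ α₁ α₂ x y (algebraMap A L c) w ∈ N) →
      ∀ z, G α₀ α₁ α₂ x y z w ∈ N := by
    intro x y w hw z
    obtain ⟨a, t, ht, h⟩ := hex z
    apply hcancel (α₁ (algebraMap A L t)) _ (ht.map α₁)
    have e : α₁ (algebraMap A L t) * G α₀ α₁ α₂ x y z w =
        G α₀ α₁ α₂ x y (algebraMap A L a) w - α₀ z * G α₀ α₁ α₂ x y (algebraMap A L t) w -
        (α₁ x - α₀ x) * (α₂ y - α₀ y) * (α₁ (algebraMap A L t) - α₂ (algebraMap A L t)) *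
          (α₁ w - α₀ w) * (α₂ z - α₀ z) := by
      simp only [G]
      rw [← h, map_mul, map_mul, map_mul]
      ring
    rw [e]
    exact sub_mem (sub_mem (hw a) (N.mul_mem_left _ (hw t))) (hD _ _ _ _ _)
  have h3' : ∀ (a b : A) (z w : L), G α₀ α₁ α₂ (algebraMap A L a) (algebraMap A L b) z w ∈ N := by
    intro a b z w
    apply h3
    intro c
    rw [hanti]
    apply neg_mem
    apply h3
    intro e
    exact hN _ _ _ _
  -- first variable
  have h1 : ∀ (b : A) (x z w : L), G α₀ α₁ α₂ x (algebraMap A L b) z w ∈ N := by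
    intro b x z w
    obtain ⟨a, t, ht, h⟩ := hex x
    apply hcancel (α₁ (algebraMap A L t)) _ (ht.map α₁)
    have e : α₁ (algebraMap A L t) * G α₀ α₁ α₂ x (algebraMap A L b) z w =
        G α₀ α₁ α₂ (algebraMap A L a) (algebraMap A L b) z w -
        α₀ x * G α₀ α₁ α₂ (algebraMap A L t) (algebraMap A L b) z w := by
      simp only [G]
      rw [← h, map_mul, map_mul]
      ring
    rw [e]
    exact sub_mem (h3' _ _ _ _) (N.mul_mem_left _ (h3' _ _ _ _))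
  obtain ⟨b, t, ht, h⟩ := hex y
  apply hcancel (α₂ (algebraMap A L t)) _ (ht.map α₂)
  have e : α₂ (algebraMap A L t) * G α₀ α₁ α₂ x y z w =
      G α₀ α₁ α₂ x (algebraMap A L b) z w - α₀ y * G α₀ α₁ α₂ x (algebraMap A L t) z w := by
    simp only [G]
    rw [← h, map_mul, map_mul]
    ring
  rw [e]
  exact sub_mem (h1 _ _ _ _) (N.mul_mem_left _ (h1 _ _ _ _))

end ext

variable {k A : Type*} [Field k] [CommRing A] [Algebra k A] [Algebra.Smooth k A] [IsDomain A]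

local notation "R3" => (⨂[k] _ : Fin 3, A)
local notation "sg" => PiAlg.single k (fun _ : Fin 3 => A)

section chartfacts

variable {n : ℕ} (𝔪 : Ideal (⨂[k] _ : Fin n, A)) [h𝔪 : 𝔪.IsPrime]

theorem α_sub_mem {i j : Fin n} (p : PrimeSpectrum A) (hi : cF k A p ∉ (pt 𝔪 i).asIdeal)
    (hj : cF k A p ∉ (pt 𝔪 j).asIdeal) (x : Localization.Away (cF k A p)) :
    α 𝔪 i p hi x - α 𝔪 j p hj x ∈
      (diag k A i j).map (algebraMap _ (Localization.AtPrime 𝔪)) := by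
  set D := (diag k A i j).map (algebraMap _ (Localization.AtPrime 𝔪)) with hD
  have : (Ideal.Quotient.mk D).comp (α 𝔪 i p hi).toRingHom =
      (Ideal.Quotient.mk D).comp (α 𝔪 j p hj).toRingHom := by
    apply IsLocalization.ringHom_ext (Submonoid.powers (cF k A p))
    ext y
    change Ideal.Quotient.mk D (α 𝔪 i p hi (algebraMap A _ y)) =
      Ideal.Quotient.mk D (α 𝔪 j p hj (algebraMap A _ y))
    rw [α_algebraMap, α_algebraMap, Ideal.Quotient.mk_eq_mk_iff_sub_mem, ← map_sub]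
    exact Ideal.mem_map_of_mem _ (sub_mem_diag i j y)
  rw [← Ideal.Quotient.mk_eq_mk_iff_sub_mem]
  exact RingHom.congr_fun this x

omit [Algebra.Smooth k A] [IsDomain A] in
theorem map_eq_top_of_not_le {J : Ideal (⨂[k] _ : Fin n, A)} (h : ¬ J ≤ 𝔪) :
    J.map (algebraMap _ (Localization.AtPrime 𝔪)) = ⊤ := by
  obtain ⟨a, ha, ha'⟩ := SetLike.not_le_iff_exists.1 h
  exact Ideal.eq_top_of_isUnit_mem _ (Ideal.mem_map_of_mem _ ha)
    (IsLocalization.map_units (Localization.AtPrime 𝔪) (⟨a, ha'⟩ : 𝔪.primeCompl))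

end chartfacts

theorem disjoint_V {d : ℕ} : Disjoint (V k 0 1 : Submodule k (Fin 3 × Fin d → k)) (V k 0 2) := by
  rw [Submodule.disjoint_def]
  rintro _ ⟨a, rfl⟩ ⟨b, hb⟩
  have h : ∀ l, a l = 0 := by
    intro l
    have := congrFun hb (1, l)
    simp [emb_apply] at this
    exact this
  have ha : a = 0 := funext h
  rw [ha, map_zero]

/-- `I₀₁² ∩ I₀₂² = I₀₁² I₀₂²`. -/
theorem mem_mul_of_mem_sq (y : R3) (h1 : y ∈ diag k A (0 : Fin 3) 1 ^ 2)
    (h2 : y ∈ diag k A (0 : Fin 3) 2 ^ 2) :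
    y ∈ diag k A (0 : Fin 3) 1 ^ 2 * diag k A (0 : Fin 3) 2 ^ 2 := by
  apply Ideal.mem_of_localization_maximal
  intro 𝔪 h𝔪
  haveI := h𝔪.isPrime
  set φ := algebraMap R3 (Localization.AtPrime 𝔪) with hφ
  have h1' := Ideal.mem_map_of_mem φ h1
  have h2' := Ideal.mem_map_of_mem φ h2
  rw [Ideal.map_pow] at h1' h2'
  rw [Ideal.map_mul, Ideal.map_pow, Ideal.map_pow]
  by_cases h01 : diag k A (0 : Fin 3) 1 ≤ 𝔪
  swap
  · rw [map_eq_top_of_not_le 𝔪 h01, Ideal.top_pow, Ideal.top_mul]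
    exact h2'
  by_cases h02 : diag k A (0 : Fin 3) 2 ≤ 𝔪
  swap
  · rw [map_eq_top_of_not_le 𝔪 h02, Ideal.top_pow, Ideal.mul_top]
    exact h1'
  rw [map_diag 𝔪 h01, ← Ideal.map_pow] at h1' ⊢
  rw [map_diag 𝔪 h02, ← Ideal.map_pow] at h2' ⊢
  rw [← Ideal.map_mul]
  have h3 : (ideal (V k 0 1 : Submodule k (Fin 3 × Fin (Chart.dim k A) → k)) ^ 2 ⊓
      ideal (V k 0 2 : Submodule k (Fin 3 × Fin (Chart.dim k A) → k)) ^ 2) ≤
      ideal (V k 0 1) ^ 2 * ideal (V k 0 2) ^ 2 := by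
    rintro g ⟨hg1, hg2⟩
    exact Indep.inf_pow_le disjoint_V ((Indep.Gen.ideal le_rfl).pow 2) 2 g hg1 hg2
  exact Ideal.map_mono h3 (FlatInf.mem_map_inf _ (chart_flat 𝔪) _ _ h1' h2')

variable (k A) in
/-- The exchange ideal. -/
noncomputable def exchA : Ideal R3 :=
  Ideal.span (Set.range fun t : (A × A) × (A × A) =>
    (sg 1 t.1.1 - sg 0 t.1.1) * (sg 2 t.1.2 - sg 0 t.1.2) *
      ((sg 1 t.2.1 - sg 0 t.2.1) * (sg 2 t.2.2 - sg 0 t.2.2) -
        (sg 1 t.2.2 - sg 0 t.2.2) * (sg 2 t.2.1 - sg 0 t.2.1)))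

theorem map_exchIdeal_le (𝔪 : Ideal R3) [𝔪.IsPrime] (h01 : diag k A (0 : Fin 3) 1 ≤ 𝔪)
    (h02 : diag k A (0 : Fin 3) 2 ≤ 𝔪) :
    (PolyExch.exchIdeal k (Chart.dim k A)).map (chart 𝔪).toRingHom ≤
      (diag k A (0 : Fin 3) 1 ^ 2 * diag k A (0 : Fin 3) 2 ^ 2 * diag k A (1 : Fin 3) 2 ⊔
        exchA k A).map (algebraMap R3 (Localization.AtPrime 𝔪)) := by
  set φ := algebraMap R3 (Localization.AtPrime 𝔪) with hφ
  set N := (diag k A (0 : Fin 3) 1 ^ 2 * diag k A (0 : Fin 3) 2 ^ 2 * diag k A (1 : Fin 3) 2 ⊔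
        exchA k A).map φ with hN
  set p := pt 𝔪 0 with hp
  have e1 : pt 𝔪 1 = p := (pt_eq 𝔪 h01).symm
  have e2 : pt 𝔪 2 = p := (pt_eq 𝔪 h02).symm
  have c0 : cF k A p ∉ (pt 𝔪 0).asIdeal := cF_notMem k A p
  have c1 : cF k A p ∉ (pt 𝔪 1).asIdeal := by rw [e1]; exact cF_notMem k A p
  have c2 : cF k A p ∉ (pt 𝔪 2).asIdeal := by rw [e2]; exact cF_notMem k A p
  let a0 := α 𝔪 0 p c0
  let a1 := α 𝔪 1 p c1
  let a2 := α 𝔪 2 p c2
  have hsymm : ∀ (i j : Fin 3), (diag k A i j).map φ = (diag k A j i).map φ := by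
    intro i j
    exact le_antisymm (Ideal.map_mono (InvMain.diag_symm_le le_rfl))
      (Ideal.map_mono (InvMain.diag_symm_le le_rfl))
  have hu : ∀ x, a1 x - a0 x ∈ (diag k A (0 : Fin 3) 1).map φ := fun x => by
    rw [hsymm]; exact α_sub_mem 𝔪 p c1 c0 x
  have hv : ∀ x, a2 x - a0 x ∈ (diag k A (0 : Fin 3) 2).map φ := fun x => by
    rw [hsymm]; exact α_sub_mem 𝔪 p c2 c0 x
  have hw : ∀ x, a1 x - a2 x ∈ (diag k A (1 : Fin 3) 2).map φ := fun x =>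
    α_sub_mem 𝔪 p c1 c2 x
  have key := G_mem (A := A) (L := Localization.Away (cF k A p)) (Submonoid.powers (cF k A p))
    a0.toRingHom a1.toRingHom a2.toRingHom N
    (by
      intro x y t w z
      change (a1 x - a0 x) * (a2 y - a0 y) * (a1 t - a2 t) * (a1 w - a0 w) * (a2 z - a0 z) ∈ N
      rw [hN, Ideal.map_sup, Ideal.map_mul, Ideal.map_mul, Ideal.map_pow, Ideal.map_pow]
      apply Ideal.mem_sup_left
      have e : (a1 x - a0 x) * (a2 y - a0 y) * (a1 t - a2 t) * (a1 w - a0 w) * (a2 z - a0 z) =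
          ((a1 x - a0 x) * (a1 w - a0 w)) * ((a2 y - a0 y) * (a2 z - a0 z)) * (a1 t - a2 t) := by
        ring
      rw [e]
      refine Ideal.mul_mem_mul (Ideal.mul_mem_mul ?_ ?_) (hw t)
      · rw [pow_two]; exact Ideal.mul_mem_mul (hu x) (hu w)
      · rw [pow_two]; exact Ideal.mul_mem_mul (hv y) (hv z))
    (by
      intro a b c e
      have h0 : ∀ x, a0.toRingHom (algebraMap A _ x) = φ (sg 0 x) := fun x => α_algebraMap 𝔪 0 p c0 x
      have h1 : ∀ x, a1.toRingHom (algebraMap A _ x) = φ (sg 1 x) := fun x => α_algebraMap 𝔪 1 p c1 x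
      have h2 : ∀ x, a2.toRingHom (algebraMap A _ x) = φ (sg 2 x) := fun x => α_algebraMap 𝔪 2 p c2 x
      simp only [G, h0, h1, h2, ← map_sub, ← map_mul]
      apply Ideal.mem_map_of_mem
      apply Ideal.mem_sup_right
      exact Ideal.subset_span ⟨((a, b), (c, e)), rfl⟩)
  rw [PolyExch.exchIdeal, Ideal.map_span, Ideal.span_le]
  rintro _ ⟨_, ⟨t, rfl⟩, rfl⟩
  have hX0 : ∀ l, chart 𝔪 (MvPolynomial.X (0, l)) = a0 (cφ k A p (MvPolynomial.X l)) := fun l =>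
    chart_X' 𝔪 0 l p rfl c0
  have hX1 : ∀ l, chart 𝔪 (MvPolynomial.X (1, l)) = a1 (cφ k A p (MvPolynomial.X l)) := fun l =>
    chart_X' 𝔪 1 l p e1 c1
  have hX2 : ∀ l, chart 𝔪 (MvPolynomial.X (2, l)) = a2 (cφ k A p (MvPolynomial.X l)) := fun l =>
    chart_X' 𝔪 2 l p e2 c2
  change chart 𝔪 _ ∈ N
  simp only [map_mul, map_sub, PolyExch.uu, PolyExch.vv, hX0, hX1, hX2]
  exact key (cφ k A p (MvPolynomial.X t.1.1)) (cφ k A p (MvPolynomial.X t.1.2))
    (cφ k A p (MvPolynomial.X t.2.1)) (cφ k A p (MvPolynomial.X t.2.2))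

/-- An element of `I₀₁² I₀₂² ∩ I₁₂` is in `I₀₁² I₀₂² I₁₂` plus the exchange ideal. -/
theorem mem_exch (y : R3) (h1 : y ∈ diag k A (0 : Fin 3) 1 ^ 2 * diag k A (0 : Fin 3) 2 ^ 2)
    (h2 : y ∈ diag k A (1 : Fin 3) 2) :
    y ∈ diag k A (0 : Fin 3) 1 ^ 2 * diag k A (0 : Fin 3) 2 ^ 2 * diag k A (1 : Fin 3) 2 ⊔
      exchA k A := by
  apply Ideal.mem_of_localization_maximal
  intro 𝔪 h𝔪
  haveI := h𝔪.isPrime
  set φ := algebraMap R3 (Localization.AtPrime 𝔪) with hφ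
  have h1' := Ideal.mem_map_of_mem φ h1
  have h2' := Ideal.mem_map_of_mem φ h2
  by_cases h12 : diag k A (1 : Fin 3) 2 ≤ 𝔪
  swap
  · rw [Ideal.map_sup]
    apply Ideal.mem_sup_left
    rw [Ideal.map_mul, map_eq_top_of_not_le 𝔪 h12, Ideal.mul_top]
    exact h1'
  by_cases h01 : diag k A (0 : Fin 3) 1 ≤ 𝔪
  swap
  · have h02 : ¬ diag k A (0 : Fin 3) 2 ≤ 𝔪 := fun h02 =>
      h01 (InvMain.diag_trans_le h02 (InvMain.diag_symm_le h12))
    rw [Ideal.map_sup]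
    apply Ideal.mem_sup_left
    rw [Ideal.map_mul, Ideal.map_mul, Ideal.map_pow, Ideal.map_pow, map_eq_top_of_not_le 𝔪 h01,
      map_eq_top_of_not_le 𝔪 h02, Ideal.top_pow, Ideal.top_mul, Ideal.top_mul]
    exact h2'
  have h02 : diag k A (0 : Fin 3) 2 ≤ 𝔪 := InvMain.diag_trans_le h01 h12
  rw [Ideal.map_mul, Ideal.map_pow, Ideal.map_pow, map_diag 𝔪 h01, map_diag 𝔪 h02,
    ← Ideal.map_pow, ← Ideal.map_pow, ← Ideal.map_mul] at h1'
  rw [map_diag 𝔪 h12] at h2'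
  have h3 := FlatInf.mem_map_inf _ (chart_flat 𝔪) _ _ h1' h2'
  have hle : (ideal (V k 0 1 : Submodule k (Fin 3 × Fin (Chart.dim k A) → k)) ^ 2 *
      ideal (V k 0 2 : Submodule k (Fin 3 × Fin (Chart.dim k A) → k)) ^ 2) ⊓
      ideal (V k 1 2 : Submodule k (Fin 3 × Fin (Chart.dim k A) → k)) ≤
      ideal (V k 0 1 : Submodule k (Fin 3 × Fin (Chart.dim k A) → k)) ^ 2 *
      ideal (V k 0 2 : Submodule k (Fin 3 × Fin (Chart.dim k A) → k)) ^ 2 *
      ideal (V k 1 2 : Submodule k (Fin 3 × Fin (Chart.dim k A) → k)) ⊔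
      PolyExch.exchIdeal k (Chart.dim k A) := by
    rintro g ⟨hg1, hg2⟩
    exact PolyExch.mem_sup g hg1 hg2
  have h4 := Ideal.map_mono hle h3
  rw [Ideal.map_sup] at h4
  refine sup_le ?_ (map_exchIdeal_le 𝔪 h01 h02) h4
  rw [Ideal.map_mul, Ideal.map_mul, Ideal.map_pow, Ideal.map_pow, ← map_diag 𝔪 h01,
    ← map_diag 𝔪 h02, ← map_diag 𝔪 h12, ← Ideal.map_pow, ← Ideal.map_pow, ← Ideal.map_mul,
    ← Ideal.map_mul]
  exact Ideal.map_mono le_sup_left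

end K984.TriLoc
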